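import Cfsg.Agent.Lib.U34Type.Weak
import Cfsg.Agent.Lib.AbTwo.Assembly
import Cfsg.Agent.Lib.Fusion.Abelian
import Cfsg.Agent.Lib.Dickson.OddProduct
import Cfsg.Agent.Lib.ZStar.Main
import Cfsg.Agent.Lib.Invol.Isolated
import Mathlib.GroupTheory.SchurZassenhaus

/-!
# A central involution in the presence of a Sylow 2-subgroup of the type of `U₃(4)`

If an involution of the Sylow subgroup is central then the group is the odd core times the normalizer of
the Sylow subgroup.
-/

set_option autoImplicit false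
set_option linter.unusedSectionVars false
set_option linter.style.haveILetI false

namespace Cfsg.Lib.U34Type

open Cfsg Cfsg.Lib
open scoped MatrixGroups

universe u

variable {G : Type u} [Group G] [Finite G]

theorem odd_oddCore_card : Odd (Nat.card (Cfsg.oddCore G)) := AbTwo.odd_oddCore

theorem eq_one_of_sq_of_odd {x : G} {n : ℕ} (hn : Odd n) (h1 : x * x = 1) (h2 : x ^ n = 1) : x = 1 := by
  obtain ⟨m, rfl⟩ := hn
  rwa [pow_succ, pow_mul, pow_two, h1, one_pow, one_mul] at h2

theorem sylow_inf_odd (S : Sylow 2 G) {K : Subgroup G} (hK : Odd (Nat.card K)) :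
    (S : Subgroup G) ⊓ K = ⊥ := by
  refine Subgroup.eq_bot_of_card_eq _ ?_
  obtain ⟨k, hk⟩ := S.2.exists_card_eq
  refine Nat.eq_one_of_dvd_coprimes (b := Nat.card K) ?_
    (Subgroup.card_dvd_of_le inf_le_left) (Subgroup.card_dvd_of_le inf_le_right)
  rw [hk]
  exact Nat.Coprime.pow_left k (Nat.coprime_two_left.2 hK)

/-- With a central involution in `E` all involutions of `E` are isolated. -/
theorem isolated {S : Sylow 2 G} {E : Subgroup G} (w : Weak (S : Subgroup G) E) {t e : G}
    (ht : t ∈ E) (ht1 : t ≠ 1) (hc : ∀ g : G, Commute t g) (he : e ∈ E) (he1 : e ≠ 1) :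
    IsIsolatedInvolution e := by
  refine Invol.isolated_of_sylow S (w.orderOf_two he he1) fun g hg => ?_
  by_cases het : e = t
  · subst het
    rw [← (hc g).eq, mul_inv_cancel_right]
  set b := g * e * g⁻¹ with hb
  have hbE : b ∈ E := w.invol b hg (by
    rw [hb, show g * e * g⁻¹ * (g * e * g⁻¹) = g * (e * e) * g⁻¹ by group, w.esq e he]; group)
  have hb1 : b ≠ 1 := fun h => he1 (conj_eq_one_iff.1 h)
  have hbt : b ≠ t := fun h => het (by
    have h2 : e = g⁻¹ * t * g := by rw [← h, hb]; group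
    rw [h2, mul_assoc, (hc g).eq, inv_mul_cancel_left])
  rcases w.four he ht he1 ht1 het hbE with h | h | h | h
  · exact absurd h hb1
  · exact h
  · exact absurd h hbt
  exfalso
  have hC : ∀ x ∈ E, x ∈ Subgroup.centralizer ((S : Subgroup G) : Set G) := fun x hx =>
    Subgroup.mem_centralizer_iff.2 fun y hy => (w.central x hx y hy).symm.eq
  obtain ⟨n, hn, hne⟩ := S.conj_eq_normalizer_conj_of_mem_centralizer e g⁻¹ (hC e he)
    (by rw [inv_inv, ← hb]; exact hC b hbE)
  rw [inv_inv, ← hb, h] at hne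
  -- `n⁻¹` interchanges `e` and `e * t`
  set m := n⁻¹ with hm
  have hmn : m ∈ Subgroup.normalizer ((S : Subgroup G) : Set G) := inv_mem hn
  have h1 : m * e * m⁻¹ = e * t := by rw [hm, inv_inv]; exact hne.symm
  have h2 : m * (e * t) * m⁻¹ = e := by
    calc m * (e * t) * m⁻¹ = (m * e * m⁻¹) * (m * t * m⁻¹) := by group
      _ = e * t * t := by rw [h1, ← (hc m).eq, mul_inv_cancel_right]
      _ = e := by rw [mul_assoc, w.esq t ht, mul_one]
  have hodd : ∀ j : ℕ, m ^ (2 * j + 1) * e * (m ^ (2 * j + 1))⁻¹ = e * t := by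
    intro j
    induction j with
    | zero => simpa using h1
    | succ j ih =>
      calc m ^ (2 * (j + 1) + 1) * e * (m ^ (2 * (j + 1) + 1))⁻¹
          = m * (m * (m ^ (2 * j + 1) * e * (m ^ (2 * j + 1))⁻¹) * m⁻¹) * m⁻¹ := by
            rw [show 2 * (j + 1) + 1 = (2 * j + 1) + 1 + 1 by ring, pow_succ', pow_succ' m (2 * j + 1)]
            group
        _ = e * t := by rw [ih, h2, h1]
  obtain ⟨a, k, hk, hak⟩ := Nat.exists_eq_two_pow_mul_odd (orderOf_pos m).ne'
  have hmk : m ^ k ∈ (S : Subgroup G) := by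
    refine PiHom.U34.mem_of_two_power ?_ (pow_mem hmn k)
    obtain ⟨b, -, hb⟩ := (Nat.dvd_prime_pow Nat.prime_two).1
      (orderOf_dvd_of_pow_eq_one (x := m ^ k) (n := 2 ^ a) (by
        rw [← pow_mul, mul_comm, ← hak, pow_orderOf_eq_one]))
    exact ⟨b, hb⟩
  obtain ⟨j, rfl⟩ := hk
  have := hodd j
  rw [← (w.central e he _ hmk).eq, mul_inv_cancel_right] at this
  exact ht1 (left_eq_mul.1 this)

section Top

variable {S : Sylow 2 G} {E : Subgroup G} [E.Normal]

/-- The image of the Sylow subgroup modulo `E`. -/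
noncomputable abbrev bar (S : Sylow 2 G) (E : Subgroup G) [E.Normal] : Sylow 2 (G ⧸ E) :=
  S.mapSurjective (QuotientGroup.mk'_surjective E)

theorem bar_abelian (w : Weak (S : Subgroup G) E) :
    IsMulCommutative ↥(bar S E : Subgroup (G ⧸ E)) := by
  refine ⟨⟨?_⟩⟩
  rintro ⟨_, a, ha, rfl⟩ ⟨_, b, hb, rfl⟩
  refine Subtype.ext ?_
  simp only [MulMemClass.coe_mul, ← map_mul]
  refine QuotientGroup.eq.2 ?_
  have := w.comm b⁻¹ (inv_mem hb) a⁻¹ (inv_mem ha)
  rwa [show (a * b)⁻¹ * (b * a) = b⁻¹ * a⁻¹ * b⁻¹⁻¹ * a⁻¹⁻¹ by group]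

theorem oddCore_quotient_bot (w : Weak (S : Subgroup G) E) (hcen : E ≤ Subgroup.center G)
    (hO : Cfsg.oddCore G = ⊥) : Cfsg.oddCore (G ⧸ E) = ⊥ := by
  set f := QuotientGroup.mk' E
  set o := Nat.card (Cfsg.oddCore (G ⧸ E)) with ho
  have hodd : Odd o := odd_oddCore_card
  set N := (Cfsg.oddCore (G ⧸ E)).comap f with hN
  have hle : E ≤ N := fun x hx => by
    rw [hN, Subgroup.mem_comap, show f x = 1 from (QuotientGroup.eq_one_iff x).2 hx]
    exact one_mem _
  have hcN : Nat.card N = 4 * o := by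
    have h1 := N.card_mul_index
    rw [hN, Subgroup.index_comap_of_surjective _ (QuotientGroup.mk'_surjective E),
      Subgroup.card_eq_card_quotient_mul_card_subgroup E, w.cardE,
      ← (Cfsg.oddCore (G ⧸ E)).card_mul_index] at h1
    have hi : (Cfsg.oddCore (G ⧸ E)).index ≠ 0 := Subgroup.index_ne_zero_of_finite
    exact Nat.eq_of_mul_eq_mul_right (Nat.pos_of_ne_zero hi) (by rw [h1, ho]; ring)
  have hcE : Nat.card (E.subgroupOf N) = 4 :=
    (Nat.card_congr (Subgroup.subgroupOfEquivOfLe hle).toEquiv).trans w.cardE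
  have hiE : (E.subgroupOf N).index = o := by
    have h1 := (E.subgroupOf N).card_mul_index
    rw [hcE, hcN] at h1
    omega
  obtain ⟨K, hK⟩ := Subgroup.exists_right_complement'_of_coprime (N := E.subgroupOf N) (by
    rw [hcE, hiE, show (4 : ℕ) = 2 ^ 2 by norm_num]
    exact Nat.Coprime.pow_left 2 (Nat.coprime_two_left.2 hodd))
  have hcK : Nat.card K = o := by
    have h1 := hK.card_mul
    rw [hcE, hcN] at h1
    omega
  have hmem : ∀ x : G, x ∈ K.map N.subtype ↔ x ∈ N ∧ x ^ o = 1 := by
    refine fun x => ⟨?_, fun ⟨hx, hxo⟩ => ?_⟩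
    · rintro ⟨k, hk, rfl⟩
      have h2 : (⟨k, hk⟩ : K) ^ o = 1 := hcK ▸ pow_card_eq_one'
      exact ⟨k.2, congrArg (fun y : K => ((y : N) : G)) h2⟩
    · obtain ⟨⟨⟨e, he⟩, k⟩, hek, -⟩ := hK.existsUnique ⟨x, hx⟩
      have hex : (e : G) * ((k : N) : G) = x := congrArg Subtype.val hek
      have hk : ((k : N) : G) ^ o = 1 :=
        congrArg (fun y : K => ((y : N) : G)) (hcK ▸ pow_card_eq_one' : k ^ o = 1)
      have heE : (e : G) ∈ E := he
      have hce : Commute (e : G) ((k : N) : G) := (Subgroup.mem_center_iff.1 (hcen heE) _).symm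
      have he1 : (e : G) = 1 := eq_one_of_sq_of_odd hodd (w.esq _ heE) (by
        rw [← hex, hce.mul_pow, hk, mul_one] at hxo
        exact hxo)
      rw [he1, one_mul] at hex
      exact ⟨k, k.2, hex⟩
  haveI : N.Normal := (inferInstance : (Cfsg.oddCore (G ⧸ E)).Normal).comap f
  haveI hKn : (K.map N.subtype).Normal := ⟨fun x hx g => by
    obtain ⟨h1, h2⟩ := (hmem x).1 hx
    exact (hmem _).2 ⟨(inferInstance : N.Normal).conj_mem x h1 g, by rw [conj_pow, h2]; group⟩⟩
  have hle' : K.map N.subtype ≤ Cfsg.oddCore G := Core.le_pPrimeCore (by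
    rw [Subgroup.card_map_of_injective (Subgroup.subtype_injective _), hcK]
    exact Nat.coprime_two_right.2 hodd)
  rw [hO, le_bot_iff, Subgroup.map_eq_bot_iff_of_injective _ (Subgroup.subtype_injective _)] at hle'
  refine Subgroup.eq_bot_of_card_eq _ ?_
  rw [← ho, ← hcK, hle', Subgroup.card_bot]

/-- No four-group of the quotient has three conjugate involutions. -/
theorem no_three (w : Weak (S : Subgroup G) E) (hcen : E ≤ Subgroup.center G) {a b : G ⧸ E}
    (ha1 : a ≠ 1) (ha : a * a = 1) (hb1 : b ≠ 1) (hb : b * b = 1) (hab : Commute a b) (hne : a ≠ b)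
    (h1 : IsConj a b) (h2 : IsConj a (a * b)) : False := by
  haveI : Fact (Nat.Prime 2) := ⟨Nat.prime_two⟩
  set f := QuotientGroup.mk' E
  have hp : ∀ x : G ⧸ E, x * x = 1 → IsPGroup 2 (Subgroup.zpowers x) := fun x hx => by
    obtain ⟨k, -, hk⟩ := (Nat.dvd_prime_pow Nat.prime_two).1
      (orderOf_dvd_of_pow_eq_one (x := x) (n := 2 ^ 1) (by rw [pow_one, pow_two, hx]))
    exact IsPGroup.of_card (by rw [Nat.card_zpowers, hk])
  have hPG : IsPGroup 2 ↥(Subgroup.zpowers a ⊔ Subgroup.zpowers b) :=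
    IsPGroup.to_sup_of_normal_right' (hp a ha) (hp b hb) (by
      rw [Subgroup.zpowers_le]
      refine Subgroup.mem_normalizer_iff.2 fun y => ?_
      constructor
      · rintro ⟨k, rfl⟩
        exact ⟨k, by rw [(hab.zpow_right k).eq, mul_inv_cancel_right]⟩
      · rintro ⟨k, hk⟩
        exact ⟨k, by
          dsimp only at hk ⊢
          rw [show y = a⁻¹ * (a * y * a⁻¹) * a by group, ← hk, mul_assoc, ← (hab.zpow_right k).eq,
            inv_mul_cancel_left]⟩)
  obtain ⟨Q, hQ⟩ := hPG.exists_le_sylow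
  obtain ⟨c, hcQ⟩ := MulAction.exists_smul_eq (G ⧸ E) Q (bar S E)
  have hc : ∀ y ∈ (Q : Subgroup (G ⧸ E)), c * y * c⁻¹ ∈ (bar S E : Subgroup (G ⧸ E)) := fun y hy => by
    rw [← hcQ]
    exact ⟨y, hy, by simp [MulAut.smul_def]⟩
  obtain ⟨x, hx, hxa⟩ := hc a (hQ (Subgroup.mem_sup_left (Subgroup.mem_zpowers a)))
  obtain ⟨y, hy, hyb⟩ := hc b (hQ (Subgroup.mem_sup_right (Subgroup.mem_zpowers b)))
  set a' := c * a * c⁻¹
  set b' := c * b * c⁻¹
  have hxE : x ∉ E := fun h => ha1 (by
    have : a' = 1 := by rw [← hxa]; exact (QuotientGroup.eq_one_iff x).2 h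
    exact conj_eq_one_iff.1 this)
  have hyE : y ∉ E := fun h => hb1 (by
    have : b' = 1 := by rw [← hyb]; exact (QuotientGroup.eq_one_iff y).2 h
    exact conj_eq_one_iff.1 this)
  have key : ∀ {u v : G}, u ∈ (S : Subgroup G) → IsConj (f u) (f v) → u * u = v * v := by
    intro u v hu h
    obtain ⟨g, hg⟩ := isConj_iff.1 h
    obtain ⟨g, rfl⟩ := QuotientGroup.mk'_surjective E g
    rw [← map_inv, ← map_mul, ← map_mul] at hg
    obtain ⟨e, hmem, rfl⟩ : ∃ e ∈ E, v = g * u * g⁻¹ * e :=
      ⟨(g * u * g⁻¹)⁻¹ * v, QuotientGroup.eq.1 hg, (mul_inv_cancel_left _ _).symm⟩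
    have hsq : Commute (u * u) g := (Subgroup.mem_center_iff.1 (hcen (w.sq u hu)) g).symm
    have hce : Commute e (g * u * g⁻¹) := (Subgroup.mem_center_iff.1 (hcen hmem) _).symm
    calc u * u = g * (u * u) * g⁻¹ := by rw [← hsq.eq, mul_inv_cancel_right]
      _ = (g * u * g⁻¹) * (g * u * g⁻¹) * (e * e) := by rw [w.esq e hmem]; group
      _ = (g * u * g⁻¹) * ((g * u * g⁻¹) * e) * e := by group
      _ = (g * u * g⁻¹) * (e * (g * u * g⁻¹)) * e := by rw [hce.eq]
      _ = g * u * g⁻¹ * e * (g * u * g⁻¹ * e) := by group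
  have c1 : IsConj a' b' := ((isConj_iff.2 ⟨c, rfl⟩ : IsConj a a').symm.trans h1).trans
    (isConj_iff.2 ⟨c, rfl⟩)
  have c2 : IsConj a' (a' * b') := ((isConj_iff.2 ⟨c, rfl⟩ : IsConj a a').symm.trans h2).trans
    (isConj_iff.2 ⟨c, (conj_mul).symm⟩)
  have e1 : x * x = y * y := key hx (by rw [hxa, hyb]; exact c1)
  have e2 : x * x = x * y * (x * y) := key hx (by rw [map_mul, hxa, hyb]; exact c2)
  refine w.noQ8 x hx y hy hxE hyE e1 ?_
  set k := x * y * x⁻¹ * y⁻¹
  have hk : k ∈ E := w.comm x hx y hy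
  have h4 : (x * x) * (x * x) = 1 := w.esq _ (w.sq x hx)
  have e3 : x * y * (x * y) = k * ((x * x) * (y * y)) := by
    have hcom : Commute (x * x) y := w.central _ (w.sq x hx) y hy
    calc x * y * (x * y) = k * (y * (x * x) * y) := by simp only [k]; group
      _ = k * ((x * x) * (y * y)) := by rw [← hcom.eq]; group
  rw [e3, ← e1, h4, mul_one] at e2
  exact e2.symm

end Top

theorem core_sup_sylow_normal : ∀ (n : ℕ) (G : Type u) [Group G] [Finite G], Nat.card G ≤ n →
    ∀ (S : Sylow 2 G) (E : Subgroup G), Weak (S : Subgroup G) E → ∀ t ∈ E, t ≠ 1 →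
    (∀ g : G, Commute t g) → (Cfsg.oddCore G ⊔ (S : Subgroup G)).Normal := by
  intro n
  induction n using Nat.strong_induction_on with
  | _ n ih =>
    intro G _ _ hn S E w t ht ht1 hc
    haveI : Fact (Nat.Prime 2) := ⟨Nat.prime_two⟩
    by_cases hO : Cfsg.oddCore G = ⊥
    swap
    · set f := QuotientGroup.mk' (Cfsg.oddCore G)
      have hinj : ∀ x ∈ (S : Subgroup G), ∀ y ∈ (S : Subgroup G), f x = f y → x = y := by
        intro x hx y hy h
        have : x⁻¹ * y ∈ (S : Subgroup G) ⊓ Cfsg.oddCore G :=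
          Subgroup.mem_inf.2 ⟨mul_mem (inv_mem hx) hy, QuotientGroup.eq.1 h⟩
        rw [sylow_inf_odd S odd_oddCore_card, Subgroup.mem_bot] at this
        exact inv_mul_eq_one.1 this
      have hlt : Nat.card (G ⧸ Cfsg.oddCore G) < Nat.card G := by
        rw [Subgroup.card_eq_card_quotient_mul_card_subgroup (Cfsg.oddCore G)]
        refine lt_mul_of_one_lt_right Nat.card_pos ?_
        exact (Subgroup.one_lt_card_iff_ne_bot _).2 hO
      have h := ih _ (lt_of_lt_of_le hlt hn) (G ⧸ Cfsg.oddCore G) le_rfl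
        (S.mapSurjective (QuotientGroup.mk'_surjective _)) (E.map f) (w.map hinj) (f t) ⟨t, ht, rfl⟩
        (fun h => ht1 (hinj t (w.le ht) 1 (one_mem _) (by rw [h, map_one])))
        (fun g => by
          obtain ⟨g, rfl⟩ := QuotientGroup.mk'_surjective _ g
          exact (hc g).map f)
      rw [show Cfsg.oddCore (G ⧸ Cfsg.oddCore G) = ⊥ from Core.pPrimeCore_quotient_eq_bot, bot_sup_eq] at h
      have he : Cfsg.oddCore G ⊔ (S : Subgroup G) = ((S : Subgroup G).map f).comap f := by
        rw [Subgroup.comap_map_eq, QuotientGroup.ker_mk', sup_comm]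
      rw [he]
      exact h.comap f
    rw [hO, bot_sup_eq]
    have hEc : E ≤ Subgroup.center G := fun e he => by
      by_cases he1 : e = 1
      · rw [he1]; exact one_mem _
      exact ZStar.mem_center_of_isolated hO (isolated w ht ht1 hc he he1)
    haveI hEn : E.Normal := ⟨fun e he g => by
      rwa [Subgroup.mem_center_iff.1 (hEc he) g, mul_inv_cancel_right]⟩
    set f := QuotientGroup.mk' E
    have hX : Nat.card G = Nat.card (G ⧸ E) * 4 := by
      rw [Subgroup.card_eq_card_quotient_mul_card_subgroup E, w.cardE]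
    have hT : IsMulCommutative ↥(bar S E : Subgroup (G ⧸ E)) := bar_abelian w
    have hO' : Cfsg.oddCore (G ⧸ E) = ⊥ := oddCore_quotient_bot w hEc hO
    have back : (bar S E : Subgroup (G ⧸ E)).Normal → (S : Subgroup G).Normal := fun h => by
      have he : (S : Subgroup G) = ((S : Subgroup G).map f).comap f := by
        rw [Subgroup.comap_map_eq, QuotientGroup.ker_mk', sup_of_le_left w.le]
      rw [he]
      exact h.comap f
    -- centralizers of the involutions in the commutator subgroup are solvable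
    have hsolv : ∀ k ∈ commutator (G ⧸ E), orderOf k = 2 → k ∈ (bar S E : Subgroup (G ⧸ E)) →
        Group.IsSolvable ↥(Subgroup.centralizer ({k} : Set (G ⧸ E))) := by
      intro k hk ho hkT
      set C := Subgroup.centralizer ({k} : Set (G ⧸ E)) with hC
      have hCtop : C ≠ ⊤ := fun h => by
        have hz : k ∈ Subgroup.center (G ⧸ E) := Subgroup.mem_center_iff.2 fun g =>
          Subgroup.mem_centralizer_singleton_iff.1 (show g ∈ C by rw [h]; exact Subgroup.mem_top g)
        haveI := hT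
        have : k ∈ (bar S E : Subgroup (G ⧸ E)) ⊓ commutator (G ⧸ E) ⊓ Subgroup.center (G ⧸ E) :=
          ⟨⟨hkT, hk⟩, hz⟩
        rw [Fusion.inf_commutator_inf_center_eq_bot_sylow, Subgroup.mem_bot] at this
        rw [this, orderOf_one] at ho
        omega
      set H := C.comap f with hH
      have hHtop : H ≠ ⊤ := fun h => hCtop (by
        rw [← Subgroup.map_comap_eq_self_of_surjective (QuotientGroup.mk'_surjective E) C, ← hH, h,
          Subgroup.map_top_of_surjective _ (QuotientGroup.mk'_surjective E)])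
      have hlt : Nat.card H < Nat.card G := lt_of_le_of_ne (Subgroup.card_le_card_group H)
        fun h => hHtop (Subgroup.eq_top_of_card_eq H h)
      have hSH : (S : Subgroup G) ≤ H := fun x hx => by
        rw [hH, Subgroup.mem_comap, Subgroup.mem_centralizer_singleton_iff]
        exact AbTwo.comm_of_mem hT ⟨x, hx, rfl⟩ hkT
      haveI h := ih _ (lt_of_lt_of_le hlt hn) H le_rfl (S.subtype hSH) (E.subgroupOf H)
        (by rw [Sylow.coe_subtype]; exact w.subgroupOf hSH) ⟨t, hSH (w.le ht)⟩ ht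
        (fun h => ht1 (congrArg Subtype.val h)) (fun g => Subtype.ext (hc g).eq)
      set M := Cfsg.oddCore H ⊔ (S.subtype hSH : Subgroup H) with hM
      haveI : Group.IsSolvable ↥(Cfsg.oddCore H) := AbTwo.isSolvable_of_odd odd_oddCore_card
      haveI : Group.IsSolvable ↥(S.subtype hSH : Subgroup H) := by
        haveI := (S.subtype hSH).2.isNilpotent
        infer_instance
      haveI : Group.IsSolvable ↥M := AbTwo.isSolvable_sup (by rw [Subgroup.normalizer_eq_top]; exact le_top)
      haveI : Group.IsSolvable (H ⧸ M) := Cfsg.Agent.S0205.result (by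
        rw [← Subgroup.index_eq_card, Nat.odd_iff]
        have h1 : ¬ 2 ∣ (S.subtype hSH : Subgroup H).index := (S.subtype hSH).not_dvd_index
        have h2 : M.index ∣ (S.subtype hSH : Subgroup H).index :=
          Subgroup.index_dvd_of_le le_sup_right
        have h3 : ¬ 2 ∣ M.index := fun h => h1 (h.trans h2)
        omega)
      haveI : Group.IsSolvable H :=
        Group.isSolvable_of_ker_le_range M.subtype (QuotientGroup.mk' M) (by simp)
      exact Group.isSolvable_of_surjective (f := f.subgroupComap C)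
        (f.subgroupComap_surjective_of_surjective C (QuotientGroup.mk'_surjective E))
    have hyp : AbTwo.Hyp ↥(commutator (G ⧸ E)) := by
      constructor
      · intro R
        obtain ⟨Q, hQ⟩ := (R.2.map (commutator (G ⧸ E)).subtype).exists_le_sylow
        exact ⟨⟨fun a b => Subtype.ext (Subtype.ext (AbTwo.comm_of_mem
          (AbTwo.abelian_of_one (bar S E) hT Q) (hQ ⟨a, a.2, rfl⟩) (hQ ⟨b, b.2, rfl⟩)))⟩⟩
      · intro k hk
        have hk2 : orderOf (k : G ⧸ E) = 2 := by rw [Subgroup.orderOf_coe, hk]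
        obtain ⟨Q, hQ⟩ := (IsPGroup.of_card (n := 1) (by rw [Nat.card_zpowers, hk2, pow_one]) :
          IsPGroup 2 (Subgroup.zpowers (k : G ⧸ E))).exists_le_sylow
        obtain ⟨c, hcQ⟩ := MulAction.exists_smul_eq (G ⧸ E) Q (bar S E)
        set k' := c * (k : G ⧸ E) * c⁻¹ with hk'
        have hk'T : k' ∈ (bar S E : Subgroup (G ⧸ E)) := by
          rw [← hcQ]
          exact ⟨k, hQ (Subgroup.mem_zpowers _), by simp [MulAut.smul_def, hk']⟩
        have hs := hsolv k' ((inferInstance : (commutator (G ⧸ E)).Normal).conj_mem _ k.2 c)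
          (by rw [hk', Invol.orderOf_conj_eq, hk2]) hk'T
        let φ : ↥(Subgroup.centralizer ({k} : Set ↥(commutator (G ⧸ E)))) →*
            ↥(Subgroup.centralizer ({k'} : Set (G ⧸ E))) :=
          ((MulAut.conj c).toMonoidHom.comp ((commutator (G ⧸ E)).subtype.comp
            (Subgroup.centralizer ({k} : Set ↥(commutator (G ⧸ E)))).subtype)).codRestrict _ fun x => by
              rw [Subgroup.mem_centralizer_singleton_iff, hk']
              have h := congrArg Subtype.val (Subgroup.mem_centralizer_singleton_iff.1 x.2)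
              simp only [MonoidHom.comp_apply, MulEquiv.coe_toMonoidHom, MulAut.conj_apply,
                Subgroup.coe_subtype, conj_mul]
              exact congrArg (fun y => c * y * c⁻¹) h
        exact Group.isSolvable_of_isSolvable_injective (f := φ) fun a b e =>
          Subtype.ext (Subtype.ext ((MulAut.conj c).injective
            (congrArg (fun y : ↥(Subgroup.centralizer ({k'} : Set (G ⧸ E))) => (y : G ⧸ E)) e)))
    rcases AbTwo.concl hyp with hs | ⟨F, hF, hF', hgood, N, -, ⟨e⟩, -⟩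
    · haveI := hs
      haveI : Group.IsSolvable (G ⧸ E) :=
        Group.isSolvable_of_ker_le_range (commutator (G ⧸ E)).subtype Abelianization.of
          (by simp [Abelianization.ker_of])
      exact back (AbTwo.sylow_normal_of_core (bar S E) hT hO').1
    exfalso
    have hOc : Cfsg.oddCore ↥(commutator (G ⧸ E)) = ⊥ := by
      have h1 := Core.pPrimeCore_map_le_of_normal (p := 2) (H := commutator (G ⧸ E)) (K := ⊤) le_top
        (by infer_instance)
      rw [← (Subgroup.map_eq_bot_iff_of_injective _ (commutator (G ⧸ E)).subtype_injective), eq_bot_iff]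
      rintro _ ⟨x, hx, rfl⟩
      haveI : ((Cfsg.oddCore ↥(commutator (G ⧸ E))).map (commutator (G ⧸ E)).subtype).Normal :=
        inferInstance
      rw [← hO']
      exact Core.le_pPrimeCore (by
        rw [Subgroup.card_map_of_injective (Subgroup.subtype_injective _)]
        exact Nat.coprime_two_right.2 odd_oddCore_card) (Subgroup.mem_map_of_mem _ hx)
    have h4 : 4 ≤ Fintype.card F := by
      rcases hgood with ⟨-, h5⟩ | ⟨m, hm, he⟩
      · omega
      · rw [he]; exact le_trans (by norm_num) (Nat.pow_le_pow_right (by norm_num) hm)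
    let q : ↥(commutator (G ⧸ E)) ≃* ↥(commutator (G ⧸ E)) ⧸ Cfsg.oddCore ↥(commutator (G ⧸ E)) :=
      QuotientGroup.quotientBot.symm.trans (QuotientGroup.quotientMulEquivOfEq hOc.symm)
    let φ : Matrix.ProjectiveSpecialLinearGroup (Fin 2) F →* G ⧸ E :=
      (commutator (G ⧸ E)).subtype.comp (q.symm.toMonoidHom.comp (N.subtype.comp e.symm.toMonoidHom))
    have hφ : Function.Injective φ :=
      (Subgroup.subtype_injective _).comp (q.symm.injective.comp
        ((Subgroup.subtype_injective _).comp e.symm.injective))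
    obtain ⟨A, B, hA, hB, hne, hodd⟩ := Dickson.exists_involutions_even_product (F := F) h4
    obtain ⟨Z, hZ, hAZ, hcomm⟩ : ∃ Z, orderOf Z = 2 ∧ A ≠ Z ∧ Commute A Z := by
      by_cases hAB : Commute A B
      · exact ⟨B, hB, hne, hAB⟩
      obtain ⟨j, hj⟩ := Nat.not_odd_iff_even.1 hodd
      have hjp : 0 < j := by have := orderOf_pos (A * B); omega
      have hz : orderOf ((A * B) ^ j) = 2 := by
        rw [orderOf_pow' _ hjp.ne', hj, show j + j = j * 2 by ring, Nat.gcd_mul_right_left,
          Nat.mul_div_cancel_left _ hjp]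
      refine ⟨_, hz, fun h => hAB ?_, ?_⟩
      · have h1 : Commute ((A * B) ^ j) (A * B) := Commute.pow_self _ _
        rw [← h] at h1
        have h2 : A * (A * B) = A * B * A := h1
        rw [mul_assoc] at h2
        exact mul_left_cancel h2
      · have hA2 := Invol.inv_mul_self hA
        have hB2 := Invol.inv_mul_self hB
        have h1 : A * (A * B) ^ j * A⁻¹ = ((A * B) ^ j)⁻¹ := by
          rw [← conj_pow, ← inv_pow]
          congr 1
          rw [mul_inv_rev, inv_eq_of_mul_eq_one_right hA2, inv_eq_of_mul_eq_one_right hB2,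
            ← mul_assoc, hA2, one_mul]
        rw [inv_eq_of_mul_eq_one_right (Invol.inv_mul_self hz), mul_inv_eq_iff_eq_mul] at h1
        exact h1
    have hAZ2 : orderOf (A * Z) = 2 := by
      refine orderOf_eq_prime ?_ fun h => hAZ ?_
      · rw [hcomm.mul_pow, pow_two, pow_two, Invol.inv_mul_self hA, Invol.inv_mul_self hZ, one_mul]
      · rw [eq_inv_of_mul_eq_one_left h, inv_eq_of_mul_eq_one_right (Invol.inv_mul_self hZ)]
    refine no_three w hEc (a := φ A) (b := φ Z) ?_ ?_ ?_ ?_ (hcomm.map φ) (fun h => hAZ (hφ h))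
      (MonoidHom.map_isConj φ (Dickson.isConj_of_involutions h4 hA hZ)) ?_
    · exact fun h => Invol.ne_one hA (hφ (h.trans (map_one φ).symm))
    · rw [← map_mul, Invol.inv_mul_self hA, map_one]
    · exact fun h => Invol.ne_one hZ (hφ (h.trans (map_one φ).symm))
    · rw [← map_mul, Invol.inv_mul_self hZ, map_one]
    · rw [← map_mul]
      exact MonoidHom.map_isConj φ (Dickson.isConj_of_involutions h4 hA hAZ2)

/-- With a central involution in `E`, the core and the Sylow normalizer make up the group. -/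
theorem exists_core_normalizer {S : Sylow 2 G} {E : Subgroup G} (w : Weak (S : Subgroup G) E) {t : G}
    (ht : t ∈ E) (ht1 : t ≠ 1) (hc : ∀ g : G, Commute t g) (x : G) :
    ∃ k ∈ Cfsg.oddCore G, ∃ n ∈ Subgroup.normalizer ((S : Subgroup G) : Set G), x = k * n := by
  haveI : Fact (Nat.Prime 2) := ⟨Nat.prime_two⟩
  haveI := core_sup_sylow_normal (Nat.card G) G le_rfl S E w t ht ht1 hc
  have h := Sylow.normalizer_sup_eq_top' S (le_sup_right (a := Cfsg.oddCore G) (b := (S : Subgroup G)))
  have h2 : Cfsg.oddCore G ⊔ Subgroup.normalizer ((S : Subgroup G) : Set G) = ⊤ := by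
    rw [eq_top_iff, ← h]
    exact sup_le le_sup_right (sup_le le_sup_left (Subgroup.le_normalizer.trans le_sup_right))
  have hx : x ∈ Cfsg.oddCore G ⊔ Subgroup.normalizer ((S : Subgroup G) : Set G) := h2 ▸ Subgroup.mem_top x
  obtain ⟨k, hk, n, hn, rfl⟩ := Subgroup.mem_sup_of_normal_left.1 hx
  exact ⟨k, hk, n, hn, rfl⟩

end Cfsg.Lib.U34Type
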