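import Mathlib.Data.Rat.Cast.Order
import Mathlib.Tactic.Ring
import Mathlib.Tactic.Linarith
import Mathlib.Algebra.BigOperators.Group.List.Basic
import Mathlib.Tactic.Positivity
import Mathlib.Tactic.FieldSimp

/-!
# Branching certificates for the system of the principal block rows

A row type records a row of inner products up to the Galois action of order four; a variable adds the
two multiplicities of the restriction to the core. `System` lists the equations; a `Tree` splits the
number of rows of each type and their multiplicities, and refutes each leaf by a linear combination.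
-/

set_option autoImplicit false

namespace Cfsg.Lib.U34Type.Cert

/-- A type of rows: invariants and the length of the orbit. -/
structure Ty where
  b : ℤ
  s : ℤ
  a : ℤ
  S : ℤ
  k : ℤ
  p : ℤ
deriving DecidableEq

namespace Ty

variable (t : Ty)

/-- The value at the involution. -/
def e : ℤ := 5 * t.a - 4 * (t.b + t.s)
/-- The residue of the degree. -/
def cc : ℤ := 12 * (t.b + t.s) - 11 * t.a
/-- The least offset. -/
def H : ℤ := max (max 0 (-t.a)) ((max t.e (-t.e) - t.cc + 63) / 64)
/-- The degree. -/
def d (m : ℤ) : ℤ := 64 * m + t.cc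
/-- The least admissible multiplier. -/
def lo0 : ℤ := max (t.H + 1) (-t.cc / 64 + 1)

end Ty

/-- A row with its multiplicities: `χ(1) = 64 m + cc`, of which `64 n` moves the core. -/
structure Var where
  t : Ty
  n : ℤ
  m : ℤ

/-- The admissible variables. -/
def Var.Ok (v : Var) : Prop := 1 ≤ v.n ∧ v.n ≤ v.m - v.t.H ∧ v.t.lo0 ≤ v.m

/-- The squared value at the involution over the degree. -/
def Var.y (v : Var) : ℚ := (v.t.e * v.t.e : ℤ) / (v.t.d v.m : ℤ)

/-- A weighted sum over the variables. -/
def tot (g : Var → ℚ) (l : List Var) : ℚ := (l.map fun v => (v.t.k : ℚ) * g v).sum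

/-- The equations. -/
structure System (l : List Var) : Prop where
  bb : tot (fun v => v.t.b * v.t.b) l = 4
  bs : tot (fun v => v.t.b * v.t.s) l = 4
  ba : tot (fun v => v.t.b * v.t.a) l = 3
  ss : tot (fun v => v.t.s * v.t.s) l = 32
  sa : tot (fun v => v.t.s * v.t.a) l = 16
  aa : tot (fun v => v.t.a * v.t.a) l = 15
  sq : tot (fun v => v.t.S) l = 20
  bn : tot (fun v => v.t.b * v.n) l = 0
  sn : tot (fun v => v.t.s * v.n) l = 0
  an : tot (fun v => v.t.a * v.n) l = 0
  b0 : tot (fun v => v.t.b * (64 * (v.m - v.n) + v.t.cc)) l = -1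
  s0 : tot (fun v => v.t.s * (64 * (v.m - v.n) + v.t.cc)) l = 0
  a0 : tot (fun v => v.t.a * (64 * (v.m - v.n) + v.t.cc)) l = -1
  ca : tot (fun v => v.t.a * v.y) l = -1
  cs : tot (fun v => (4 * v.t.b - v.t.s) * v.y) l = -4
  cb : tot (fun v => v.t.b * v.y) l ≤ -1
  pp : tot (fun v => v.t.p) l = 2

theorem System.perm {l l' : List Var} (h : System l) (hp : l.Perm l') : System l' := by
  have e : ∀ g, tot g l' = tot g l := fun g => ((hp.map _).sum_eq).symm
  obtain ⟨⟩ := h
  constructor <;> simp only [e] <;> assumption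

section Weights

variable (w : List ℤ) (t : Ty)

/-- The constant coefficient. -/
def cA : ℤ :=
  t.k * (w.getD 0 0 * (t.b * t.b) + w.getD 1 0 * (t.b * t.s) + w.getD 2 0 * (t.b * t.a)
    + w.getD 3 0 * (t.s * t.s) + w.getD 4 0 * (t.s * t.a) + w.getD 5 0 * (t.a * t.a)
    + w.getD 6 0 * t.S + w.getD 16 0 * t.p
    + t.cc * (w.getD 10 0 * t.b + w.getD 11 0 * t.s + w.getD 12 0 * t.a))

/-- The coefficient of `n`. -/
def cN : ℤ :=
  t.k * ((w.getD 7 0 - 64 * w.getD 10 0) * t.b + (w.getD 8 0 - 64 * w.getD 11 0) * t.s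
    + (w.getD 9 0 - 64 * w.getD 12 0) * t.a)

/-- The coefficient of `m`. -/
def cM : ℤ := 64 * t.k * (w.getD 10 0 * t.b + w.getD 11 0 * t.s + w.getD 12 0 * t.a)

/-- The coefficient of the inverse degree. -/
def cW : ℤ :=
  t.k * (t.e * t.e) * (w.getD 13 0 * t.a + w.getD 14 0 * (4 * t.b - t.s) + w.getD 15 0 * t.b)

/-- The combination of the right-hand sides. -/
def rhs : ℤ :=
  4 * w.getD 0 0 + 4 * w.getD 1 0 + 3 * w.getD 2 0 + 32 * w.getD 3 0 + 16 * w.getD 4 0
    + 15 * w.getD 5 0 + 20 * w.getD 6 0 - w.getD 10 0 - w.getD 12 0 - w.getD 13 0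
    - 4 * w.getD 14 0 - w.getD 15 0 + 2 * w.getD 16 0

/-- The combination at a variable. -/
def val (v : Var) : ℚ :=
  (cA w v.t : ℚ) + cN w v.t * v.n + cM w v.t * v.m + (cW w v.t : ℚ) / (v.t.d v.m : ℤ)

end Weights

theorem sum_val (w : List ℤ) (l : List Var) :
    (l.map (val w)).sum =
      (w.getD 0 0 : ℚ) * tot (fun v => v.t.b * v.t.b) l
      + w.getD 1 0 * tot (fun v => v.t.b * v.t.s) l
      + w.getD 2 0 * tot (fun v => v.t.b * v.t.a) l
      + w.getD 3 0 * tot (fun v => v.t.s * v.t.s) l
      + w.getD 4 0 * tot (fun v => v.t.s * v.t.a) l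
      + w.getD 5 0 * tot (fun v => v.t.a * v.t.a) l
      + w.getD 6 0 * tot (fun v => v.t.S) l
      + w.getD 7 0 * tot (fun v => v.t.b * v.n) l
      + w.getD 8 0 * tot (fun v => v.t.s * v.n) l
      + w.getD 9 0 * tot (fun v => v.t.a * v.n) l
      + w.getD 10 0 * tot (fun v => v.t.b * (64 * (v.m - v.n) + v.t.cc)) l
      + w.getD 11 0 * tot (fun v => v.t.s * (64 * (v.m - v.n) + v.t.cc)) l
      + w.getD 12 0 * tot (fun v => v.t.a * (64 * (v.m - v.n) + v.t.cc)) l
      + w.getD 13 0 * tot (fun v => v.t.a * v.y) l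
      + w.getD 14 0 * tot (fun v => (4 * v.t.b - v.t.s) * v.y) l
      + w.getD 15 0 * tot (fun v => v.t.b * v.y) l
      + w.getD 16 0 * tot (fun v => v.t.p) l := by
  induction l with
  | nil => simp [tot]
  | cons v l ih =>
    simp only [tot, List.map_cons, List.sum_cons] at ih ⊢
    rw [ih]
    simp only [val, cA, cN, cM, cW, Var.y]
    push_cast
    ring

theorem val_le_rhs (w : List ℤ) (hw : 0 ≤ w.getD 15 0) {l : List Var} (h : System l) :
    (l.map (val w)).sum ≤ (rhs w : ℚ) := by
  rw [sum_val, h.bb, h.bs, h.ba, h.ss, h.sa, h.aa, h.sq, h.bn, h.sn, h.an, h.b0, h.s0, h.a0, h.ca,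
    h.cs, h.pp]
  have : (w.getD 15 0 : ℚ) * tot (fun v => v.t.b * v.y) l ≤ (w.getD 15 0 : ℚ) * -1 :=
    mul_le_mul_of_nonneg_left h.cb (by exact_mod_cast hw)
  simp only [rhs]
  push_cast
  linarith

/-- The least value of a linear form on a range. -/
def mlin (lo : ℤ) (hi : Option ℤ) (c : ℤ) : Option ℤ :=
  if 0 ≤ c then some (c * lo) else hi.map (fun h => c * h)

/-- A lower bound for the combination on a box, as a fraction. -/
def mbox (w : List ℤ) (t : Ty) (lo : ℤ) (hi : Option ℤ) : Option (ℤ × ℤ) :=
  match (if 0 ≤ cN w t then (mlin lo hi (cM w t)).map (fun g => g + cN w t)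
      else (mlin lo hi (cN w t + cM w t)).map (fun g => g - cN w t * t.H)) with
  | none => none
  | some g =>
    if 0 < t.d lo then
      if 0 ≤ cW w t then
        match hi with
        | none => some (cA w t + g, 1)
        | some h => if 0 < t.d h then some ((cA w t + g) * t.d h + cW w t, t.d h) else none
      else some ((cA w t + g) * t.d lo + cW w t, t.d lo)
    else none

/-- Membership of a range. -/
def InBox (lo : ℤ) (hi : Option ℤ) (m : ℤ) : Prop := lo ≤ m ∧ ∀ h ∈ hi, m ≤ h

theorem mlin_le {lo : ℤ} {hi : Option ℤ} {c g m : ℤ} (h : mlin lo hi c = some g) (hm : InBox lo hi m) :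
    g ≤ c * m := by
  unfold mlin at h
  split_ifs at h with hc
  · rw [← Option.some.inj h]; exact mul_le_mul_of_nonneg_left hm.1 hc
  · obtain ⟨x, hx, rfl⟩ := Option.map_eq_some_iff.1 h
    exact mul_le_mul_of_nonpos_left (hm.2 x hx) (by omega)

theorem mbox_le {w : List ℤ} {v : Var} {lo : ℤ} {hi : Option ℤ} {p q : ℤ}
    (h : mbox w v.t lo hi = some (p, q)) (hm : InBox lo hi v.m) (hn : 1 ≤ v.n) (hn' : v.n ≤ v.m - v.t.H) :
    0 < q ∧ (p : ℚ) / q ≤ val w v := by
  unfold mbox at h
  split at h
  · exact absurd h (by simp)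
  rename_i g hg
  have hgle : g ≤ cN w v.t * v.n + cM w v.t * v.m := by
    split_ifs at hg with hN
    · obtain ⟨x, hx, rfl⟩ := Option.map_eq_some_iff.1 hg
      have := mlin_le hx hm
      nlinarith [mul_le_mul_of_nonneg_left hn hN]
    · obtain ⟨x, hx, rfl⟩ := Option.map_eq_some_iff.1 hg
      have := mlin_le hx hm
      nlinarith [mul_le_mul_of_nonpos_left hn' (show cN w v.t ≤ 0 by omega)]
  have hgq : (g : ℚ) ≤ (cN w v.t : ℚ) * v.n + (cM w v.t : ℚ) * v.m := by exact_mod_cast hgle
  split_ifs at h with hlo hW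
  · have hdm : 0 < v.t.d v.m := lt_of_lt_of_le hlo (by simp only [Ty.d]; linarith [hm.1])
    have hWq : (0 : ℚ) ≤ (cW w v.t : ℚ) := by exact_mod_cast hW
    have hdq : (0 : ℚ) < (v.t.d v.m : ℤ) := by exact_mod_cast hdm
    cases hi with
    | none =>
      simp only [Option.some.injEq, Prod.mk.injEq] at h
      obtain ⟨rfl, rfl⟩ := h
      refine ⟨one_pos, ?_⟩
      have : (0 : ℚ) ≤ (cW w v.t : ℚ) / (v.t.d v.m : ℤ) := div_nonneg hWq hdq.le
      simp only [val]; push_cast; linarith
    | some x =>
      simp only at h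
      split_ifs at h with hx
      simp only [Option.some.injEq, Prod.mk.injEq] at h
      obtain ⟨rfl, rfl⟩ := h
      refine ⟨hx, ?_⟩
      have hxq : (0 : ℚ) < (v.t.d x : ℤ) := by exact_mod_cast hx
      have hle : ((v.t.d v.m : ℤ) : ℚ) ≤ (v.t.d x : ℤ) := by
        have := hm.2 x rfl
        exact_mod_cast (show v.t.d v.m ≤ v.t.d x by simp only [Ty.d]; linarith)
      have := div_le_div_of_nonneg_left hWq hdq hle
      simp only [val]; push_cast
      rw [add_div, mul_div_cancel_right₀ _ hxq.ne']
      linarith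
  · simp only [Option.some.injEq, Prod.mk.injEq] at h
    obtain ⟨rfl, rfl⟩ := h
    refine ⟨hlo, ?_⟩
    have hloq : (0 : ℚ) < (v.t.d lo : ℤ) := by exact_mod_cast hlo
    have hle : ((v.t.d lo : ℤ) : ℚ) ≤ (v.t.d v.m : ℤ) := by
      exact_mod_cast (show v.t.d lo ≤ v.t.d v.m by simp only [Ty.d]; linarith [hm.1])
    have hWq : (cW w v.t : ℚ) ≤ 0 := by exact_mod_cast (show cW w v.t ≤ 0 by omega)
    have := div_le_div_of_nonneg_left (neg_nonneg.2 hWq) hloq hle
    simp only [val]; push_cast
    rw [add_div, mul_div_cancel_right₀ _ hloq.ne']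
    rw [neg_div, neg_div] at this
    linarith

/-- A chosen row: its type and the range of its multiplier. -/
abbrev Box : Type := Ty × ℤ × Option ℤ

/-- A variable fits a box. -/
def Fits (x : Box) (v : Var) : Prop :=
  v.t = x.1 ∧ InBox x.2.1 x.2.2 v.m ∧ 1 ≤ v.n ∧ v.n ≤ v.m - v.t.H

/-- The sum of the bounds over the chosen rows. -/
def boxSum (w : List ℤ) : List Box → Option (ℤ × ℤ)
  | [] => some (0, 1)
  | x :: xs =>
    match mbox w x.1 x.2.1 x.2.2, boxSum w xs with
    | some (p, q), some (p', q') => some (p * q' + p' * q, q * q')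
    | _, _ => none

theorem boxSum_le (w : List ℤ) : ∀ {ch : List Box} {cs : List Var} {p q : ℤ},
    boxSum w ch = some (p, q) → List.Forall₂ Fits ch cs → 0 < q ∧ (p : ℚ) / q ≤ (cs.map (val w)).sum := by
  intro ch
  induction ch with
  | nil =>
    intro cs p q h hf
    cases hf
    simp only [boxSum, Option.some.injEq, Prod.mk.injEq] at h
    obtain ⟨rfl, rfl⟩ := h
    simp
  | cons x xs ih =>
    intro cs p q h hf
    cases hf with
    | @cons _ v _ vs hxv hrest =>
      simp only [boxSum] at h
      split at h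
      rotate_left
      · exact absurd h (by simp)
      rename_i p1 q1 p2 q2 e1 e2
      simp only [Option.some.injEq, Prod.mk.injEq] at h
      obtain ⟨rfl, rfl⟩ := h
      obtain ⟨hv, hb, hn, hn'⟩ := hxv
      rw [← hv] at e1
      obtain ⟨hq1, h1⟩ := mbox_le e1 hb hn hn'
      obtain ⟨hq2, h2⟩ := ih e2 hrest
      refine ⟨mul_pos hq1 hq2, ?_⟩
      have hq1' : (q1 : ℚ) ≠ 0 := by exact_mod_cast hq1.ne'
      have hq2' : (q2 : ℚ) ≠ 0 := by exact_mod_cast hq2.ne'
      simp only [List.map_cons, List.sum_cons]
      push_cast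
      rw [show ((p1 : ℚ) * q2 + p2 * q1) / (q1 * q2) = p1 / q1 + p2 / q2 by field_simp]
      linarith

/-- A type outside contributes nonnegatively. -/
def poolOk (w : List ℤ) (t : Ty) : Bool :=
  match mbox w t t.lo0 none with
  | some (p, _) => decide (0 ≤ p)
  | none => false

/-- A leaf is refuted by the weights. -/
def leafOk (w : List ℤ) (pool : List Ty) (ch : List Box) : Bool :=
  decide (0 ≤ w.getD 15 0) && pool.all (poolOk w) &&
    match boxSum w ch with
    | some (p, q) => decide (rhs w * q < p)
    | none => false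

/-- The norm of a type. -/
def weight (t : Ty) : ℤ := t.k * (t.b * t.b + t.a * t.a + t.S)

/-- A certificate. -/
inductive Tree where
  | leaf (w : List ℤ)
  | drop (i : ℕ) (A B : Tree)
  | close (A : Tree)
  | split (j : ℕ) (mid : ℤ) (A B : Tree)

/-- The checker. -/
def check : Tree → List Ty → List Box → Bool
  | .leaf w, pool, ch => leafOk w pool ch
  | .drop i A B, pool, ch =>
    match pool[i]? with
    | none => false
    | some t => check A (pool.eraseIdx i) ch && check B pool ((t, t.lo0, none) :: ch)
  | .close A, pool, ch =>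
    decide ((ch.map fun x => weight x.1).sum = 39) && pool.all (fun t => decide (0 < weight t)) &&
      check A [] ch
  | .split j mid A B, pool, ch =>
    match ch[j]? with
    | none => false
    | some (t, lo, hi) =>
      check A pool (ch.set j (t, lo, some mid)) && check B pool (ch.set j (t, mid + 1, hi))

/-- A state is realised. -/
def Realised (pool : List Ty) (ch : List Box) : Prop :=
  ∃ ps cs : List Var, System (cs ++ ps) ∧ (∀ v ∈ ps, v.t ∈ pool ∧ v.Ok) ∧ List.Forall₂ Fits ch cs

theorem forall₂_set {α β : Type*} {R : α → β → Prop} {x : α} :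
    ∀ {l : List α} {l' : List β} (j : ℕ), List.Forall₂ R l l' → (∀ y ∈ l'[j]?, R x y) →
      List.Forall₂ R (l.set j x) l' := by
  intro l
  induction l with
  | nil => intro l' j h _; simpa using h
  | cons a l ih =>
    intro l' j h hx
    cases h with
    | cons hab hrest =>
      cases j with
      | zero => exact List.Forall₂.cons (hx _ (by simp)) hrest
      | succ j => exact List.Forall₂.cons hab (ih j hrest (by simpa using hx))

theorem forall₂_get {α β : Type*} {R : α → β → Prop} :
    ∀ {l : List α} {l' : List β} (j : ℕ) {a : α}, List.Forall₂ R l l' → l[j]? = some a →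
      ∃ b, l'[j]? = some b ∧ R a b := by
  intro l
  induction l with
  | nil => intro l' j a _ ha; simp at ha
  | cons c l ih =>
    intro l' j a h ha
    cases h with
    | cons hab hrest =>
      cases j with
      | zero =>
        simp only [List.getElem?_cons_zero, Option.some.injEq] at ha
        subst ha
        exact ⟨_, rfl, hab⟩
      | succ j => simpa using ih j hrest (by simpa using ha)

theorem not_realised : ∀ (T : Tree) (pool : List Ty) (ch : List Box),
    check T pool ch = true → ¬ Realised pool ch := by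
  intro T
  induction T with
  | leaf w =>
    rintro pool ch h ⟨ps, cs, hS, hps, hf⟩
    simp only [check, leafOk, Bool.and_eq_true, decide_eq_true_eq] at h
    obtain ⟨⟨hw, hpool⟩, hsum⟩ := h
    split at hsum
    rotate_left
    · exact absurd hsum (by simp)
    rename_i p q hpq
    simp only [decide_eq_true_eq] at hsum
    obtain ⟨hq, hle⟩ := boxSum_le w hpq hf
    have hps0 : 0 ≤ (ps.map (val w)).sum := List.sum_nonneg fun x hx => by
      obtain ⟨v, hv, rfl⟩ := List.mem_map.1 hx
      obtain ⟨hvt, hn, hn', hlo⟩ := hps v hv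
      have := (List.all_eq_true.1 hpool) _ hvt
      unfold poolOk at this
      split at this
      rotate_left
      · exact absurd this (by simp)
      rename_i p' q' he
      obtain ⟨hq', hle'⟩ := mbox_le he ⟨hlo, fun h hh => by simp at hh⟩ hn hn'
      refine le_trans ?_ hle'
      exact div_nonneg (by exact_mod_cast of_decide_eq_true this) (by exact_mod_cast hq'.le)
    have hall := val_le_rhs w hw hS
    rw [List.map_append, List.sum_append] at hall
    have : (rhs w : ℚ) < p / q := by
      rw [lt_div_iff₀ (by exact_mod_cast hq)]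
      exact_mod_cast hsum
    linarith
  | drop i A B ihA ihB =>
    rintro pool ch h ⟨ps, cs, hS, hps, hf⟩
    simp only [check] at h
    split at h
    · exact absurd h (by simp)
    rename_i t ht
    rw [Bool.and_eq_true] at h
    by_cases hex : ∃ v ∈ ps, v.t = t
    · obtain ⟨v, hv, hvt⟩ := hex
      obtain ⟨l₁, l₂, rfl⟩ := List.append_of_mem hv
      refine ihB pool ((t, t.lo0, none) :: ch) h.2 ⟨l₁ ++ l₂, v :: cs, hS.perm ?_, ?_, ?_⟩
      · exact (List.perm_middle.append_left cs).trans List.perm_middle
      · intro x hx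
        exact hps x (by
          rcases List.mem_append.1 hx with h' | h'
          · exact List.mem_append_left _ h'
          · exact List.mem_append_right _ (List.mem_cons_of_mem _ h'))
      · obtain ⟨-, hn, hn', hlo⟩ := hps v hv
        exact List.Forall₂.cons ⟨hvt, ⟨hvt ▸ hlo, fun h hh => by simp at hh⟩, hn, hn'⟩ hf
    · push Not at hex
      refine ihA (pool.eraseIdx i) ch h.1 ⟨ps, cs, hS, fun v hv => ⟨?_, (hps v hv).2⟩, hf⟩
      obtain ⟨j, hj⟩ := List.mem_iff_getElem?.1 (hps v hv).1
      refine List.mem_eraseIdx_iff_getElem?.2 ⟨j, fun e => hex v hv ?_, hj⟩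
      subst e
      rw [ht] at hj
      exact (Option.some.inj hj).symm
  | close A ihA =>
    rintro pool ch h ⟨ps, cs, hS, hps, hf⟩
    simp only [check, Bool.and_eq_true, decide_eq_true_eq, List.all_eq_true] at h
    obtain ⟨⟨hsum, hpos⟩, hA⟩ := h
    have hw : ((cs ++ ps).map fun v => (weight v.t : ℚ)).sum = 39 := by
      have e : ∀ l : List Var, (l.map fun v => (weight v.t : ℚ)).sum =
          tot (fun v => v.t.b * v.t.b) l + tot (fun v => v.t.a * v.t.a) l + tot (fun v => v.t.S) l := by
        intro l
        induction l with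
        | nil => simp [tot]
        | cons v l ih =>
          simp only [tot, List.map_cons, List.sum_cons] at ih ⊢
          rw [ih]; simp only [weight]; push_cast; ring
      rw [e, hS.bb, hS.aa, hS.sq]; norm_num
    have hcs : (cs.map fun v => (weight v.t : ℚ)).sum = 39 := by
      have : cs.map (fun v => (weight v.t : ℚ)) = ch.map (fun x => (weight x.1 : ℚ)) := by
        clear hS hsum hA hw
        induction hf with
        | nil => rfl
        | cons hxv _ ih => simp only [List.map_cons, ih, hxv.1]
      rw [this]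
      have e : ∀ l : List Box,
          (l.map fun x => (weight x.1 : ℚ)).sum = (((l.map fun x => weight x.1).sum : ℤ) : ℚ) := by
        intro l
        induction l with
        | nil => simp
        | cons x l ih => simp only [List.map_cons, List.sum_cons, ih, Int.cast_add]
      rw [e, hsum]; norm_num
    rw [List.map_append, List.sum_append, hcs, add_eq_left] at hw
    cases ps with
    | nil => exact ihA [] ch hA ⟨[], cs, hS, by simp, hf⟩
    | cons v l =>
      have hv : (0 : ℚ) < (weight v.t : ℚ) := by exact_mod_cast hpos _ (hps v List.mem_cons_self).1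
      have hl : 0 ≤ (l.map fun v => (weight v.t : ℚ)).sum := List.sum_nonneg fun x hx => by
        obtain ⟨u, hu, rfl⟩ := List.mem_map.1 hx
        exact_mod_cast (hpos _ (hps u (List.mem_cons_of_mem _ hu)).1).le
      simp only [List.map_cons, List.sum_cons] at hw
      linarith
  | split j mid A B ihA ihB =>
    rintro pool ch h ⟨ps, cs, hS, hps, hf⟩
    simp only [check] at h
    split at h
    · exact absurd h (by simp)
    rename_i t lo hi hj
    rw [Bool.and_eq_true] at h
    obtain ⟨v, hv, hvt, ⟨hlo, hhi⟩, hn, hn'⟩ := forall₂_get j hf hj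
    by_cases hm : v.m ≤ mid
    · refine ihA pool _ h.1 ⟨ps, cs, hS, hps, forall₂_set j hf fun y hy => ?_⟩
      obtain rfl : y = v := by simpa [hv, eq_comm] using hy
      exact ⟨hvt, ⟨hlo, fun x hx => by simp at hx; omega⟩, hn, hn'⟩
    · refine ihB pool _ h.2 ⟨ps, cs, hS, hps, forall₂_set j hf fun y hy => ?_⟩
      obtain rfl : y = v := by simpa [hv, eq_comm] using hy
      exact ⟨hvt, ⟨show mid + 1 ≤ _ by omega, hhi⟩, hn, hn'⟩

/-- A checked certificate refutes the system. -/
theorem no_system {T : Tree} {types : List Ty} (hT : check T types [] = true) (l : List Var)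
    (hl : ∀ v ∈ l, v.t ∈ types ∧ v.Ok) : ¬ System l := fun h =>
  not_realised T types [] hT ⟨l, [], h, hl, List.Forall₂.nil⟩

end Cfsg.Lib.U34Type.Cert
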