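import Cfsg.Agent.Lib.U34Type.Data
import Cfsg.Agent.Lib.PiHom.U34.Arith
import Mathlib.Data.Fin.VecNotation
import Mathlib.Tactic.FinCases

/-!
# The types of the rows

Rows are grouped by the Galois action, which permutes the four middle entries cyclically.
-/

set_option autoImplicit false

namespace Cfsg.Lib.U34Type

open Cfsg.Lib.PiHom.U34 (qnorm)

/-- The Galois action on a row. -/
def rot (r : Fin 6 → ℤ) : Fin 6 → ℤ := ![r 0, r 3, r 1, r 4, r 2, r 5]

/-- The length of an orbit. -/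
def period (c1 c2 c3 c4 : ℤ) : ℤ :=
  if c3 = c1 ∧ c1 = c2 ∧ c4 = c3 ∧ c2 = c4 then 1 else if c4 = c1 ∧ c3 = c2 then 2 else 4

/-- A code ordering the middle parts. -/
def code (c1 c2 c3 c4 : ℤ) : ℤ := c1 * 125 + c2 * 25 + c3 * 5 + c4

/-- The representative of an orbit carries its length, the other members zero. -/
def share (c1 c2 c3 c4 : ℤ) : ℤ :=
  if code c1 c2 c3 c4 ≤ code c3 c1 c4 c2 ∧ code c1 c2 c3 c4 ≤ code c4 c3 c2 c1 ∧
      code c1 c2 c3 c4 ≤ code c2 c4 c1 c3 then period c1 c2 c3 c4 else 0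

/-- The share of a row. -/
def share' (r : Fin 6 → ℤ) : ℤ := share (r 1) (r 2) (r 3) (r 4)

/-- The type of a row. -/
def tyOf (r : Fin 6 → ℤ) : Cert.Ty :=
  ⟨r 0, r 1 + r 2 + r 3 + r 4, r 5, r 1 * r 1 + r 2 * r 2 + r 3 * r 3 + r 4 * r 4,
    period (r 1) (r 2) (r 3) (r 4), r 1 * r 4 + r 2 * r 3⟩

/-- The small integers. -/
def small : List ℤ := [-2, -1, 0, 1, 2]

/-- The check of the orbit sums. -/
def shareCheck : Bool :=
  small.all fun c1 => small.all fun c2 => small.all fun c3 => small.all fun c4 =>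
    decide (share c1 c2 c3 c4 + share c3 c1 c4 c2 + share c4 c3 c2 c1 + share c2 c4 c1 c3 = 4) &&
      decide (share c1 c2 c3 c4 = 0 ∨ share c1 c2 c3 c4 = period c1 c2 c3 c4)

theorem shareCheck_true : shareCheck = true := by decide +kernel

/-- The test of membership for one row. -/
def typeCheck1 (b c1 c2 c3 c4 a : ℤ) : Bool :=
  let s := c1 + c2 + c3 + c4
  let S := c1 * c1 + c2 * c2 + c3 * c3 + c4 * c4
  let k := period c1 c2 c3 c4
  decide (share c1 c2 c3 c4 = 0) || decide (b = 0 ∧ a = 0 ∧ S = 0) || decide (188 < qnorm b s a S) ||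
    decide (4 < k * (b * b) ∨ 15 < k * (a * a) ∨ 20 < k * S ∨ 32 < k * (s * s)) ||
    Cert.types.any fun u => decide (u = ⟨b, s, a, S, k, c1 * c4 + c2 * c3⟩)

/-- The check of the types. -/
def typeCheck : Bool :=
  [-1, 0, 1].all fun b => small.all fun c1 => small.all fun c2 => small.all fun c3 =>
    small.all fun c4 => [-3, -2, -1, 0, 1, 2, 3].all fun a => typeCheck1 b c1 c2 c3 c4 a

theorem typeCheck_true : typeCheck = true := by decide +kernel

theorem mem_small {c : ℤ} (h : c * c ≤ 5) : c ∈ small := by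
  have h1 : -2 ≤ c ∧ c ≤ 2 := ⟨by nlinarith, by nlinarith⟩
  simp only [small, List.mem_cons, List.not_mem_nil, or_false]
  omega

theorem share_sum {r : Fin 6 → ℤ} (h : ∀ i : Fin 6, i ≠ 0 → i ≠ 5 → r i * r i ≤ 5) :
    share' r + share' (rot r) + share' (rot (rot r)) + share' (rot (rot (rot r))) = 4 ∧
      (share' r = 0 ∨ share' r = (tyOf r).k) := by
  have := shareCheck_true
  simp only [shareCheck, List.all_eq_true, Bool.and_eq_true, decide_eq_true_eq] at this
  have h' := this (r 1) (mem_small (h 1 (by decide) (by decide))) (r 2) (mem_small (h 2 (by decide) (by decide)))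
    (r 3) (mem_small (h 3 (by decide) (by decide))) (r 4) (mem_small (h 4 (by decide) (by decide)))
  simpa [share', rot, tyOf] using h'

theorem mem_types {r : Fin 6 → ℤ} (h : ∀ i : Fin 6, i ≠ 0 → i ≠ 5 → r i * r i ≤ 5)
    (hb : -1 ≤ r 0 ∧ r 0 ≤ 1) (ha : -3 ≤ r 5 ∧ r 5 ≤ 3) (hs : share' r ≠ 0) (h0 : r ≠ 0)
    (hq : qnorm (r 0) (tyOf r).s (r 5) (tyOf r).S ≤ 188)
    (hk : (tyOf r).k * (r 0 * r 0) ≤ 4 ∧ (tyOf r).k * (r 5 * r 5) ≤ 15 ∧ (tyOf r).k * (tyOf r).S ≤ 20 ∧
      (tyOf r).k * ((tyOf r).s * (tyOf r).s) ≤ 32) : tyOf r ∈ Cert.types := by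
  have := typeCheck_true
  simp only [typeCheck, List.all_eq_true] at this
  have h' := this (r 0) (by simp only [List.mem_cons, List.not_mem_nil, or_false]; omega)
    (r 1) (mem_small (h 1 (by decide) (by decide))) (r 2) (mem_small (h 2 (by decide) (by decide)))
    (r 3) (mem_small (h 3 (by decide) (by decide))) (r 4) (mem_small (h 4 (by decide) (by decide)))
    (r 5) (by simp only [List.mem_cons, List.not_mem_nil, or_false]; omega)
  simp only [typeCheck1, Bool.or_eq_true, decide_eq_true_eq, List.any_eq_true] at h'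
  simp only [tyOf] at hq hk ⊢
  rcases h' with (((h' | h') | h') | h') | h'
  · exact absurd h' hs
  · refine absurd ?_ h0
    obtain ⟨e0, e5, eS⟩ := h'
    have n1 := mul_self_nonneg (r 1); have n2 := mul_self_nonneg (r 2)
    have n3 := mul_self_nonneg (r 3); have n4 := mul_self_nonneg (r 4)
    have z : ∀ {x : ℤ}, x * x ≤ 0 → x = 0 := fun {x} hx =>
      mul_self_eq_zero.1 (le_antisymm hx (mul_self_nonneg x))
    funext i
    fin_cases i
    · exact e0
    · exact z (x := r 1) (by linarith)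
    · exact z (x := r 2) (by linarith)
    · exact z (x := r 3) (by linarith)
    · exact z (x := r 4) (by linarith)
    · exact e5
  · omega
  · obtain ⟨h1, h2, h3, h4⟩ := hk
    omega
  · obtain ⟨u, hu, rfl⟩ := h'
    exact hu

end Cfsg.Lib.U34Type
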