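import Cfsg.Agent.Lib.U34Type.Galois
import Cfsg.Agent.Lib.U34Type.Rows

/-!
# The core of the centralizer of an involution vanishes

The rows of the principal block with their multiplicities on the core satisfy the system refuted by the
certificate.
-/

set_option autoImplicit false
set_option linter.unusedSectionVars false
set_option linter.style.haveILetI false

namespace Cfsg.Lib.U34Type

open Cfsg Cfsg.Lib Cfsg.Lib.Block Cfsg.Lib.PiHom.U34
open scoped ComplexConjugate Classical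

universe u

variable {G : Type u} [Group G] [Fintype G] {Kc : Subgroup G}
variable {S : Sylow 2 G} {E : Subgroup G} {t g : G} (f : Five Kc S E t g)
include f

/-- The Galois twist of the irreducible characters, with the action on the rows. -/
theorem exists_twist_rows {r : IrrCharacter G → Fin 6 → ℤ}
    (hr : ∀ (χ : IrrCharacter G) u, classInner (f.basis u) (χ : G → ℂ) = r χ u) :
    ∃ φ : IrrCharacter G ≃ IrrCharacter G, φ (trivChar G) = trivChar G ∧
      (∀ χ, r (φ χ) = rot (r χ)) ∧ (∀ χ, (φ χ : G → ℂ) 1 = (χ : G → ℂ) 1) ∧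
      ∀ χ, classInner (fun k : Kc => (φ χ : G → ℂ) k) (fun _ => 1) =
        classInner (fun k : Kc => (χ : G → ℂ) k) (fun _ => 1) := by
  obtain ⟨j, hj, h4, hj5⟩ := exists_exponent G
  let φ0 : IrrCharacter G → IrrCharacter G := fun χ =>
    ⟨fun x => (χ : G → ℂ) (x ^ j), Char.isIrrCharacter_comp_pow hj χ.2⟩
  have hinj : Function.Injective φ0 := fun χ ψ h => Subtype.ext (funext fun x => by
    obtain ⟨y, rfl⟩ := (Char.powBij_of_coprime hj).2 x
    exact congrFun (congrArg Subtype.val h) y)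
  refine ⟨Equiv.ofBijective φ0 (Finite.injective_iff_bijective.1 hinj), ?_, fun χ => ?_, fun χ => ?_,
    fun χ => ?_⟩
  · exact Subtype.ext (funext fun x => by simp [Equiv.ofBijective, φ0, trivChar_coe])
  · obtain ⟨hA, hB⟩ := classInner_twist f hj h4 hj5 (χ : G → ℂ)
    have key : ∀ u v : Fin 6, classInner (f.basis v) (φ0 χ : G → ℂ) =
        classInner (f.basis u) (χ : G → ℂ) → r (φ0 χ) v = r χ u := fun u v e =>
      Int.cast_inj.1 ((hr _ v).symm.trans (e.trans (hr χ u)))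
    have e0 := key 0 0 (by
      have := hB 0
      rw [mul_zero] at this
      exact this)
    have e1 := key 3 1 (hB 3)
    have e2 := key 1 2 (hB 1)
    have e3 := key 4 3 (hB 4)
    have e4 := key 2 4 (hB 2)
    have e5 := key 5 5 hA
    show r (φ0 χ) = rot (r χ)
    funext i
    fin_cases i <;> simp [rot, e0, e1, e2, e3, e4, e5]
  · simp [Equiv.ofBijective, φ0]
  · show classInner (fun k : Kc => (χ : G → ℂ) ((k : G) ^ j)) _ = _
    simp only [classInner]
    congr 1
    exact Fintype.sum_bijective _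
      (Char.powBij_of_coprime (hj.coprime_dvd_right Kc.card_subgroup_dvd_card)) _ _ fun k => by simp

/-- A virtual character vanishing at the elements of odd order, against the core. -/
theorem rows_degrees {r : IrrCharacter G → Fin 6 → ℤ}
    (hr : ∀ (χ : IrrCharacter G) u, classInner (f.basis u) (χ : G → ℂ) = r χ u) (u : Fin 6) :
    ∑ χ : IrrCharacter G, (r χ u : ℂ) * (χ : G → ℂ) 1 = 0 ∧
      ∑ χ : IrrCharacter G, (r χ u : ℂ) * classInner (fun k : Kc => (χ : G → ℂ) k) (fun _ => 1) = 0 := by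
  have hzero : ∀ k : G, pPt 2 k = 1 → f.basis u k = 0 := fun k hk => by
    fin_cases u <;> simp [Five.basis, Five.alphaF, Five.betaF, f.toCtx.theta_one hk]
  have hexp : ∀ k : G, pPt 2 k = 1 → ∑ χ : IrrCharacter G, (r χ u : ℂ) * (χ : G → ℂ) k = 0 := by
    intro k hk
    have h := congrFun (Char.eq_sum_classInner (f.basis_virtual u).isClassFunction) k
    rw [hzero k hk] at h
    simp only [Finset.sum_apply, Pi.smul_apply, smul_eq_mul, hr] at h
    exact h.symm
  refine ⟨hexp 1 pPt_one, ?_⟩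
  simp only [classInner, map_one, mul_one, Finset.mul_sum, ← mul_assoc]
  rw [Finset.sum_comm]
  refine Finset.sum_eq_zero fun k _ => ?_
  have hk : pPt 2 (k : G) = 1 := (pPt_eq_one_iff _).2 fun h => by
    have := h.trans (Subgroup.orderOf_dvd_natCard Kc k.2)
    exact Nat.not_even_iff_odd.2 f.core_odd (even_iff_two_dvd.2 this)
  rw [Finset.sum_congr rfl fun χ _ => show (r χ u : ℂ) * _ * (χ : G → ℂ) k =
      (Fintype.card Kc : ℂ)⁻¹ * ((r χ u : ℂ) * (χ : G → ℂ) k) by
    rw [Nat.card_eq_fintype_card]; ring, ← Finset.mul_sum, hexp _ hk, mul_zero]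

/-- The products of pairs of involutions against a class function. -/
theorem pair_sum {F : G → ℂ} (hF : IsClassFunction G F) {I : Finset G}
    (hI : I = Finset.univ.filter fun x => orderOf x = 2) :
    ∑ x ∈ I, ∑ y ∈ I, F (x * y) = (I.card : ℂ) * I.card *
      ∑ χ : IrrCharacter G, classInner F (χ : G → ℂ) *
        ((χ : G → ℂ) t * (χ : G → ℂ) t / (χ : G → ℂ) 1) := by
  have hIc : Char.ConjClosed I := fun k x hx => by
    simp only [hI, Finset.mem_filter, Finset.mem_univ, true_and] at hx ⊢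
    rwa [orderOf_conj']
  rw [Char.sum_conjClosed_pair_eq (I := I) hIc hF, Finset.mul_sum]
  refine Finset.sum_congr rfl fun χ _ => ?_
  have hIsum : ∑ x ∈ I, (χ : G → ℂ) x = (I.card : ℂ) * (χ : G → ℂ) t := by
    rw [Finset.sum_congr rfl fun x hx => by
      obtain ⟨y, hy⟩ := f.toCtx.exists_conj_t (u := x) (by rw [hI] at hx; exact (Finset.mem_filter.1 hx).2)
      rw [← χ.2.isClassFunction x y, hy], Finset.sum_const, nsmul_eq_mul]
  rw [hIsum]; ring

/-- The value of a basic generalized character at a product of two involutions. -/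
theorem beta_product {x y : G} (hx : orderOf x = 2) (hy : orderOf y = 2) :
    (∀ i, f.betaF i (x * y) = 0) ∨ ∀ i, f.betaF i (x * y) = -16 := by
  rcases f.toCtx.invol_product hx hy with h | ⟨h2, hc, hinv⟩
  · exact Or.inl fun i => by simp [Five.betaF, f.toCtx.theta_one h]
  · refine Or.inr fun i => ?_
    obtain ⟨z, hz⟩ := f.toCtx.exists_conj_t h2
    have hl : z * pReg 2 (x * y) * z⁻¹ ∈ lsub Kc S t :=
      f.toCtx.inverted_mem_lsub (x := z * x * z⁻¹) (by rw [orderOf_conj', hx])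
        (mem_Ct.2 (by
          have := hc.map (MulAut.conj z).toMonoidHom
          simp only [MulEquiv.toMonoidHom_eq_coe, MonoidHom.coe_coe, MulAut.conj_apply] at this
          rwa [hz] at this))
        (by rw [orderOf_conj']; exact odd_pReg _)
        (mem_Ct.2 (by
          have := ((pPt_commute_pReg (p := 2) (x * y)).symm).map (MulAut.conj z).toMonoidHom
          simp only [MulEquiv.toMonoidHom_eq_coe, MonoidHom.coe_coe, MulAut.conj_apply] at this
          rwa [hz] at this))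
        (by rw [show z * x * z⁻¹ * (z * pReg 2 (x * y) * z⁻¹) * (z * x * z⁻¹)⁻¹ =
            z * (x * pReg 2 (x * y) * x⁻¹) * z⁻¹ by group, hinv]; group)
    simp only [Five.betaF, f.toCtx.theta_two (f.inv_const _ _) hz, f.kidx_lsub hl, psi_f2_zero]

omit f in
/-- The total of a Galois invariant quantity over the representatives. -/
theorem sum_share {ι : Type*} [Fintype ι] {P : Finset ι} (e : ι ≃ ι) (he : ∀ χ, χ ∈ P ↔ e χ ∈ P)
    {r : ι → Fin 6 → ℤ} (hr : ∀ χ, r (e χ) = rot (r χ))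
    (hbd : ∀ χ ∈ P, ∀ i : Fin 6, i ≠ 0 → i ≠ 5 → r χ i * r χ i ≤ 5)
    {F : ι → ℚ} (hF : ∀ χ, F (e χ) = F χ) :
    ∑ χ ∈ P, (share' (r χ) : ℚ) * F χ = ∑ χ ∈ P, F χ := by
  have shift : ∀ W : (Fin 6 → ℤ) → ℚ,
      ∑ χ ∈ P, W (rot (r χ)) * F χ = ∑ χ ∈ P, W (r χ) * F χ := fun W =>
    Finset.sum_equiv e he fun χ _ => by rw [hr, hF]
  have h1 := shift fun x => (share' x : ℚ)
  have h2 := shift fun x => (share' (rot x) : ℚ)
  have h3 := shift fun x => (share' (rot (rot x)) : ℚ)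
  have h4 : ∑ χ ∈ P, ((share' (r χ) : ℚ) * F χ + share' (rot (r χ)) * F χ +
      share' (rot (rot (r χ))) * F χ + share' (rot (rot (rot (r χ)))) * F χ) = ∑ χ ∈ P, 4 * F χ :=
    Finset.sum_congr rfl fun χ hχ => by
      have e4 : ((share' (r χ) + share' (rot (r χ)) + share' (rot (rot (r χ))) +
          share' (rot (rot (rot (r χ)))) : ℤ) : ℚ) = 4 := by
        rw [(share_sum (hbd χ hχ)).1]; norm_num
      push_cast at e4
      rw [← e4]; ring
  rw [Finset.sum_add_distrib, Finset.sum_add_distrib, Finset.sum_add_distrib, h3, h2, h1,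
    ← Finset.mul_sum] at h4
  linarith

set_option maxHeartbeats 2000000 in
/-- The core is trivial. -/
theorem false_core (hK : Kc ≠ ⊥) : False := by
  obtain ⟨M, hM⟩ := exists_isPModular (q := 2) Nat.prime_two
  obtain ⟨r, hr⟩ := f.exists_rows
  obtain ⟨htriv, hG⟩ := f.rows_gram hr
  obtain ⟨φ, hφ1, hφr, hφd, hφ0⟩ := exists_twist_rows f hr
  set P := Finset.univ.erase (trivChar G) with hP
  choose D hDpos hD using fun χ : IrrCharacter G => χ.2.exists_degree
  choose D0 hD0 using fun χ : IrrCharacter G =>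
    (χ.2.isCharacter.comp Kc.subtype).exists_nat_classInner (Char.isCharacter_one (G := Kc))
  have hD0' : ∀ χ : IrrCharacter G,
      classInner (fun k : Kc => (χ : G → ℂ) k) (fun _ => 1) = (D0 χ : ℂ) := hD0
  let v : IrrCharacter G → Cert.Var := fun χ =>
    ⟨tyOf (r χ), ((D χ : ℤ) - D0 χ) / 64, ((D χ : ℤ) - (tyOf (r χ)).cc) / 64⟩
  -- the data of a character with a nonzero row
  have hdata : ∀ χ ∈ P, r χ ≠ 0 →
      (χ : G → ℂ) t = (((v χ).t.e : ℤ) : ℂ) ∧ (v χ).Ok ∧ (v χ).t.d (v χ).m = D χ ∧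
        64 * (v χ).n = (D χ : ℤ) - D0 χ := by
    intro χ hχP hne
    have hB : χ ∈ principalBlock M G := by
      by_contra hB
      obtain ⟨h1, h2⟩ := f.row_zero hM hB
      refine hne (funext fun u => ?_)
      have e := hr χ u
      fin_cases u <;> simp only [Five.basis, Fin.zero_eta, Fin.mk_one, Fin.reduceFinMk,
        Matrix.cons_val_zero, Matrix.cons_val_one, Matrix.cons_val, h1, h2] at e ⊢ <;>
        exact_mod_cast e.symm
    obtain ⟨a', ha', hav⟩ := f.value_four hM hB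
    have haa : a' = r χ 5 := by
      have e := hr χ 5
      simp only [Five.basis, Matrix.cons_val] at e
      rw [ha'] at e; exact_mod_cast e
    subst haa
    set e := (tyOf (r χ)).e with he
    have het : (χ : G → ℂ) t = (e : ℂ) := by
      rw [f.value_t hM hB (a := r χ 5) (b := ![r χ 0, r χ 1, r χ 2, r χ 3, r χ 4]) ha' (fun i => by
        have e0 := hr χ 0; have e1 := hr χ 1; have e2 := hr χ 2; have e3 := hr χ 3; have e4 := hr χ 4
        simp only [Five.basis, Matrix.cons_val_zero, Matrix.cons_val_one, Matrix.cons_val] at e0 e1 e2 e3 e4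
        fin_cases i
        exacts [e0, e1, e2, e3, e4])]
      rw [he, show (∑ i : ZMod 5, (![r χ 0, r χ 1, r χ 2, r χ 3, r χ 4] : Fin 5 → ℤ) i) =
          r χ 0 + r χ 1 + r χ 2 + r χ 3 + r χ 4 from Fin.sum_univ_five _]
      simp only [Cert.Ty.e, tyOf]
      push_cast; ring
    have hval := f.values_ks hM hB hav het
    have hconstK : ∀ k ∈ Kc, ∀ x ∈ (S : Subgroup G), x ≠ 1 →
        (χ : G → ℂ) (k * x) = (χ : G → ℂ) x := fun k hk x hx hx1 => by
      rw [hval k (le_sup_left (b := dsub S) hk) x hx hx1, ← hval 1 (one_mem _) x hx hx1, one_mul]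
    obtain ⟨d0, hd0, ⟨h1, hh1⟩, ⟨h2, hh2⟩, ⟨h3, hh3⟩⟩ := f.toCtx.congr_three χ.2.isCharacter
      (e := e) (a := r χ 5)
      (fun x hx hx1 => by
        have := hval 1 (one_mem _) x (f.hs.le hx) hx1
        rwa [one_mul, if_pos hx] at this)
      (fun x hx hxE => hav x (by
        rw [pPt_of_two ⟨2, by rw [f.toCtx.orderOf_four hx hxE]; rfl⟩, f.toCtx.orderOf_four hx hxE]))
      hconstK
    have hne1 : (χ : G → ℂ) ≠ fun _ => 1 := fun h =>
      (Finset.mem_erase.1 hχP).1 (Subtype.ext h)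
    obtain ⟨H, hKH, hSH, hn, hcop, hidx, hexp, hdecH⟩ := f.toCtx.hall
    set KH := Kc.subgroupOf H with hKHdef
    haveI := hn
    haveI := Fintype.ofFinite H
    haveI := Fintype.ofFinite KH
    have hχH : IsCharacter H (fun x => (χ : G → ℂ) x) := χ.2.isCharacter.comp H.subtype
    have hcH : ∀ x : H, x ∉ KH → ∀ k ∈ KH, (χ : G → ℂ) ((x * k : H) : G) = (χ : G → ℂ) (x : G) := by
      intro x hx k hk
      obtain ⟨k0, hk0, x0, hx0, hk0x⟩ := hdecH _ x.2
      have hx1 : x0 ≠ 1 := fun h => hx (Subgroup.mem_subgroupOf.2 (by rw [← hk0x, h, mul_one]; exact hk0))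
      have hconj : x0 * (k : G) * x0⁻¹ ∈ Kc :=
        f.toCtx.core_conj (f.toCtx.sylow_le_Ct hx0) (Subgroup.mem_subgroupOf.1 hk)
      rw [Subgroup.coe_mul, ← hk0x, show k0 * x0 * (k : G) = k0 * (x0 * (k : G) * x0⁻¹) * x0 by group,
        hconstK _ (mul_mem hk0 hconj) x0 hx0 hx1, hconstK _ hk0 x0 hx0 hx1]
    obtain ⟨kk, hkk, hkkne⟩ := f.toCtx.faithful hK hne1
    obtain ⟨d0', n, hd0', hn0, hdeg⟩ := degree_mod KH hcop hχH hcH
      ⟨⟨kk, hKH hkk⟩, Subgroup.mem_subgroupOf.2 hkk, hkkne⟩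
    have hdd : d0' = d0 := by
      have e1 : classInner (fun x : KH => (χ : G → ℂ) ((x : H) : G)) (fun _ => (1 : ℂ)) =
          classInner (fun k : Kc => (χ : G → ℂ) k) (fun _ => (1 : ℂ)) :=
        (Char.classInner_comp_equiv (Subgroup.subgroupOfEquivOfLe hKH)
          (fun k : Kc => (χ : G → ℂ) k) (fun _ => (1 : ℂ)))
      rw [hd0', hd0] at e1
      exact_mod_cast e1
    have hdc : d0 = D0 χ := by
      have e1 := hD0' χ
      rw [hd0] at e1
      exact_mod_cast e1
    subst hdd hdc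
    rw [hidx] at hdeg
    simp only [OneMemClass.coe_one, hD] at hdeg
    have hdeg' : D χ = D0 χ + 64 * n := by exact_mod_cast hdeg
    have hpos : (0 : ℤ) < D χ := by exact_mod_cast hDpos χ
    refine ⟨het, ⟨?_, ?_, ?_⟩, ?_, ?_⟩ <;>
      simp only [v, Cert.Ty.H, Cert.Ty.lo0, Cert.Ty.d] <;>
      simp only [Cert.Ty.e, Cert.Ty.cc, tyOf] at he hh1 hh2 hh3 hpos ⊢ <;>
      omega
  -- bounds on the rows
  have hbd : ∀ χ ∈ P, ∀ i : Fin 6, i ≠ 0 → i ≠ 5 → r χ i * r χ i ≤ 5 := by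
    intro χ hχ i h0 h5
    have h1 := Finset.single_le_sum (f := fun χ => r χ i * r χ i) (fun χ _ => mul_self_nonneg _) hχ
    rw [hG i i] at h1
    refine h1.trans (le_of_eq ?_)
    exact (by decide : ∀ i : Fin 6, i ≠ 0 → i ≠ 5 → gmat i i = 5) i h0 h5
  -- transfer to the representatives
  have hinv : ∀ χ, ((v (φ χ)).t.b, (v (φ χ)).t.s, (v (φ χ)).t.a, (v (φ χ)).t.S, (v (φ χ)).t.p,
      (v (φ χ)).n, (v (φ χ)).m) = ((v χ).t.b, (v χ).t.s, (v χ).t.a, (v χ).t.S, (v χ).t.p,
      (v χ).n, (v χ).m) := by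
    intro χ
    have e1 : D (φ χ) = D χ := by
      have := hφd χ; rw [hD, hD] at this; exact_mod_cast this
    have e2 : D0 (φ χ) = D0 χ := by
      have := hφ0 χ; rw [hD0', hD0'] at this; exact_mod_cast this
    simp only [v, tyOf, Cert.Ty.cc, hφr, rot, e1, e2, Matrix.cons_val_zero, Matrix.cons_val_one,
      Matrix.cons_val, Prod.mk.injEq]
    refine ⟨trivial, ?_, trivial, ?_, ?_, trivial, ?_⟩ <;> ring_nf
  have he : ∀ χ, χ ∈ P ↔ φ χ ∈ P := fun χ => by
    simp only [hP, Finset.mem_erase, Finset.mem_univ, and_true, ne_eq]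
    exact not_congr ⟨fun h => by rw [h, hφ1], fun h => φ.injective (h.trans hφ1.symm)⟩
  set L := ((P.filter fun χ => share' (r χ) ≠ 0 ∧ r χ ≠ 0).toList).map v with hL
  have htot : ∀ (γ : ℤ → ℤ → ℤ → ℤ → ℤ → ℤ → ℤ → ℚ),
      (∀ n m : ℤ, γ 0 0 0 0 0 n m = 0) →
      Cert.tot (fun x => γ x.t.b x.t.s x.t.a x.t.S x.t.p x.n x.m) L =
        ∑ χ ∈ P, γ (v χ).t.b (v χ).t.s (v χ).t.a (v χ).t.S (v χ).t.p (v χ).n (v χ).m := by
    intro γ hγ
    rw [hL, Cert.tot, List.map_map, Finset.sum_map_toList, Finset.sum_filter,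
      ← sum_share φ he hφr hbd (F := fun χ => γ (v χ).t.b (v χ).t.s (v χ).t.a (v χ).t.S (v χ).t.p
        (v χ).n (v χ).m) (fun χ => by
          have := hinv χ
          simp only [Prod.mk.injEq] at this
          obtain ⟨p1, p2, p3, p4, p5, p6, p7⟩ := this
          simp only [p1, p2, p3, p4, p5, p6, p7])]
    refine Finset.sum_congr rfl fun χ hχ => ?_
    split_ifs with h
    · obtain ⟨h1, -⟩ := h
      rw [((share_sum (hbd χ hχ)).2.resolve_left h1)]
      rfl
    · rcases not_and_or.1 h with h1 | h1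
      · rw [not_not.1 h1]; simp
      · have h0 : r χ = 0 := not_not.1 h1
        simp [v, tyOf, h0, hγ]
  -- the Gram equations
  have hgram : ∀ u w : Fin 6, ∑ χ ∈ P, ((r χ u : ℚ) * r χ w) = gmat u w := fun u w => by
    exact_mod_cast hG u w
  have htv : ∀ u, r (trivChar G) u = (![1, 0, 0, 0, 0, 1] : Fin 6 → ℤ) u := fun u => congrFun htriv u
  -- the linear equations
  have hlin : ∀ u, (∑ χ ∈ P, (r χ u : ℚ) * D0 χ = -((![1, 0, 0, 0, 0, 1] : Fin 6 → ℤ) u : ℚ)) ∧
      ∑ χ ∈ P, (r χ u : ℚ) * ((D χ : ℚ) - D0 χ) = 0 := by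
    intro u
    obtain ⟨h1, h0⟩ := rows_degrees f hr u
    simp only [hD] at h1
    simp only [hD0'] at h0
    have ht1 : D (trivChar G) = 1 := by
      have := hD (trivChar G); rw [trivChar_coe] at this; simp only at this; exact_mod_cast this.symm
    have ht0 : D0 (trivChar G) = 1 := by
      have := hD0' (trivChar G)
      rw [trivChar_coe] at this
      simp [classInner, Char.card_cast_ne_zero] at this
      exact_mod_cast this.symm
    have q1 : ∑ χ : IrrCharacter G, (r χ u : ℚ) * D χ = 0 := by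
      have : ((∑ χ : IrrCharacter G, (r χ u : ℚ) * D χ : ℚ) : ℂ) = ((0 : ℚ) : ℂ) := by
        push_cast; exact h1
      exact_mod_cast this
    have q0 : ∑ χ : IrrCharacter G, (r χ u : ℚ) * D0 χ = 0 := by
      have : ((∑ χ : IrrCharacter G, (r χ u : ℚ) * D0 χ : ℚ) : ℂ) = ((0 : ℚ) : ℂ) := by
        push_cast; exact h0
      exact_mod_cast this
    rw [← Finset.add_sum_erase Finset.univ _ (Finset.mem_univ (trivChar G)), htv] at q1 q0
    rw [ht1] at q1; rw [ht0] at q0
    simp only [Nat.cast_one, mul_one] at q1 q0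
    refine ⟨by linarith, ?_⟩
    simp only [mul_sub, Finset.sum_sub_distrib]
    linarith
  -- the class multiplication
  set I : Finset G := Finset.univ.filter fun x => orderOf x = 2 with hI
  have hIpos : 0 < I.card :=
    Finset.card_pos.2 ⟨t, Finset.mem_filter.2 ⟨Finset.mem_univ t, f.toCtx.orderOf_t⟩⟩
  have hI2 : (I.card : ℚ) * I.card ≠ 0 := by
    have : (0 : ℚ) < I.card := Nat.cast_pos.2 hIpos
    exact (mul_pos this this).ne'
  have hclass : ∀ (F : G → ℂ) (T : IrrCharacter G → ℤ), IsClassFunction G F →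
      (∀ χ : IrrCharacter G, classInner F (χ : G → ℂ) = (T χ : ℂ)) →
      (∀ χ, r χ = 0 → T χ = 0) →
      ∑ x ∈ I, ∑ y ∈ I, F (x * y) = ((((I.card : ℚ) * I.card) *
        ((T (trivChar G) : ℚ) + ∑ χ ∈ P, (T χ : ℚ) * (v χ).y) : ℚ) : ℂ) := by
    intro F T hF hT hT0
    rw [pair_sum f hF hI, ← Finset.add_sum_erase Finset.univ _ (Finset.mem_univ (trivChar G)), hT,
      trivChar_coe]
    push_cast
    congr 1
    congr 1
    · ring
    refine Finset.sum_congr rfl fun χ hχ => ?_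
    rw [hT]
    by_cases h : r χ = 0
    · rw [hT0 χ h]; simp
    obtain ⟨het, -, hd, -⟩ := hdata χ hχ h
    rw [het, hD, Cert.Var.y, hd]
    push_cast; ring
  have hA : (1 : ℚ) + ∑ χ ∈ P, (r χ 5 : ℚ) * (v χ).y = 0 := by
    have h := hclass f.alphaF (fun χ => r χ 5) f.alphaF_class
      (fun χ => by have e := hr χ 5; simpa [Five.basis] using e) (fun χ h => by simp [h])
    have hz : ∑ x ∈ I, ∑ y ∈ I, f.alphaF (x * y) = 0 :=
      Finset.sum_eq_zero fun x hx => Finset.sum_eq_zero fun y hy =>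
        f.toCtx.theta_product (f.inv_const 16 fun _ => 0) rfl (fun _ _ => Or.inr fun _ => rfl)
          (Finset.mem_filter.1 hx).2 (Finset.mem_filter.1 hy).2
    rw [hz, htv] at h
    have h' : ((I.card : ℚ) * I.card) *
        (((![1, 0, 0, 0, 0, 1] : Fin 6 → ℤ) 5 : ℚ) + ∑ χ ∈ P, (r χ 5 : ℚ) * (v χ).y) = 0 := by
      exact_mod_cast h.symm
    have := (mul_eq_zero.1 h').resolve_left hI2
    simpa using this
  have hbasis : ∀ (χ : IrrCharacter G),
      classInner (f.betaF 0) (χ : G → ℂ) = r χ 0 ∧ classInner (f.betaF 1) (χ : G → ℂ) = r χ 1 ∧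
      classInner (f.betaF 2) (χ : G → ℂ) = r χ 2 ∧ classInner (f.betaF 3) (χ : G → ℂ) = r χ 3 ∧
      classInner (f.betaF 4) (χ : G → ℂ) = r χ 4 := by
    intro χ
    have e0 := hr χ 0; have e1 := hr χ 1; have e2 := hr χ 2; have e3 := hr χ 3; have e4 := hr χ 4
    simp only [Five.basis, Matrix.cons_val_zero, Matrix.cons_val_one, Matrix.cons_val] at e0 e1 e2 e3 e4
    exact ⟨e0, e1, e2, e3, e4⟩
  have hB : (4 : ℚ) + ∑ χ ∈ P, ((4 * r χ 0 - (r χ 1 + r χ 2 + r χ 3 + r χ 4) : ℤ) : ℚ) * (v χ).y = 0 := by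
    set F : G → ℂ := (4 : ℂ) • f.betaF 0 - (f.betaF 1 + f.betaF 2 + f.betaF 3 + f.betaF 4) with hF
    have h := hclass F (fun χ => 4 * r χ 0 - (r χ 1 + r χ 2 + r χ 3 + r χ 4))
      (fun x k => by simp only [hF, Pi.sub_apply, Pi.add_apply, Pi.smul_apply, f.betaF_class _ x k])
      (fun χ => by
        obtain ⟨e0, e1, e2, e3, e4⟩ := hbasis χ
        simp only [hF, Char.classInner_sub_left, Char.classInner_add_left, Char.classInner_smul_left,
          e0, e1, e2, e3, e4]
        push_cast; ring) (fun χ h => by simp [h])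
    have hz : ∑ x ∈ I, ∑ y ∈ I, F (x * y) = 0 :=
      Finset.sum_eq_zero fun x hx => Finset.sum_eq_zero fun y hy => by
        rcases beta_product f (Finset.mem_filter.1 hx).2 (Finset.mem_filter.1 hy).2 with h | h <;>
          simp only [hF, Pi.sub_apply, Pi.add_apply, Pi.smul_apply, smul_eq_mul, h] <;> norm_num
    rw [hz] at h
    simp only [htv] at h
    have h' := Rat.cast_eq_zero.1 h.symm
    have h2 := (mul_eq_zero.1 h').resolve_left hI2
    simpa using h2
  have hC : (1 : ℚ) + ∑ χ ∈ P, (r χ 0 : ℚ) * (v χ).y < 0 := by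
    have h := hclass (f.betaF 0) (fun χ => r χ 0) (f.betaF_class 0) (fun χ => (hbasis χ).1)
      (fun χ h => by simp [h])
    set Q := (I ×ˢ I).filter fun p => f.betaF 0 (p.1 * p.2) = -16 with hQ
    have hsum : ∑ x ∈ I, ∑ y ∈ I, f.betaF 0 (x * y) = ((-16 * (Q.card : ℚ) : ℚ) : ℂ) := by
      rw [← Finset.sum_product', ← Finset.sum_filter_add_sum_filter_not (I ×ˢ I)
        (fun p => f.betaF 0 (p.1 * p.2) = -16)]
      rw [Finset.sum_congr rfl fun p hp => (Finset.mem_filter.1 hp).2, Finset.sum_const, nsmul_eq_mul,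
        Finset.sum_eq_zero fun p hp => ?_]
      · rw [← hQ]; push_cast; ring
      obtain ⟨hp1, hp2⟩ := Finset.mem_filter.1 hp
      obtain ⟨hx, hy⟩ := Finset.mem_product.1 hp1
      exact (beta_product f (Finset.mem_filter.1 hx).2 (Finset.mem_filter.1 hy).2).resolve_right
        (fun h => hp2 (h 0)) 0
    have hQpos : 0 < Q.card := by
      obtain ⟨a, b, d, ha, hb, -, ha1, hb1, -, hab, -, -, -⟩ := f.hs.exists_three
      obtain ⟨s, hs, hs1, hst⟩ : ∃ s ∈ E, s ≠ 1 ∧ s ≠ t := by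
        by_cases h : a = t
        · exact ⟨b, hb, hb1, fun e => hab (h.trans e.symm)⟩
        · exact ⟨a, ha, ha1, h⟩
      have hst1 : s * t ≠ 1 := fun h => hst ((mul_eq_one_iff_eq_inv.1 h).trans (f.hs.inv_eq f.ht))
      refine Finset.card_pos.2 ⟨(s, s * t), Finset.mem_filter.2 ⟨Finset.mem_product.2
        ⟨Finset.mem_filter.2 ⟨Finset.mem_univ _, f.toCtx.orderOf_two hs hs1⟩,
          Finset.mem_filter.2 ⟨Finset.mem_univ _, f.toCtx.orderOf_two (mul_mem hs f.ht) hst1⟩⟩, ?_⟩⟩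
      have e : s * (s * t) = t := by rw [← mul_assoc, f.hs.esq s hs, one_mul]
      show f.betaF 0 (s * (s * t)) = -16
      have hp : pPt 2 t = t := pPt_of_two ⟨1, by rw [f.toCtx.orderOf_t]; rfl⟩
      rw [e, Five.betaF, f.toCtx.theta_two (f.inv_const _ _) (x := t) (y := 1) (by rw [hp]; group),
        show pReg 2 t = 1 by
          have := pPt_mul_pReg (p := 2) t; rw [hp] at this; simpa using this,
        show (1 : G) * 1 * 1⁻¹ = 1 by group, f.kidx_lsub (one_mem _), psi_f2_zero]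
    rw [hsum, htv] at h
    have h' : -16 * (Q.card : ℚ) = ((I.card : ℚ) * I.card) *
        (1 + ∑ χ ∈ P, (r χ 0 : ℚ) * (v χ).y) := by
      have h2 : ((-16 * (Q.card : ℚ) : ℚ) : ℂ) = ((((I.card : ℚ) * I.card) *
        (((![1, 0, 0, 0, 0, 1] : Fin 6 → ℤ) 0 : ℚ) + ∑ χ ∈ P, (r χ 0 : ℚ) * (v χ).y) : ℚ) : ℂ) := h
      simpa using Rat.cast_injective h2
    by_contra hcon
    have h1 : (0 : ℚ) ≤ ((I.card : ℚ) * I.card) * (1 + ∑ χ ∈ P, (r χ 0 : ℚ) * (v χ).y) :=
      mul_nonneg (mul_self_nonneg _) (not_lt.1 hcon)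
    have : (0 : ℚ) < (Q.card : ℚ) := by exact_mod_cast hQpos
    linarith
  -- the system
  have hnm : ∀ u : Fin 6, (∑ χ ∈ P, (r χ u : ℚ) * (v χ).n = 0) ∧
      ∑ χ ∈ P, (r χ u : ℚ) * (64 * ((v χ).m - (v χ).n) + (v χ).t.cc) =
        -((![1, 0, 0, 0, 0, 1] : Fin 6 → ℤ) u : ℚ) := by
    intro u
    constructor
    · have : ∑ χ ∈ P, (r χ u : ℚ) * (v χ).n = (∑ χ ∈ P, (r χ u : ℚ) * ((D χ : ℚ) - D0 χ)) / 64 := by
        rw [Finset.sum_div]
        refine Finset.sum_congr rfl fun χ hχ => ?_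
        by_cases h : r χ = 0
        · simp [h]
        obtain ⟨-, -, -, hn⟩ := hdata χ hχ h
        have hn' : (64 : ℚ) * (v χ).n = (D χ : ℚ) - D0 χ := by exact_mod_cast hn
        rw [← hn']; ring
      rw [this, (hlin u).2]; norm_num
    · rw [← (hlin u).1]
      refine Finset.sum_congr rfl fun χ hχ => ?_
      by_cases h : r χ = 0
      · simp [h]
      obtain ⟨-, -, hd, hn⟩ := hdata χ hχ h
      have hn' : (64 : ℚ) * (v χ).n = (D χ : ℚ) - D0 χ := by exact_mod_cast hn
      have hd' : (64 : ℚ) * (v χ).m + (v χ).t.cc = (D χ : ℚ) := by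
        have : ((64 * (v χ).m + (v χ).t.cc : ℤ) : ℚ) = ((D χ : ℤ) : ℚ) := congrArg _ hd
        push_cast at this; exact this
      congr 1
      linarith
  have hy : ∀ x : Cert.Var, x.y = (((5 * x.t.a - 4 * (x.t.b + x.t.s)) * (5 * x.t.a - 4 * (x.t.b + x.t.s)) : ℤ) : ℚ) /
      ((64 * x.m + (12 * (x.t.b + x.t.s) - 11 * x.t.a) : ℤ) : ℚ) := fun x => rfl
  have hsys : Cert.System L := by
    constructor
    case bb =>
      rw [htot (fun b _ _ _ _ _ _ => (b : ℚ) * b) (by simp)]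
      have := hgram 0 0; simp [gmat] at this; simpa [v, tyOf] using this
    case bs =>
      rw [htot (fun b s _ _ _ _ _ => (b : ℚ) * s) (by simp)]
      simp only [v, tyOf, Int.cast_add, mul_add, Finset.sum_add_distrib, hgram]; simp [gmat]; norm_num
    case ba =>
      rw [htot (fun b _ a _ _ _ _ => (b : ℚ) * a) (by simp)]
      simp only [v, tyOf, hgram]; simp [gmat]
    case ss =>
      rw [htot (fun _ s _ _ _ _ _ => (s : ℚ) * s) (by simp)]
      simp only [v, tyOf, Int.cast_add, mul_add, add_mul, Finset.sum_add_distrib, hgram]; simp [gmat]; norm_num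
    case sa =>
      rw [htot (fun _ s a _ _ _ _ => (s : ℚ) * a) (by simp)]
      simp only [v, tyOf, Int.cast_add, add_mul, Finset.sum_add_distrib, hgram]; simp [gmat]; norm_num
    case aa =>
      rw [htot (fun _ _ a _ _ _ _ => (a : ℚ) * a) (by simp)]
      simp only [v, tyOf, hgram]; simp [gmat]
    case sq =>
      rw [htot (fun _ _ _ S _ _ _ => (S : ℚ)) (by simp)]
      simp only [v, tyOf, Int.cast_add, Int.cast_mul, Finset.sum_add_distrib, hgram]; simp [gmat]; norm_num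
    case pp =>
      rw [htot (fun _ _ _ _ p _ _ => (p : ℚ)) (by simp)]
      simp only [v, tyOf, Int.cast_add, Int.cast_mul, Finset.sum_add_distrib, hgram]; simp [gmat]; norm_num
    case bn =>
      rw [htot (fun b _ _ _ _ n _ => (b : ℚ) * n) (by simp)]
      exact (hnm 0).1
    case sn =>
      rw [htot (fun _ s _ _ _ n _ => (s : ℚ) * n) (by simp)]
      have e : ∀ χ, (v χ).t.s = r χ 1 + r χ 2 + r χ 3 + r χ 4 := fun χ => rfl
      simp only [e, Int.cast_add, add_mul, Finset.sum_add_distrib, (hnm _).1]; norm_num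
    case an =>
      rw [htot (fun _ _ a _ _ n _ => (a : ℚ) * n) (by simp)]
      exact (hnm 5).1
    case b0 =>
      refine (htot (fun b s a _ _ n m => (b : ℚ) * (64 * ((m : ℚ) - n) + ((12 * (b + s) - 11 * a : ℤ) : ℚ)))
        (by simp)).trans ((hnm 0).2.trans ?_)
      simp
    case s0 =>
      refine (htot (fun b s a _ _ n m => (s : ℚ) * (64 * ((m : ℚ) - n) + ((12 * (b + s) - 11 * a : ℤ) : ℚ)))
        (by simp)).trans ?_
      have e : ∀ χ, (v χ).t.s = r χ 1 + r χ 2 + r χ 3 + r χ 4 := fun χ => rfl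
      have e' : ∀ χ, ((12 * ((v χ).t.b + (v χ).t.s) - 11 * (v χ).t.a : ℤ) : ℚ) = ((v χ).t.cc : ℚ) :=
        fun χ => rfl
      simp only [e']
      simp only [e, Int.cast_add, add_mul, Finset.sum_add_distrib, (hnm _).2]
      simp
    case a0 =>
      refine (htot (fun b s a _ _ n m => (a : ℚ) * (64 * ((m : ℚ) - n) + ((12 * (b + s) - 11 * a : ℤ) : ℚ)))
        (by simp)).trans ((hnm 5).2.trans ?_)
      simp
    case ca =>
      refine (htot (fun b s a _ _ _ m => (a : ℚ) * ((((5 * a - 4 * (b + s)) * (5 * a - 4 * (b + s)) : ℤ) : ℚ) /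
        ((64 * m + (12 * (b + s) - 11 * a) : ℤ) : ℚ))) (by simp)).trans ?_
      simp only [← hy]
      have e : ∀ χ, (v χ).t.a = r χ 5 := fun χ => rfl
      simp only [e]; linarith
    case cs =>
      refine (htot (fun b s a _ _ _ m => (4 * (b : ℚ) - s) * ((((5 * a - 4 * (b + s)) * (5 * a - 4 * (b + s)) : ℤ) : ℚ) /
        ((64 * m + (12 * (b + s) - 11 * a) : ℤ) : ℚ))) (by simp)).trans ?_
      simp only [← hy]
      have e : ∀ χ, (4 * ((v χ).t.b : ℚ) - (v χ).t.s) =
          ((4 * r χ 0 - (r χ 1 + r χ 2 + r χ 3 + r χ 4) : ℤ) : ℚ) := fun χ => by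
        simp [v, tyOf]
      simp only [e]; linarith
    case cb =>
      refine ((htot (fun b s a _ _ _ m => (b : ℚ) * ((((5 * a - 4 * (b + s)) * (5 * a - 4 * (b + s)) : ℤ) : ℚ) /
        ((64 * m + (12 * (b + s) - 11 * a) : ℤ) : ℚ))) (by simp))).le.trans ?_
      simp only [← hy]
      have e : ∀ χ, (v χ).t.b = r χ 0 := fun χ => rfl
      simp only [e]; linarith
  refine Cert.no_system Cert.check_tree L (fun x hx => ?_) hsys
  obtain ⟨χ, hχ, rfl⟩ := List.mem_map.1 hx
  obtain ⟨hχP, hsh, hne⟩ := Finset.mem_filter.1 (Finset.mem_toList.1 hχ)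
  refine ⟨?_, (hdata χ hχP hne).2.1⟩
  obtain ⟨hq, -⟩ := rowQ_bound hG hχP
  obtain ⟨⟨hb1, hb2⟩, -, ⟨ha1, ha2⟩, -⟩ := row_range (b := r χ 0) (a := r χ 5) (s := r χ 1 + r χ 2 + r χ 3 + r χ 4)
    (c := ![r χ 1, r χ 2, r χ 3, r χ 4]) (by simp [Fin.sum_univ_four]) (by
      simpa [rowQ, Fin.sum_univ_four] using hq)
  have hkpos : ∀ χ, 0 ≤ (v χ).t.k := fun χ => by
    show 0 ≤ period (r χ 1) (r χ 2) (r χ 3) (r χ 4)
    unfold period; split_ifs <;> norm_num
  have hterm : ∀ (γ : Cert.Var → ℚ) (c : ℚ), (∀ x, 0 ≤ γ x) → Cert.tot γ L = c →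
      ((v χ).t.k : ℚ) * γ (v χ) ≤ c := by
    intro γ c hpos htotc
    rw [← htotc, hL, Cert.tot, List.map_map, Finset.sum_map_toList]
    exact Finset.single_le_sum (f := fun χ => ((v χ).t.k : ℚ) * γ (v χ))
      (fun χ _ => mul_nonneg (by exact_mod_cast hkpos χ) (hpos _))
      (Finset.mem_filter.2 ⟨hχP, hsh, hne⟩)
  have k1 := hterm _ _ (fun x => mul_self_nonneg _) hsys.bb
  have k2 := hterm _ _ (fun x => mul_self_nonneg _) hsys.aa
  have k4 := hterm _ _ (fun x => mul_self_nonneg _) hsys.ss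
  have k3 : (v χ).t.k * (v χ).t.S ≤ 20 := by
    have h := hsys.sq
    rw [hL, Cert.tot, List.map_map, Finset.sum_map_toList] at h
    have := Finset.single_le_sum (s := P.filter fun χ => share' (r χ) ≠ 0 ∧ r χ ≠ 0)
      (f := fun χ => ((v χ).t.k : ℚ) * ((v χ).t.S : ℚ))
      (fun χ _ => mul_nonneg (by exact_mod_cast hkpos χ) (by
        simp only [v, tyOf]; push_cast
        nlinarith [mul_self_nonneg (r χ 1 : ℚ), mul_self_nonneg (r χ 2 : ℚ),
          mul_self_nonneg (r χ 3 : ℚ), mul_self_nonneg (r χ 4 : ℚ)]))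
      (Finset.mem_filter.2 ⟨hχP, hsh, hne⟩)
    have h2 : ((v χ).t.k : ℚ) * ((v χ).t.S : ℚ) ≤ 20 := this.trans (le_of_eq h)
    exact_mod_cast h2
  exact mem_types (hbd χ hχP) ⟨hb1, hb2⟩ ⟨ha1, ha2⟩ hsh hne hq
    ⟨by exact_mod_cast k1, by exact_mod_cast k2, k3, by exact_mod_cast k4⟩

end Cfsg.Lib.U34Type
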