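import Cfsg.Agent.Lib.U34Type.Central
import Cfsg.Agent.Lib.U34Type.Kill
import Cfsg.Agent.Lib.PiHom.U34.ThreeFinal
import Cfsg.Agent.Lib.StrongEmb.RankTwo

/-!
# Centralizers of involutions in a simple group with a Sylow 2-subgroup of the type of `U₃(4)`

The odd core of such a centralizer is trivial, so it normalizes the Sylow subgroup.
-/

set_option autoImplicit false
set_option linter.unusedSectionVars false
set_option linter.style.haveILetI false

namespace Cfsg.Lib.U34Type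

open Cfsg Cfsg.Lib
open Cfsg.Lib.PiHom.U34 (Shape Ct mem_Ct lsub dsub)

universe u

variable {G : Type u} [Group G] [Finite G]

/-- The relation between squares and commutators in the model. -/
theorem no_equal_sq {F : Type*} [Field F] (h2 : (2 : F) = 0) {p r : F} (hp : p ≠ 0)
    (hsq : p ^ 5 = r ^ 5) (hc : p ^ 4 * r = p ^ 5 + r ^ 4 * p) : False := by
  obtain ⟨w, rfl⟩ : ∃ w, r = p * w := ⟨p⁻¹ * r, (mul_inv_cancel_left₀ hp r).symm⟩
  have h5 : w ^ 5 = 1 := mul_left_cancel₀ (pow_ne_zero 5 hp) (by linear_combination -hsq)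
  have h4 : w = 1 + w ^ 4 := mul_left_cancel₀ (pow_ne_zero 5 hp) (by linear_combination hc)
  have hw2 : w ^ 2 = w + 1 := by linear_combination w * h4 + h5
  have hw3 : w ^ 3 = 1 := by linear_combination (w + 1) * hw2 + w * h2
  have h1 : w ^ 2 = 1 := by linear_combination h5 - w ^ 2 * hw3
  have h0 : w = 0 := by linear_combination h1 - hw2
  rw [h0] at h5
  exact one_ne_zero (show (1 : F) = 0 by linear_combination -h5)

/-- The weak shape of a Sylow 2-subgroup isomorphic to that of `U₃(4)`. -/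
theorem weak_of_iso {S : Sylow 2 G} {E : Subgroup G} {F : Type*} [Field F] [Fintype F]
    (hF : Fintype.card F = 16) (P : Sylow 2 (Cfsg.PSU 3 F 4))
    (e : (S : Subgroup G) ≃* (P : Subgroup (Cfsg.PSU 3 F 4))) (hle : E ≤ (S : Subgroup G))
    (hcard : Nat.card E = 4) (hsq : ∀ x ∈ E, x * x = 1)
    (hinv : ∀ x ∈ (S : Subgroup G), x * x = 1 → x ∈ E) :
    Weak (S : Subgroup G) E := by
  obtain ⟨hc, -⟩ := Cfsg.Agent.S1248.result hF P
  obtain ⟨U, u, ⟨i⟩, hu, hmul⟩ := Cfsg.Agent.S1248.struct hF P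
  have h2 := Cfsg.Lib.U34.two_eq_zero hF
  set f : Cfsg.Agent.S1248.Par F → (S : Subgroup G) := fun p => e.symm (i (u p)) with hf
  have hfb : Function.Bijective f := (e.symm.bijective.comp i.bijective).comp hu
  have hfm : ∀ p r, f p * f r =
      f ⟨(p.1.1 + r.1.1, p.1.2 + r.1.2 + p.1.1 ^ 4 * r.1.1), Cfsg.Agent.S1248.par_mul hF p r⟩ :=
    fun p r => by simp only [hf]; rw [← map_mul, ← map_mul, hmul]
  set o : Cfsg.Agent.S1248.Par F := ⟨(0, 0), by simp⟩ with ho
  have hf1 : f o = 1 := by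
    have h1 := hfm o o
    refine mul_left_cancel (a := f o) ?_
    rw [h1, mul_one]
    exact congrArg f (Subtype.ext (Prod.ext (by simp [ho]) (by simp [ho])))
  have hE' : ∀ p : Cfsg.Agent.S1248.Par F, (f p : G) ∈ E ↔ p.1.1 = 0 := by
    intro p
    have hs1 : f p * f p = 1 ↔ p.1.1 = 0 := by
      rw [hfm, ← hf1, hfb.1.eq_iff, Subtype.ext_iff, Prod.ext_iff]
      simp only [ho]
      constructor
      · rintro ⟨-, h⟩
        by_contra hy
        exact pow_ne_zero 5 hy (by linear_combination h - p.1.2 * h2)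
      · intro hy
        exact ⟨by rw [hy]; ring, by rw [hy]; linear_combination p.1.2 * h2⟩
    constructor
    · exact fun h => hs1.1 (Subtype.ext (hsq _ h))
    · exact fun h => hinv _ (f p).2 (congrArg Subtype.val (hs1.2 h))
  refine ⟨hle, (Nat.card_congr e.toEquiv).trans hc, hcard, hsq, hinv, fun a ha x hx => ?_,
    fun x hx => ?_, fun x hx y hy => ?_, fun x hx y hy hxE hyE hxy hcm => ?_⟩
  · obtain ⟨p, hp⟩ := hfb.2 ⟨x, hx⟩
    obtain ⟨r, hr⟩ := hfb.2 ⟨a, hle ha⟩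
    have hr0 : r.1.1 = 0 := (hE' r).1 (by rw [hr]; exact ha)
    have : f r * f p = f p * f r := by
      rw [hfm, hfm]
      refine congrArg f (Subtype.ext (Prod.ext ?_ ?_))
      · simp [hr0]
      · simp [hr0, add_comm]
    rw [hr, hp] at this
    exact congrArg Subtype.val this
  · obtain ⟨p, hp⟩ := hfb.2 ⟨x, hx⟩
    have := congrArg Subtype.val (hfm p p)
    rw [hp, Subgroup.coe_mul] at this
    rw [this, hE']
    exact (show p.1.1 + p.1.1 = 0 by linear_combination p.1.1 * h2)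
  · obtain ⟨p, hp⟩ := hfb.2 ⟨x, hx⟩
    obtain ⟨r, hr⟩ := hfb.2 ⟨y, hy⟩
    obtain ⟨q, hq⟩ := hfb.2 (f p * f r * (f p)⁻¹ * (f r)⁻¹)
    have hxy : (f q : G) = x * y * x⁻¹ * y⁻¹ := by rw [hq, hp, hr]; rfl
    rw [← hxy, hE']
    have h1 : f p * f r = f q * (f r * f p) := by rw [hq]; group
    rw [hfm, hfm, hfm, hfb.1.eq_iff, Subtype.ext_iff, Prod.ext_iff] at h1
    have h1' : p.1.1 + r.1.1 = q.1.1 + (r.1.1 + p.1.1) := h1.1
    linear_combination -h1'
  · obtain ⟨p, hp⟩ := hfb.2 ⟨x, hx⟩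
    obtain ⟨r, hr⟩ := hfb.2 ⟨y, hy⟩
    have hp0 : p.1.1 ≠ 0 := fun h => hxE (by have := (hE' p).2 h; rwa [hp] at this)
    have h1 : f p * f p = f r * f r := by rw [hp, hr]; exact Subtype.ext hxy
    rw [hfm, hfm, hfb.1.eq_iff, Subtype.ext_iff, Prod.ext_iff] at h1
    have h3 : f p * f r = f p * f p * (f r * f p) := by
      rw [hp, hr]
      apply Subtype.ext
      simp only [Subgroup.coe_mul]
      rw [← hcm]
      group
    rw [hfm p r, hfm r p, hfm p p, hfm, hfb.1.eq_iff, Subtype.ext_iff, Prod.ext_iff] at h3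
    have e1 : p.1.2 + p.1.2 + p.1.1 ^ 4 * p.1.1 = r.1.2 + r.1.2 + r.1.1 ^ 4 * r.1.1 := h1.2
    have e2 : p.1.2 + r.1.2 + p.1.1 ^ 4 * r.1.1 =
        p.1.2 + p.1.2 + p.1.1 ^ 4 * p.1.1 + (r.1.2 + p.1.2 + r.1.1 ^ 4 * p.1.1) +
          (p.1.1 + p.1.1) ^ 4 * (r.1.1 + p.1.1) := h3.2
    exact no_equal_sq (r := r.1.1) h2 hp0 (by linear_combination e1 + (r.1.2 - p.1.2) * h2)
      (by linear_combination e2 + (p.1.2 + 8 * p.1.1 ^ 4 * (r.1.1 + p.1.1)) * h2)

/-- The shape is weak once squares determine commutators as in the model. -/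
theorem Weak.shape {S : Subgroup G} {E : Subgroup G} (hs : Shape S E)
    (h : ∀ x ∈ S, ∀ y ∈ S, x ∉ E → y ∉ E → x * x = y * y → x * y * x⁻¹ * y⁻¹ ≠ x * x) : Weak S E :=
  ⟨hs.le, hs.cardS, hs.cardE, hs.esq, hs.invol, hs.central, hs.sq, hs.comm, h⟩

/-- The odd core of the centralizer of `t`, inside the group. -/
noncomputable abbrev kc (t : G) : Subgroup G := (Cfsg.oddCore ↥(Ct t)).map (Ct t).subtype

section

variable {S : Sylow 2 G} {E : Subgroup G} {t : G} (w : Weak (S : Subgroup G) E) (ht : t ∈ E)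
  (ht1 : t ≠ 1)
include w ht ht1

theorem le_Ct : (S : Subgroup G) ≤ Ct t := fun x hx => mem_Ct.2 (w.central t ht x hx).symm

theorem weak_Ct : Weak (S.subtype (le_Ct w ht ht1) : Subgroup ↥(Ct t)) (E.subgroupOf (Ct t)) := by
  rw [Sylow.coe_subtype]
  exact w.subgroupOf (le_Ct w ht ht1)

theorem central_Ct (g : ↥(Ct t)) : Commute (⟨t, le_Ct w ht ht1 (w.le ht)⟩ : ↥(Ct t)) g :=
  Subtype.ext (mem_Ct.1 g.2).symm.eq

theorem kc_odd : Odd (Nat.card (kc t)) := by
  rw [Subgroup.card_map_of_injective (Subgroup.subtype_injective _)]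
  exact odd_oddCore_card

theorem normalizer_kc : Ct t ≤ Subgroup.normalizer (kc t : Set G) := fun g hg =>
  Subgroup.mem_normalizer_fintype fun x hx => by
    obtain ⟨k, hk, rfl⟩ := hx
    exact ⟨⟨g, hg⟩ * k * ⟨g, hg⟩⁻¹,
      (inferInstance : (Cfsg.oddCore ↥(Ct t)).Normal).conj_mem k hk ⟨g, hg⟩, rfl⟩

theorem split_Ct : ∀ x ∈ Ct t, ∃ k ∈ kc t, ∃ n ∈ Ct t,
    n ∈ Subgroup.normalizer ((S : Subgroup G) : Set G) ∧ x = k * n := by
  intro x hx
  obtain ⟨k, hk, n, hn, he⟩ := exists_core_normalizer (weak_Ct w ht ht1)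
    (t := ⟨t, le_Ct w ht ht1 (w.le ht)⟩) ht (fun h => ht1 (congrArg Subtype.val h))
    (central_Ct w ht ht1) ⟨x, hx⟩
  refine ⟨k, ⟨k, hk, rfl⟩, n, n.2, ?_, congrArg Subtype.val he⟩
  refine Subgroup.mem_normalizer_fintype fun s hs => ?_
  exact (Subgroup.mem_normalizer_iff.1 hn ⟨s, le_Ct w ht ht1 hs⟩).1 hs

theorem inverted_Ct : ∀ x r : G, orderOf x = 2 → x ∈ Ct t → Odd (orderOf r) → r ∈ Ct t →
    x * r * x⁻¹ = r⁻¹ → r ∈ kc t := by
  intro x r hx hxt hr hrt hxr
  haveI : Fact (Nat.Prime 2) := ⟨Nat.prime_two⟩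
  set T := S.subtype (le_Ct w ht ht1) with hT
  set x' : ↥(Ct t) := ⟨x, hxt⟩
  set r' : ↥(Ct t) := ⟨r, hrt⟩
  have hx' : orderOf x' = 2 := by rw [← Subgroup.orderOf_coe]; exact hx
  obtain ⟨Q, hQ⟩ := (IsPGroup.of_card (n := 1) (by rw [Nat.card_zpowers, hx', pow_one]) :
    IsPGroup 2 (Subgroup.zpowers x')).exists_le_sylow
  obtain ⟨c, hcQ⟩ := MulAction.exists_smul_eq ↥(Ct t) Q T
  have hcT : c * x' * c⁻¹ ∈ (T : Subgroup ↥(Ct t)) := by
    rw [← hcQ]
    exact ⟨x', hQ (Subgroup.mem_zpowers _), by simp [MulAut.smul_def]⟩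
  have ww := weak_Ct w ht ht1
  have hxE : c * x' * c⁻¹ ∈ E.subgroupOf (Ct t) := ww.invol _ hcT (by
    rw [show c * x' * c⁻¹ * (c * x' * c⁻¹) = c * (x' * x') * c⁻¹ by group, Invol.inv_mul_self hx']
    group)
  have hiso := isolated ww (t := ⟨t, le_Ct w ht ht1 (w.le ht)⟩) ht
    (fun h => ht1 (congrArg Subtype.val h)) (central_Ct w ht ht1) hxE
    (fun h => Invol.ne_one hx' (conj_eq_one_iff.1 h))
  have hiso' := Invol.isolated_conj hiso c⁻¹
  rw [inv_inv, show c⁻¹ * (c * x' * c⁻¹) * c = x' by group] at hiso'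
  have h := ZStar.zStarHolds _ x' hiso' r'
  have h2 : x' * r' * x'⁻¹ = r'⁻¹ := Subtype.ext hxr
  rw [h2, ← mul_inv_rev, inv_mem_iff] at h
  obtain ⟨j, hj⟩ := hr
  refine ⟨r', ?_, rfl⟩
  have h3 : (r' * r') ^ (j + 1) = r' := by
    rw [← pow_two, ← pow_mul, show 2 * (j + 1) = (2 * j + 1) + 1 by ring, pow_succ, ← hj]
    have : r' ^ orderOf r = 1 := Subtype.ext (by simp [r', pow_orderOf_eq_one])
    rw [this, one_mul]
  rw [← h3]
  exact pow_mem h _

/-- The standing data at an involution of `E`. -/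
theorem ctx (hsim : IsSimpleGroup G) (hna : ¬ IsMulCommutative G) (hs : Shape (S : Subgroup G) E) :
    PiHom.U34.Ctx (kc t) S E t :=
  ⟨hsim, hna, hs, ht, ht1, split_Ct w ht ht1, kc_odd w ht ht1, inverted_Ct w ht ht1,
    Subgroup.map_subtype_le _, normalizer_kc w ht ht1⟩

/-- An odd element whose commutators with the Sylow subgroup are odd lies in `L`. -/
theorem mem_lsub_of_odd {y : G} (hy : y ∈ Ct t) (hyo : Odd (orderOf y))
    (hc : ∀ s ∈ (S : Subgroup G), Odd (orderOf (y * s * y⁻¹ * s⁻¹))) :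
    y ∈ lsub (kc t) S t := by
  obtain ⟨k, hk, n, hnt, hnN, hyk⟩ := split_Ct w ht ht1 y hy
  subst hyk
  obtain ⟨k, hk', rfl⟩ := hk
  refine mul_mem (Subgroup.mem_sup_left ⟨k, hk', rfl⟩) (Subgroup.mem_sup_right
    (Subgroup.subset_closure ?_))
  set q := QuotientGroup.mk' (Cfsg.oddCore ↥(Ct t))
  set n' : ↥(Ct t) := ⟨n, hnt⟩
  have hker : ∀ z, q z = 1 → z ∈ Cfsg.oddCore ↥(Ct t) := fun z h => (QuotientGroup.eq_one_iff z).1 h
  have hkn : q (k * n') = q n' := by
    rw [map_mul, show q k = 1 from (QuotientGroup.eq_one_iff k).2 hk', one_mul]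
  refine ⟨?_, fun s hs => ?_⟩
  · have h1 : q n' ^ orderOf ((k : G) * n) = 1 := by
      rw [← hkn, ← map_pow]
      have : (k * n') ^ orderOf ((k : G) * n) = 1 := Subtype.ext (by
        simp only [SubmonoidClass.coe_pow, Subgroup.coe_mul, n', Subgroup.coe_one]
        exact pow_orderOf_eq_one _)
      rw [this, map_one]
    have h2 := hker _ ((map_pow q n' _).trans h1)
    have h3 : n' ^ (orderOf ((k : G) * n) * Nat.card (Cfsg.oddCore ↥(Ct t))) = 1 := by
      rw [pow_mul]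
      exact congrArg Subtype.val (pow_card_eq_one' (x := (⟨_, h2⟩ : Cfsg.oddCore ↥(Ct t))))
    have h4 := orderOf_dvd_of_pow_eq_one (congrArg Subtype.val h3 :
      n ^ (orderOf ((k : G) * n) * Nat.card (Cfsg.oddCore ↥(Ct t))) = 1)
    exact (hyo.mul odd_oddCore_card).of_dvd_nat h4
  · set z := n * s * n⁻¹ * s⁻¹ with hz
    set b := (k : G) * n * s * ((k : G) * n)⁻¹ * s⁻¹ with hb
    have hst := le_Ct w ht ht1 hs
    set s' : ↥(Ct t) := ⟨s, hst⟩
    set z' := n' * s' * n'⁻¹ * s'⁻¹ with hz'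
    set b' := (k * n') * s' * (k * n')⁻¹ * s'⁻¹ with hb'
    have hqz : q z' = q b' := by
      simp only [hz', hb', map_mul, map_inv, show q k = 1 from (QuotientGroup.eq_one_iff k).2 hk', one_mul]
    have hzS : z ∈ (S : Subgroup G) :=
      mul_mem ((Subgroup.mem_normalizer_iff.1 hnN s).1 hs) (inv_mem hs)
    have hb1 : b' ^ orderOf b = 1 := Subtype.ext (by
      show b ^ orderOf b = 1
      exact pow_orderOf_eq_one _)
    have h2 : z' ^ orderOf b ∈ Cfsg.oddCore ↥(Ct t) := hker _ (by rw [map_pow, hqz, ← map_pow, hb1, map_one])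
    have h3 : z' ^ (orderOf b * Nat.card (Cfsg.oddCore ↥(Ct t))) = 1 := by
      rw [pow_mul]
      exact congrArg Subtype.val (pow_card_eq_one' (x := (⟨_, h2⟩ : Cfsg.oddCore ↥(Ct t))))
    have h4 := orderOf_dvd_of_pow_eq_one (congrArg Subtype.val h3 :
      z ^ (orderOf b * Nat.card (Cfsg.oddCore ↥(Ct t))) = 1)
    have hodd : Odd (orderOf z) := ((hc s hs).mul odd_oddCore_card).of_dvd_nat h4
    obtain ⟨m, hm⟩ := S.2 ⟨z, hzS⟩
    have hz1 : z = 1 := PiHom.U34.eq_one_of_odd_two hodd (k := m) (congrArg Subtype.val hm)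
    calc n * s = z * s * n := by rw [hz]; group
      _ = s * n := by rw [hz1, one_mul]

/-- Balance: the core on the centralizer of `E` goes into `L` under the normalizer of `S`. -/
theorem balance (hs : Shape (S : Subgroup G) E) :
    ∀ m ∈ Subgroup.normalizer ((S : Subgroup G) : Set G), ∀ k ∈ kc t,
      (∀ e ∈ E, Commute k e) → m * k * m⁻¹ ∈ lsub (kc t) S t := by
  intro m hm k hk hkE
  set C := Subgroup.centralizer (E : Set G) with hC
  have hmem : ∀ {x : G}, x ∈ C ↔ ∀ e ∈ E, Commute x e := fun {x} =>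
    ⟨fun h e he => (Subgroup.mem_centralizer_iff.1 h e he).symm,
      fun h => Subgroup.mem_centralizer_iff.2 fun e he => (h e he).eq.symm⟩
  have hCt : C ≤ Ct t := fun x hx => mem_Ct.2 (hmem.1 hx t ht)
  set O := (Cfsg.oddCore ↥C).map C.subtype with hO
  have hOodd : Odd (Nat.card O) := by
    rw [hO, Subgroup.card_map_of_injective (Subgroup.subtype_injective _)]
    exact odd_oddCore_card
  have hkO : k ∈ O := by
    haveI : ((kc t).subgroupOf C).Normal := ⟨fun x hx g => Subgroup.mem_subgroupOf.2 (by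
      simpa using (Subgroup.mem_normalizer_iff.1 (normalizer_kc w ht ht1 (hCt g.2)) _).1 hx)⟩
    refine ⟨⟨k, hmem.2 hkE⟩, Core.le_pPrimeCore (N := (kc t).subgroupOf C) ?_ hk, rfl⟩
    refine Nat.coprime_two_right.2 ((kc_odd w ht ht1).of_dvd_nat ?_)
    rw [← Subgroup.card_map_of_injective C.subtype_injective, Subgroup.subgroupOf_map_subtype]
    exact Subgroup.card_dvd_of_le inf_le_left
  have hconjE : ∀ n ∈ Subgroup.normalizer ((S : Subgroup G) : Set G), ∀ e ∈ E, n * e * n⁻¹ ∈ E :=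
    fun n hn e he => w.invol _ ((Subgroup.mem_normalizer_iff.1 hn e).1 (w.le he)) (by
      rw [show n * e * n⁻¹ * (n * e * n⁻¹) = n * (e * e) * n⁻¹ by group, w.esq e he]; group)
  have hconjC : ∀ n ∈ Subgroup.normalizer ((S : Subgroup G) : Set G), ∀ x ∈ C, n * x * n⁻¹ ∈ C :=
    fun n hn x hx => hmem.2 fun e he => by
      have h := (hmem.1 hx _ (hconjE n⁻¹ (inv_mem hn) e he)).map (MulAut.conj n).toMonoidHom
      simpa [mul_assoc] using h
  have hconjO : ∀ n ∈ Subgroup.normalizer ((S : Subgroup G) : Set G), ∀ x ∈ O, n * x * n⁻¹ ∈ O := by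
    rintro n hn _ ⟨x, hx, rfl⟩
    let φ : ↥C ≃* ↥C :=
      { toFun := fun y => ⟨n * y * n⁻¹, hconjC n hn y y.2⟩
        invFun := fun y => ⟨n⁻¹ * y * n, by simpa using hconjC n⁻¹ (inv_mem hn) y y.2⟩
        left_inv := fun y => Subtype.ext (by simp [mul_assoc])
        right_inv := fun y => Subtype.ext (by simp [mul_assoc])
        map_mul' := fun a b => Subtype.ext (by simp) }
    exact ⟨φ x, Core.map_pPrimeCore_le φ.toMonoidHom φ.surjective (Subgroup.mem_map_of_mem _ hx), rfl⟩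
  have hy := hconjO m hm k hkO
  have hOC : O ≤ C := Subgroup.map_subtype_le _
  have hodd : ∀ x ∈ O, Odd (orderOf x) := fun x hx =>
    hOodd.of_dvd_nat (Subgroup.orderOf_dvd_natCard O hx)
  refine mem_lsub_of_odd w ht ht1 (hCt (hOC hy)) (hodd _ hy) fun s hs' => hodd _ ?_
  have h := hconjO s (Subgroup.le_normalizer hs') _ (inv_mem hy)
  rw [mul_assoc (_ * _) _ s⁻¹, mul_assoc (m * k * m⁻¹)]
  exact mul_mem hy (by simpa [mul_assoc] using h)

/-- The core of the centralizer vanishes in a simple group. -/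
theorem kc_eq_bot (hsim : IsSimpleGroup G) (hna : ¬ IsMulCommutative G) (hs : Shape (S : Subgroup G) E) :
    kc t = ⊥ := by
  by_contra hK
  haveI := Fintype.ofFinite G
  have c := ctx w ht ht1 hsim hna hs
  by_cases h3 : ∀ x, Odd (orderOf x) → x ∈ Subgroup.normalizer ((S : Subgroup G) : Set G) → x ∈ Ct t →
      ∀ y ∈ (S : Subgroup G), Commute x y
  · exact c.false_three hK h3
  · push_neg at h3
    obtain ⟨g, hodd, hnorm, hcent, y, hy, hyc⟩ := h3
    exact false_core (g := g)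
      ⟨c, balance w ht ht1 hs, hodd, hnorm, hcent, fun hall => hyc (hall y hy)⟩ hK

/-- The centralizer normalizes the Sylow subgroup. -/
theorem Ct_le_normalizer (hsim : IsSimpleGroup G) (hna : ¬ IsMulCommutative G)
    (hs : Shape (S : Subgroup G) E) : Ct t ≤ Subgroup.normalizer ((S : Subgroup G) : Set G) := by
  intro x hx
  obtain ⟨k, hk, n, -, hn, rfl⟩ := split_Ct w ht ht1 x hx
  rw [kc_eq_bot w ht ht1 hsim hna hs, Subgroup.mem_bot] at hk
  rwa [hk, one_mul]

end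

end Cfsg.Lib.U34Type
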