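import Cfsg.Agent.Lib.U34Type.Cert

/-!
# The certificate data

The types of rows and a tree of refutations, found by branch and bound.
-/

set_option autoImplicit false
set_option maxHeartbeats 1000000

namespace Cfsg.Lib.U34Type.Cert

/-- The types of rows that occur. -/
def types : List Ty :=
  [⟨-1, -4, -3, 4, 1, 2⟩,
   ⟨-1, -4, -2, 4, 1, 2⟩,
   ⟨-1, -4, -1, 4, 1, 2⟩,
   ⟨-1, -2, -2, 2, 2, 1⟩,
   ⟨-1, -2, -1, 2, 2, 1⟩,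
   ⟨-1, -2, -1, 2, 4, 0⟩,
   ⟨-1, -2, 0, 2, 2, 1⟩,
   ⟨-1, -2, 0, 2, 4, 0⟩,
   ⟨-1, -1, -1, 1, 4, 0⟩,
   ⟨-1, -1, -1, 3, 4, -1⟩,
   ⟨-1, -1, -1, 3, 4, 1⟩,
   ⟨-1, -1, 0, 1, 4, 0⟩,
   ⟨-1, -1, 1, 1, 4, 0⟩,
   ⟨-1, 0, -2, 0, 1, 0⟩,
   ⟨-1, 0, -1, 0, 1, 0⟩,
   ⟨-1, 0, -1, 2, 4, -1⟩,
   ⟨-1, 0, -1, 2, 4, 0⟩,
   ⟨-1, 0, 0, 0, 1, 0⟩,
   ⟨-1, 0, 0, 2, 4, -1⟩,
   ⟨-1, 0, 0, 2, 4, 0⟩,
   ⟨-1, 0, 1, 0, 1, 0⟩,
   ⟨-1, 1, -1, 1, 4, 0⟩,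
   ⟨-1, 1, 0, 1, 4, 0⟩,
   ⟨-1, 1, 1, 1, 4, 0⟩,
   ⟨-1, 2, 0, 2, 2, 1⟩,
   ⟨-1, 2, 0, 2, 4, 0⟩,
   ⟨-1, 2, 1, 2, 2, 1⟩,
   ⟨-1, 2, 1, 2, 4, 0⟩,
   ⟨0, -4, -3, 4, 1, 2⟩,
   ⟨0, -4, -2, 4, 1, 2⟩,
   ⟨0, -4, -1, 4, 1, 2⟩,
   ⟨0, -2, -2, 2, 2, 1⟩,
   ⟨0, -2, -1, 2, 2, 1⟩,
   ⟨0, -2, -1, 2, 4, 0⟩,
   ⟨0, -2, -1, 4, 4, 0⟩,
   ⟨0, -2, 0, 2, 2, 1⟩,
   ⟨0, -2, 0, 2, 4, 0⟩,
   ⟨0, -2, 1, 2, 2, 1⟩,
   ⟨0, -2, 1, 2, 4, 0⟩,
   ⟨0, -1, -1, 1, 4, 0⟩,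
   ⟨0, -1, -1, 3, 4, -1⟩,
   ⟨0, -1, -1, 3, 4, 1⟩,
   ⟨0, -1, 0, 1, 4, 0⟩,
   ⟨0, -1, 0, 3, 4, -1⟩,
   ⟨0, -1, 0, 3, 4, 1⟩,
   ⟨0, -1, 1, 1, 4, 0⟩,
   ⟨0, 0, -2, 0, 1, 0⟩,
   ⟨0, 0, -1, 0, 1, 0⟩,
   ⟨0, 0, -1, 2, 4, -1⟩,
   ⟨0, 0, -1, 2, 4, 0⟩,
   ⟨0, 0, 0, 2, 4, -1⟩,
   ⟨0, 0, 0, 2, 4, 0⟩,
   ⟨0, 0, 0, 4, 2, 2⟩,
   ⟨0, 0, 0, 4, 4, -2⟩,
   ⟨0, 0, 1, 0, 1, 0⟩,
   ⟨0, 0, 1, 2, 4, -1⟩,
   ⟨0, 0, 1, 2, 4, 0⟩,
   ⟨0, 0, 2, 0, 1, 0⟩,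
   ⟨0, 1, -1, 1, 4, 0⟩,
   ⟨0, 1, 0, 1, 4, 0⟩,
   ⟨0, 1, 0, 3, 4, -1⟩,
   ⟨0, 1, 0, 3, 4, 1⟩,
   ⟨0, 1, 1, 1, 4, 0⟩,
   ⟨0, 1, 1, 3, 4, -1⟩,
   ⟨0, 1, 1, 3, 4, 1⟩,
   ⟨0, 2, -1, 2, 2, 1⟩,
   ⟨0, 2, -1, 2, 4, 0⟩,
   ⟨0, 2, 0, 2, 2, 1⟩,
   ⟨0, 2, 0, 2, 4, 0⟩,
   ⟨0, 2, 1, 2, 2, 1⟩,
   ⟨0, 2, 1, 2, 4, 0⟩,
   ⟨0, 2, 1, 4, 4, 0⟩,
   ⟨0, 2, 2, 2, 2, 1⟩,
   ⟨0, 4, 1, 4, 1, 2⟩,
   ⟨0, 4, 2, 4, 1, 2⟩,
   ⟨0, 4, 3, 4, 1, 2⟩,
   ⟨1, -2, -1, 2, 2, 1⟩,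
   ⟨1, -2, -1, 2, 4, 0⟩,
   ⟨1, -2, 0, 2, 2, 1⟩,
   ⟨1, -2, 0, 2, 4, 0⟩,
   ⟨1, -1, -1, 1, 4, 0⟩,
   ⟨1, -1, 0, 1, 4, 0⟩,
   ⟨1, -1, 1, 1, 4, 0⟩,
   ⟨1, 0, -1, 0, 1, 0⟩,
   ⟨1, 0, 0, 0, 1, 0⟩,
   ⟨1, 0, 0, 2, 4, -1⟩,
   ⟨1, 0, 0, 2, 4, 0⟩,
   ⟨1, 0, 1, 0, 1, 0⟩,
   ⟨1, 0, 1, 2, 4, -1⟩,
   ⟨1, 0, 1, 2, 4, 0⟩,
   ⟨1, 0, 2, 0, 1, 0⟩,
   ⟨1, 1, -1, 1, 4, 0⟩,
   ⟨1, 1, 0, 1, 4, 0⟩,
   ⟨1, 1, 1, 1, 4, 0⟩,
   ⟨1, 1, 1, 3, 4, -1⟩,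
   ⟨1, 1, 1, 3, 4, 1⟩,
   ⟨1, 2, 0, 2, 2, 1⟩,
   ⟨1, 2, 0, 2, 4, 0⟩,
   ⟨1, 2, 1, 2, 2, 1⟩,
   ⟨1, 2, 1, 2, 4, 0⟩,
   ⟨1, 2, 2, 2, 2, 1⟩,
   ⟨1, 4, 1, 4, 1, 2⟩,
   ⟨1, 4, 2, 4, 1, 2⟩,
   ⟨1, 4, 3, 4, 1, 2⟩]

def c0 : Tree :=
  .drop 25 (.leaf [1002, 296, -503, 20, -122, 165, 2, 0, 0, 0, 0, 0, 0, 906, 453, 0, 0]) (.drop 9
    (.drop 29 (.drop 25 (.drop 13 (.leaf [1002, -500, 333, 500, -667, 2, 2, 0, 0, 0, 0, 0, 0, 0,
    0, 0, 0]) (.close (.leaf [-918, -920, -920, -920, -920, -918, -918, -920, 920, -920, -979,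
    796, -1000, 920, 920, 920, -920]))) (.close (.leaf [-137, 1000, -139, -139, -139, -137, -137,
    -139, 139, -139, -89, 89, -89, 139, 139, 139, -139]))) (.leaf [1002, -500, -143, 143, -71, 2,
    2, 0, 0, 0, 0, 0, 0, 0, 0, 0, 0])) (.leaf [752, -812, 1000, 125, -312, 252, 2, 0, 0, 0, 0, 0,
    0, 0, 0, 0, 0]))

def c1 : Tree :=
  .drop 16 (.drop 17 (.drop 7 (.drop 16 (.drop 22 (.leaf [10003, 2034, -5020, 140, -841, 1124, 3,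
    0, 0, 0, 0, 0, 0, 6234, 3117, 0, 0]) (.drop 16 (.leaf [2, 333, -667, 333, -1000, 669, 2, 0,
    0, 0, 0, 0, 0, 0, 0, 0, 667]) (.leaf [402, 400, -600, 500, -1000, 602, 2, 0, 0, 0, 0, 0, 0,
    0, 0, 0, -400]))) (.leaf [1002, 203, -502, 66, -265, 270, 2, 0, 0, 0, 0, 0, 0, 623, 312, 0,
    0])) (.leaf [1002, -83, -264, 50, -83, 87, 2, 0, 0, 0, 0, 0, 0, 475, 238, 0, 0])) (.leaf [2,
    727, -3, 105, -425, 432, 2, 0, 0, 0, 0, 0, 0, 1000, 500, 0, 0])) (.leaf [602, 600, -1000,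
    150, -500, 402, 2, 0, 0, 0, 0, 0, 0, 0, 0, 0, 0])

def c2 : Tree :=
  .drop 4 (.leaf [352, 733, -492, 63, -203, 160, 2, 0, 0, 0, 0, 0, 0, 396, 174, 1000, 0]) (.drop
    33 (.drop 28 (.drop 32 (.drop 16 (.drop 28 (.leaf [2, 553, -347, 48, -445, 374, 164, 0, 0, 0,
    0, 0, 0, -774, 1000, 0, 324]) (c0)) (.leaf [802, 400, -1000, 37, -225, 302, 2, 0, 0, 0, 0, 0,
    0, 0, 0, 0, 0])) (c1)) (.leaf [382, 675, -1000, 235, -782, 628, 2, 0, 0, 0, 0, 0, 0, 0, 0,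
    749, 0])) (.leaf [1002, 306, -658, 121, -299, 186, 2, 0, 0, 0, 0, 0, 0, 788, 197, 0, 0]))

def c3 : Tree :=
  .drop 12 (.drop 20 (.leaf [2, 500, 0, 750, -1000, 2, 2, 0, 0, 0, 0, 0, 0, 0, 0, 0, 0]) (.close
    (.split 9 2 (.leaf [166, 1000, 47, -106, -106, -104, -104, 0, 501, 0, 0, 0, 0, 0, 106, 0,
    -106]) (.leaf [906, 164, -1000, 781, -744, 633, -533, 0, 0, 0, 0, 0, 0, 535, 535, 535,
    -535])))) (.close (.split 9 2 (.split 8 2 (.leaf [1390, 10000, -462, -462, -4470, -459, -459,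
    0, 0, 0, 190, 95, -190, 462, 462, 0, -462]) (.split 3 1 (.split 6 1 (.leaf [-998, -1000,
    -1000, -1000, -1000, -998, -998, 0, 0, 0, 0, -198, 0, 0, 1000, 0, -1000]) (.leaf [735, 82,
    -733, 1000, -817, 735, -731, 0, 0, 0, 0, 0, 0, 0, 733, 0, -733])) (.leaf [450, 465, -448,
    654, -1000, 450, -446, 0, 0, 0, 0, 0, 0, 0, 448, 0, -448]))) (.leaf [906, 164, -1000, 781,
    -744, 633, -533, 0, 0, 0, 0, 0, 0, 535, 535, 535, -535])))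

def c4 : Tree :=
  .drop 15 (.leaf [554, 120, 248, -141, 310, -301, 243, 0, 0, 0, 0, 0, 0, 0, 1000, 0, 178])
    (.drop 24 (.leaf [554, 57, 552, -58, 6, 2, 116, 0, 0, 0, 0, 0, 0, 0, 1000, 0, 227]) (.drop 15
    (.leaf [1002, -250, 0, -375, 1000, -998, 627, 0, 0, 0, 0, 0, 0, 0, 0, 0, 250]) (.drop 26
    (.drop 8 (.drop 14 (.leaf [1002, 250, 0, 250, 250, -998, 502, 0, 0, 0, 0, 0, 0, 0, 0, 0, 0])
    (c3)) (.leaf [2, -250, 0, 0, -250, 2, 502, 0, 0, 0, 0, 0, 0, 0, 0, 0, 1000])) (.leaf [2,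
    1000, 0, -500, 1000, 2, 502, 0, 0, 0, 0, 0, 0, 0, 0, 0, 1000]))))

def c5 : Tree :=
  .drop 12 (.drop 21 (.leaf [2, 500, 0, 750, -1000, 2, 2, 0, 0, 0, 0, 0, 0, 0, 0, 0, 0]) (.close
    (.split 9 2 (.leaf [166, 1000, 47, -106, -106, -104, -104, 0, 501, 0, 0, 0, 0, 0, 106, 0,
    -106]) (.leaf [906, 164, -1000, 781, -744, 633, -533, 0, 0, 0, 0, 0, 0, 535, 535, 535,
    -535])))) (.close (.split 9 2 (.split 3 1 (.split 6 1 (.leaf [-998, -1000, -1000, -1000,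
    -1000, -998, -998, 0, 0, 0, 0, -192, 0, 1000, 0, 0, -1000]) (.leaf [735, 82, -733, 1000,
    -817, 735, -731, 0, 0, 0, 0, 0, 0, 0, 733, 0, -733])) (.leaf [697, 465, -695, 654, -1000,
    450, -446, 0, 0, 0, 0, 0, 0, 0, 448, 0, -448])) (.leaf [906, 164, -1000, 781, -744, 633,
    -533, 0, 0, 0, 0, 0, 0, 535, 535, 535, -535])))

def c6 : Tree :=
  .drop 15 (.leaf [4905, 3471, 4902, -227, 9, 3, 902, 0, 0, 0, 0, 0, 0, 10000, 8884, 0, 0])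
    (.drop 25 (.leaf [554, 57, 552, -58, 6, 2, 116, 0, 0, 0, 0, 0, 0, 0, 1000, 0, 227]) (.drop 15
    (.leaf [278, 280, 276, 30, -70, 2, 92, 0, 0, 0, 0, 0, 0, 1000, 500, 0, 0]) (.drop 27 (.drop 8
    (.drop 14 (.leaf [278, 373, 276, 169, -255, 2, 92, 0, 0, 0, 0, 0, 0, 1000, 500, 0, 0]) (c5))
    (.leaf [1002, -917, 1000, 0, 83, 2, 2, 0, 0, 0, 0, 0, 0, 0, 0, 0, 0])) (.leaf [2, 1000, 0,
    -500, 1000, 2, 502, 0, 0, 0, 0, 0, 0, 0, 0, 0, 1000]))))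

def c7 : Tree :=
  .drop 19 (.drop 15 (.leaf [1002, -817, 633, -87, 300, -365, 185, 0, 0, 0, 0, 0, 0, 0, 455, 0,
    367]) (.drop 15 (.leaf [1002, -619, 316, -217, 624, -682, 344, 0, 0, 0, 0, 0, 0, 0, 592, 592,
    684]) (.drop 17 (.leaf [111, -254, 109, 0, -167, 2, 169, 0, 0, 0, 0, 0, 0, 0, 0, 791, 1000])
    (.leaf [2, -444, 444, 500, -1000, 446, 85, 0, 0, 0, 0, 0, 0, 0, 0, 0, 56])))) (.drop 19
    (.drop 15 (.leaf [1002, -619, 316, -217, 624, -682, 344, 0, 0, 0, 0, 0, 0, 0, 592, 592, 684])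
    (.drop 17 (.leaf [111, -254, 109, 0, -167, 2, 169, 0, 0, 0, 0, 0, 0, 0, 0, 791, 1000]) (.leaf
    [752, -1000, 1000, 281, -563, 252, 49, 0, 0, 0, 0, 0, 0, 0, 0, 0, 31]))) (.drop 17 (.leaf
    [241, -297, 395, 74, -406, 158, 181, 0, 0, 0, 0, 0, 0, 866, 433, 0, 1000]) (.leaf [1002,
    -969, 1000, 109, -94, 2, 18, 0, 0, 0, 0, 0, 0, 0, 0, 0, -94])))

def c8 : Tree :=
  .drop 15 (.drop 18 (.leaf [1002, -643, 313, -257, 687, -685, 345, 0, 0, 0, 0, 0, 0, 0, 412,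
    687, 687]) (.drop 18 (.leaf [889, -330, 0, -352, 861, -885, 502, 0, 0, 0, 0, 0, 0, 630, 703,
    703, 1000]) (.drop 16 (.leaf [247, -245, 245, 4, -202, 2, 202, 0, 0, 0, 0, 0, 0, 774, 444, 0,
    1000]) (.leaf [2, -500, 1000, -125, -750, 1002, 627, 0, 0, 0, 0, 0, 0, 0, 0, 0, 750]))))
    (.drop 19 (.drop 15 (.leaf [1002, -622, 310, -220, 633, -688, 347, 0, 0, 0, 0, 0, 0, 0, 592,
    592, 690]) (.drop 17 (.leaf [111, -254, 109, 0, -167, 2, 169, 0, 0, 0, 0, 0, 0, 0, 0, 791,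
    1000]) (.leaf [547, -636, 1000, 102, -432, 457, 36, 0, 0, 0, 0, 0, 0, 0, 0, 0, -68]))) (.drop
    17 (.leaf [111, -254, 109, 0, -167, 2, 169, 0, 0, 0, 0, 0, 0, 0, 0, 791, 1000]) (.leaf [891,
    -1000, 889, 167, -222, 2, 85, 0, 0, 0, 0, 0, 0, 0, 0, 0, 56])))

def c9 : Tree :=
  .drop 29 (.drop 5 (.leaf [304, -64, 302, 0, -211, 2, 213, 0, 0, 0, 0, 0, 0, 0, 0, 1000, 421])
    (.drop 21 (.drop 16 (c7) (.leaf [135, -33, -533, -100, -367, 402, 502, 0, 0, 0, 0, 0, 0, 0,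
    0, 0, 1000])) (.leaf [877, -906, 1000, 125, -219, 127, 2, 0, 0, 0, 0, 0, 0, 0, 0, 0, 0])))
    (.drop 21 (.drop 16 (c8) (.leaf [2, 176, 235, 941, -1000, 237, 2, 0, 0, 0, 0, 0, 0, 0, 0, 0,
    -706])) (.leaf [2, 286, 0, 1000, -857, 2, 145, 0, 0, 0, 0, 0, 0, 0, 0, 0, -857]))

def c10 : Tree :=
  .drop 15 (.drop 19 (.leaf [590, -124, 0, -230, 590, -586, 387, 0, 0, 0, 0, 0, 0, 0, 337, 1000,
    181]) (.drop 28 (.drop 5 (.leaf [490, 28, 488, -1, -361, 2, 411, 0, 0, 0, 0, 0, 0, 1000, 885,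
    0, 637]) (.drop 15 (.leaf [190, 202, -188, 29, -63, 2, 92, 0, 0, 0, 0, 0, 0, 1000, 75, 0,
    180]) (.leaf [2, -429, 381, -119, -333, 383, 502, 0, 0, 0, 0, 0, 0, 0, 0, 0, 1000]))) (.drop
    15 (.leaf [93, 233, -91, 9, -50, 2, 92, 0, 0, 0, 0, 0, 0, 1000, 165, 0, 180]) (.leaf [2,
    -333, 0, -278, 111, 2, 724, 0, 0, 0, 0, 0, 0, 0, 0, 0, 1000])))) (c9)

def c11 : Tree :=
  .drop 24 (.leaf [10003, -8194, 10000, 0, 347, 3, 3, 0, 0, 0, 0, 0, 0, 0, 2967, 0, 0]) (.drop 24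
    (.drop 23 (.drop 20 (.drop 15 (.leaf [914, -241, 0, -369, 918, -910, 623, 0, 0, 0, 0, 0, 0,
    0, 1000, 0, 330]) (c4)) (c6)) (.leaf [916, -602, 1000, 53, -135, 88, 2, 0, 0, 0, 0, 0, 0,
    477, 358, 0, 0])) (.drop 23 (c10) (.leaf [90, 258, -268, 218, -499, 182, 113, 0, 0, 0, 0, 0,
    0, 1000, 0, 0, 223])))

def c12 : Tree :=
  .drop 13 (.drop 12 (.drop 13 (.leaf [520, 246, 1000, -482, 285, 484, 2, 0, 0, 0, 0, 0, 0, 0,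
    939, 0, 0]) (.leaf [2, -250, 667, 375, -1000, 669, 2, 0, 0, 0, 0, 0, 0, 0, 0, 0, 0])) (.drop
    9 (.leaf [95, -239, 228, -135, 3, 137, 2, 0, 0, 0, 0, 0, 0, -67, 135, 135, 1000]) (.close
    (.split 11 2 (.leaf [72, 1000, 70, -70, -70, -68, -68, 0, 658, 0, 0, 0, 0, 0, 0, 0, -158])
    (.leaf [753, 275, -831, 632, -444, 526, -442, 0, 0, 0, 0, 0, 0, 444, 444, 444, -1000])))))
    (.leaf [602, -750, 1000, 225, -600, 402, 2, 0, 0, 0, 0, 0, 0, 0, 0, 0, 0])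

def c13 : Tree :=
  .drop 7 (.drop 14 (c12) (.leaf [502, -687, 1000, -500, 812, 502, 2, 0, 0, 0, 0, 0, 0, 0, 0, 0,
    0])) (.drop 10 (.leaf [1002, -943, 1000, 30, -26, 2, 2, 0, 0, 0, 0, 0, 0, 0, 297, 0, 247])
    (.close (.split 11 2 (.split 8 1 (.leaf [-442, -444, -444, -444, -444, -442, -442, 0, 0, 0,
    0, -101, 0, 444, 444, 444, -1000]) (.leaf [292, 1000, -290, -187, -187, 189, -185, 0, 0, 0,
    0, 0, 0, 0, 187, 0, -421])) (.leaf [311, 1000, -342, -183, -183, 218, -181, 0, 0, 0, 0, 0, 0,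
    183, 183, 183, -412]))))

def c14 : Tree :=
  .drop 16 (.drop 14 (.drop 13 (.leaf [525, 273, 1000, -404, 184, 479, 2, 0, 0, 0, 0, 0, 0, 404,
    948, 0, 0]) (.drop 9 (.leaf [97, -208, 233, -138, 2, 140, 2, 0, 0, 0, 0, 0, 0, 0, 138, 138,
    1000]) (.close (.split 11 2 (.leaf [72, 1000, 70, -70, -70, -68, -68, 0, 658, 0, 0, 0, 0, 0,
    0, 0, -158]) (.leaf [753, 275, -831, 632, -444, 526, -442, 0, 0, 0, 0, 0, 0, 444, 444, 444,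
    -1000]))))) (.leaf [602, -750, 1000, 225, -600, 402, 2, 0, 0, 0, 0, 0, 0, 0, 0, 0, 0]))
    (.leaf [2, 1000, 0, 1000, -1000, 2, 2, 0, 0, 0, 0, 0, 0, 0, 0, 0, 0])

def c15 : Tree :=
  .drop 7 (.drop 15 (c14) (.leaf [502, -687, 1000, 281, -750, 502, 2, 0, 0, 0, 0, 0, 0, 0, 0, 0,
    0])) (.drop 10 (.leaf [773, -842, 1000, 138, -363, 231, 2, 0, 0, 0, 0, 0, 0, 0, 229, 0, 190])
    (.close (.split 11 2 (.split 8 1 (.leaf [-442, -444, -444, -444, -444, -442, -442, 0, 0, 0,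
    0, -101, 0, 444, 444, 444, -1000]) (.leaf [292, 1000, -290, -187, -187, 189, -185, 0, 0, 0,
    0, 0, 0, 0, 187, 0, -421])) (.leaf [311, 1000, -342, -183, -183, 218, -181, 0, 0, 0, 0, 0, 0,
    183, 183, 183, -412]))))

def c16 : Tree :=
  .drop 15 (.drop 12 (.leaf [669, -167, 0, -333, 1000, -665, 2, 0, 0, 0, 0, 0, 0, 0, 0, 0, 0])
    (.drop 10 (.drop 9 (.drop 6 (c13) (.leaf [1002, 49, -907, 14, -71, 240, 2, 0, 0, 0, 0, 0, 0,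
    0, 238, 0, 0])) (.leaf [2, 1000, 0, 1000, -1000, 2, 2, 0, 0, 0, 0, 0, 0, 0, 0, 0, 0])) (.leaf
    [602, -750, 1000, 225, -600, 402, 2, 0, 0, 0, 0, 0, 0, 0, 0, 0, 0]))) (.drop 10 (.drop 9
    (.drop 6 (c15) (.leaf [1002, 49, -907, 14, -71, 240, 2, 0, 0, 0, 0, 0, 0, 0, 238, 0, 0]))
    (.leaf [2, 1000, 0, 1000, -1000, 2, 2, 0, 0, 0, 0, 0, 0, 0, 0, 0, 0])) (.leaf [602, -750,
    1000, 225, -600, 402, 2, 0, 0, 0, 0, 0, 0, 0, 0, 0, 0]))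

def c17 : Tree :=
  .drop 18 (.drop 12 (.drop 13 (.drop 16 (.drop 12 (.leaf [1002, -548, 1000, -3, 7, 2, 2, 0, 0,
    0, 0, 0, 0, 623, 312, 0, 0]) (c16)) (.drop 13 (.leaf [1002, 0, -1000, 0, 0, 2, 2, 0, 0, 0, 0,
    0, 0, 0, 0, 0, 1000]) (.leaf [2, 0, 0, 500, -1000, 2, 752, 0, 0, 0, 0, 0, 0, 0, 0, 0, 500])))
    (.leaf [802, -700, 1000, 75, -250, 202, 2, 0, 0, 0, 0, 0, 0, 0, 0, 0, 0])) (.leaf [522, -580,
    1000, 354, -833, 482, 2, 0, 0, 0, 0, 0, 0, 407, 204, 0, 0])) (.leaf [835, -467, 1000, 62,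
    -208, 169, 2, 0, 0, 0, 0, 0, 0, 593, 297, 0, 0])

def c18 : Tree :=
  .drop 15 (.drop 18 (.leaf [850, -124, 0, -335, 750, -846, 502, 0, 0, 0, 0, 0, 0, 843, 785, 785,
    1000]) (.drop 18 (.leaf [342, 102, 0, -155, 288, -338, 262, 0, 0, 0, 0, 0, 0, 1000, 500, 0,
    520]) (.drop 20 (.leaf [778, -265, 956, 22, -135, 182, 2, 0, 0, 0, 0, 0, 0, 1000, 500, 0, 0])
    (.leaf [2762, 1454, 4557, 1201, -2947, 1802, 3, 0, 0, 0, 0, 0, 0, 10000, 5000, 0, 0]))))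
    (.drop 7 (.drop 14 (.drop 17 (.leaf [812, -175, 0, -405, 878, -808, 407, 0, 0, 0, 0, 0, 0, 0,
    0, 1000, 810]) (.drop 15 (.leaf [2, 0, 0, 0, 0, 2, 2, 0, 0, 0, 0, 0, 0, 0, 0, 0, 1000])
    (.leaf [997, -542, 1000, 10, -3, 7, 45, 0, 0, 0, 0, 0, 0, 507, 254, 0, -128]))) (.drop 11
    (c17) (.leaf [875, -456, 1000, 85, -208, 129, 2, 0, 0, 0, 0, 0, 0, 706, 353, 0, 0]))) (.leaf
    [816, -116, -311, 491, -1000, 527, 2, 0, 0, 0, 0, 0, 0, 0, 525, 0, 0]))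

def c19 : Tree :=
  .drop 9 (.drop 22 (.leaf [943, -691, 1000, 29, -44, 61, 2, 0, 0, 0, 0, 0, 0, 0, 0, 0, -176])
    (.close (.split 7 2 (.leaf [82, 1000, 46, -63, -63, -61, -61, 0, 627, 0, 0, 0, 0, 63, 31, 0,
    -216]) (.leaf [906, 331, -1000, 627, -535, 633, -533, 0, 0, 0, 0, 0, 0, 535, 535, 535,
    -669])))) (.close (.split 7 2 (.split 4 1 (.leaf [-290, -292, -292, -292, -292, -290, -290,
    0, 0, 0, 0, -70, 0, 292, 292, 292, -1000]) (.leaf [1002, 307, -1000, 765, -644, 646, -642, 0,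
    0, 0, 0, 0, 0, 0, 644, 0, -806])) (.leaf [906, 362, -1000, 611, -535, 633, -533, 0, 0, 0, 0,
    0, 0, 535, 535, 535, -669])))

def c20 : Tree :=
  .drop 24 (.drop 9 (.leaf [932, -554, 1000, 33, -53, 72, 2, 0, 0, 0, 0, 0, 0, 318, 159, 0,
    -197]) (.close (.split 7 2 (.split 4 1 (.leaf [-290, -292, -292, -292, -292, -290, -290, 0,
    0, 0, 0, -70, 0, 292, 292, 292, -1000]) (.leaf [1002, 307, -1000, 765, -644, 646, -642, 0, 0,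
    0, 0, 0, 0, 0, 644, 0, -806])) (.leaf [906, 362, -1000, 611, -535, 633, -533, 0, 0, 0, 0, 0,
    0, 535, 535, 535, -669])))) (.close (.split 7 2 (.leaf [82, 1000, 46, -63, -63, -61, -61, 0,
    627, 0, 0, 0, 0, 63, 31, 0, -216]) (.leaf [906, 331, -1000, 627, -535, 633, -533, 0, 0, 0, 0,
    0, 0, 535, 535, 535, -669])))

def c21 : Tree :=
  .drop 12 (.drop 22 (.drop 19 (.drop 14 (.leaf [896, -338, 0, -293, 1000, -892, 469, 0, 0, 0, 0,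
    0, 0, 225, 576, 0, -144]) (.drop 14 (.leaf [1002, -700, 900, -13, 150, -98, 52, 0, 0, 0, 0,
    0, 0, 0, 0, 0, -250]) (c19))) (.drop 14 (.leaf [1002, -443, 1000, 12, 8, 2, 70, 0, 0, 0, 0,
    0, 0, 755, 377, 0, -198]) (c20))) (.leaf [849, -366, 1000, 57, -190, 155, 40, 0, 0, 0, 0, 0,
    0, 851, 425, 0, -77])) (.leaf [843, -351, 1000, 112, -229, 161, 2, 0, 0, 0, 0, 0, 0, 883,
    441, 0, -149])

def c22 : Tree :=
  .drop 30 (c11) (.drop 16 (.drop 15 (.leaf [778, -306, 776, 15, -80, 2, 92, 0, 0, 0, 0, 0, 0,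
    1000, 500, 0, 180]) (.drop 15 (.leaf [778, -306, 776, 15, -80, 2, 92, 0, 0, 0, 0, 0, 0, 1000,
    500, 0, 180]) (.drop 20 (.drop 21 (c18) (.leaf [821, -444, 1000, 68, -226, 183, 2, 0, 0, 0,
    0, 0, 0, 642, 321, 0, 0])) (.leaf [849, -387, 1000, 90, -234, 155, 2, 0, 0, 0, 0, 0, 0, 851,
    425, 0, 0])))) (c21))

def c23 : Tree :=
  .close (.split 6 2 (.split 3 3 (.leaf [189, -374, 202, 234, -105, -185, -185, 0, 0, 0, 0, 0, 0,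
    -1000, 0, 0, -187]) (.split 5 2 (.leaf [1390, 10000, -462, -462, -4470, -459, -459, 0, 0, 0,
    190, 95, -190, 462, 462, 0, -462]) (.split 2 1 (.split 1 1 (.leaf [-998, -1000, -1000, -1000,
    -1000, -998, -998, 0, 0, 0, 0, -198, 0, 0, 1000, 0, -1000]) (.leaf [1002, -365, -571, 780,
    -208, 145, -569, 0, 0, 0, 0, 0, 0, 0, 571, 0, -571])) (.leaf [944, 356, -538, 786, -1000,
    137, -536, 0, 0, 0, 0, 0, 0, 0, 538, 0, -538])))) (.leaf [1002, -456, -556, 864, -273, 150,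
    -590, 0, 0, 0, 0, 0, 0, 0, 592, 592, -592]))

def c24 : Tree :=
  .drop 28 (.drop 8 (.drop 23 (.drop 12 (.leaf [1002, -917, 1000, 125, -167, 2, 2, 0, 0, 0, 0, 0,
    0, 0, 0, 0, 0]) (c23)) (.close (.split 6 2 (.leaf [166, 1000, 47, -106, -106, -104, -104, 0,
    501, 0, 0, 0, 0, 0, 106, 0, -106]) (.leaf [1002, -231, -694, 864, -411, 288, -590, 0, 0, 0,
    0, 0, 0, 592, 592, 592, -592])))) (.leaf [802, -1000, 800, 0, -200, 2, 402, 0, 0, 0, 0, 0, 0,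
    0, 0, 0, 800])) (.leaf [502, -875, 1000, 250, -875, 502, 252, 0, 0, 0, 0, 0, 0, 0, 0, 0, 500])

def c25 : Tree :=
  .drop 7 (.drop 9 (.leaf [350, -542, 978, 379, -1000, 632, 2, 0, 0, 0, 0, 0, 0, 0, 630, 0, 525])
    (.drop 12 (.leaf [558, -639, 1000, 181, -556, 446, 2, 0, 0, 0, 0, 0, 0, 0, 0, 0, -111])
    (.close (.split 8 2 (.leaf [72, 1000, 70, -70, -70, -68, -68, 0, 658, 0, 0, 0, 0, 0, 0, 0,
    -158]) (.leaf [753, 275, -831, 632, -444, 526, -442, 0, 0, 0, 0, 0, 0, 444, 444, 444,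
    -1000]))))) (.drop 10 (.leaf [350, -542, 978, 379, -1000, 632, 2, 0, 0, 0, 0, 0, 0, 0, 630,
    0, 525]) (.close (.split 8 2 (.split 4 1 (.leaf [-442, -444, -444, -444, -444, -442, -442, 0,
    0, 0, 0, -98, 0, 0, 444, 444, -1000]) (.leaf [292, 1000, -290, -187, -187, 189, -185, 0, 0,
    0, 0, 0, 0, 0, 187, 0, -421])) (.leaf [753, 196, -751, 639, -444, 446, -442, 0, 0, 0, 0, 0,
    0, 0, 444, 444, -1000]))))

def c26 : Tree :=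
  .drop 15 (.drop 12 (.leaf [669, -167, 0, -333, 1000, -665, 2, 0, 0, 0, 0, 0, 0, 0, 0, 0, 0])
    (.drop 12 (.leaf [669, -167, 0, -333, 1000, -665, 2, 0, 0, 0, 0, 0, 0, 0, 0, 0, 0]) (.drop 10
    (.drop 9 (.drop 6 (c25) (.leaf [610, -647, 1000, 311, -691, 394, 2, 0, 0, 0, 0, 0, 0, 0, 392,
    0, 0])) (.leaf [602, -750, 1000, 225, -600, 402, 2, 0, 0, 0, 0, 0, 0, 0, 0, 0, 0])) (.leaf
    [502, -688, 1000, 281, -750, 502, 2, 0, 0, 0, 0, 0, 0, 0, 0, 0, 0])))) (.drop 13 (.leaf [669,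
    -833, 1000, 167, -500, 335, 2, 0, 0, 0, 0, 0, 0, 0, 0, 0, 333]) (.leaf [1002, -750, 1000, 0,
    0, 2, 64, 0, 0, 0, 0, 0, 0, 0, 0, 0, -125]))

def c27 : Tree :=
  .drop 16 (.leaf [1002, -687, 875, -63, 188, -123, 65, 0, 0, 0, 0, 0, 0, 0, 0, 0, -125]) (.drop
    19 (.drop 8 (.leaf [558, -639, 1000, 181, -556, 446, 2, 0, 0, 0, 0, 0, 0, 0, 0, 0, -111])
    (.close (.split 4 1 (.leaf [-442, -444, -444, -444, -444, -442, -442, 0, 0, 0, 0, -101, 0,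
    444, 444, 444, -1000]) (.leaf [292, 1000, -150, -187, -187, 49, -185, 0, 0, 0, 0, 0, 0, 0,
    187, 0, -421])))) (.close (.split 8 2 (.leaf [72, 1000, 70, -70, -70, -68, -68, 0, 658, 0, 0,
    0, 0, 0, 0, 0, -158]) (.leaf [753, 120, -521, 709, -444, 217, -442, 0, 0, 0, 0, 0, 0, 444,
    444, 444, -1000]))))

def c28 : Tree :=
  .drop 20 (.drop 8 (.leaf [558, -639, 1000, 181, -556, 446, 2, 0, 0, 0, 0, 0, 0, 0, 0, 0, -111])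
    (.close (.split 8 2 (.split 4 1 (.leaf [-442, -444, -444, -444, -444, -442, -442, 0, 0, 0, 0,
    -101, 0, 444, 444, 444, -1000]) (.leaf [292, 1000, -290, -187, -187, 189, -185, 0, 0, 0, 0,
    0, 0, 0, 187, 0, -421])) (.leaf [753, 301, -831, 619, -444, 526, -442, 0, 0, 0, 0, 0, 0, 444,
    444, 444, -1000])))) (.close (.split 8 2 (.leaf [72, 1000, 70, -70, -70, -68, -68, 0, 658, 0,
    0, 0, 0, 0, 0, 0, -158]) (.leaf [753, 275, -831, 632, -444, 526, -442, 0, 0, 0, 0, 0, 0, 444,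
    444, 444, -1000])))

def c29 : Tree :=
  .drop 18 (.drop 12 (.drop 14 (.drop 13 (c26) (.leaf [802, -700, 1000, 75, -250, 202, 2, 0, 0,
    0, 0, 0, 0, 0, 0, 0, 0])) (.leaf [1002, -750, 1000, -125, 0, 2, 252, 0, 0, 0, 0, 0, 0, 0, 0,
    0, 500])) (.leaf [802, -700, 1000, 75, -250, 202, 2, 0, 0, 0, 0, 0, 0, 0, 0, 0, 0])) (.drop
    12 (.drop 15 (.leaf [802, -800, 1000, 100, -300, 202, 2, 0, 0, 0, 0, 0, 0, 0, 0, 0, 200])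
    (.drop 12 (c27) (c28))) (.leaf [802, -700, 1000, 75, -250, 202, 2, 0, 0, 0, 0, 0, 0, 0, 0, 0,
    0]))

def c30 : Tree :=
  .drop 7 (.drop 21 (.drop 21 (.drop 11 (.drop 12 (c29) (.drop 17 (.leaf [802, -800, 1000, 100,
    -300, 202, 2, 0, 0, 0, 0, 0, 0, 0, 0, 0, 200]) (.leaf [573, -1000, 714, 607, -714, 145, 2, 0,
    0, 0, 0, 0, 0, 0, 0, 0, -143]))) (.leaf [924, -933, 1000, 131, -296, 80, 99, 0, 0, 0, 0, 0,
    0, 0, 311, 0, 193])) (.leaf [770, -537, 1000, 50, -217, 234, 2, 0, 0, 0, 0, 0, 0, 479, 239,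
    0, 0])) (.leaf [802, -700, 1000, 75, -250, 202, 2, 0, 0, 0, 0, 0, 0, 0, 0, 0, 0])) (.leaf
    [1002, -875, 1000, 62, -62, 2, 2, 0, 0, 0, 0, 0, 0, 0, 0, 0, 0])

def c31 : Tree :=
  .drop 31 (.drop 28 (.leaf [554, -154, 974, 94, -515, 424, 119, 0, 0, 0, 0, 0, 0, 0, 1000, 0,
    234]) (.drop 24 (.drop 23 (.drop 23 (.leaf [1002, -608, 1000, 56, -36, 2, 2, 0, 0, 0, 0, 0,
    0, 0, 644, 0, 0]) (c24)) (.leaf [933, -797, 1000, 58, -119, 71, 2, 0, 0, 0, 0, 0, 0, 0, 276,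
    0, 0])) (.leaf [933, -798, 1000, 58, -119, 71, 2, 0, 0, 0, 0, 0, 0, 0, 277, 0, 0]))) (.drop
    22 (c30) (.leaf [802, -700, 1000, 25, -150, 202, 2, 0, 0, 0, 0, 0, 0, 0, 0, 0, 0]))

def c32 : Tree :=
  .drop 5 (.drop 27 (.leaf [82, -220, 658, 289, -1000, 580, 135, 0, 0, 0, 0, 0, 0, 0, 0, 578,
    266]) (.close (.split 8 2 (.leaf [150, 1000, -235, -96, -96, 184, -94, 0, 488, 0, 0, 0, 0, 0,
    96, 0, -215]) (.leaf [508, 287, -506, 528, -444, 446, -442, 0, 0, 0, 0, 0, 0, 0, 0, 444,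
    -1000])))) (.close (.split 5 1 (.leaf [-442, -444, -444, -444, -444, -442, -442, 0, 0, 0, 0,
    -90, 0, 0, -222, 444, -1000]) (.split 5 2 (.leaf [974, -30, -324, -324, -324, -322, -322, 0,
    -1000, 0, 0, -16, 0, 0, 0, 0, -729]) (.leaf [446, 795, -444, 347, -444, 446, -442, 0, 0, 0,
    0, 0, 0, 0, 444, 0, -1000]))))

def c33 : Tree :=
  .drop 5 (.drop 27 (.leaf [82, -220, 658, 289, -1000, 580, 135, 0, 0, 0, 0, 0, 0, 0, 0, 578,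
    266]) (.drop 15 (.leaf [669, -454, 667, -4, -101, 2, 111, 0, 0, 0, 0, 0, 0, 1000, 500, 0,
    775]) (.close (.split 5 1 (.leaf [93, 434, -74, -91, -91, 93, -89, 0, 0, 0, 0, 0, 0, 1000,
    -545, 91, -204]) (.split 8 2 (.leaf [168, 1000, -166, -107, -23, 109, -105, 0, 512, 0, 0, 0,
    0, 0, 107, 0, -240]) (.leaf [753, 296, -751, 621, -444, 446, -442, 0, 0, 0, 0, 0, 0, 444,
    444, 444, -1000])))))) (.drop 16 (.leaf [669, -454, 667, -4, -101, 2, 111, 0, 0, 0, 0, 0, 0,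
    1000, 500, 0, 775]) (.close (.split 5 1 (.leaf [-442, -444, -444, -444, -444, -442, -442, 0,
    0, 0, 0, -90, 0, 444, -444, 444, -1000]) (.split 5 2 (.leaf [326, -30, 324, -324, -324, -322,
    -322, 0, -1000, 0, 0, -16, 0, 0, 0, 0, -729]) (.leaf [446, 795, -444, 347, -444, 446, -442,
    0, 0, 0, 0, 0, 0, 0, 444, 0, -1000])))))

def c34 : Tree :=
  .drop 5 (.drop 28 (.leaf [82, -220, 658, 289, -1000, 580, 135, 0, 0, 0, 0, 0, 0, 0, 0, 578,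
    266]) (.drop 16 (.leaf [1002, -1000, 1000, 0, 0, 2, 2, 0, 0, 0, 0, 0, 0, 0, 0, 0, 500])
    (.close (.split 5 1 (.leaf [93, 434, -254, -91, -91, 273, -89, 0, 0, 0, 0, 0, 0, 1000, -545,
    91, -204]) (.split 8 2 (.leaf [168, 1000, -166, -107, -23, 109, -105, 0, 512, 0, 0, 0, 0, 0,
    107, 0, -240]) (.leaf [753, 296, -751, 621, -444, 446, -442, 0, 0, 0, 0, 0, 0, 444, 444, 444,
    -1000])))))) (.drop 17 (.leaf [1002, -1000, 1000, 0, 0, 2, 2, 0, 0, 0, 0, 0, 0, 0, 0, 0,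
    500]) (.close (.split 5 1 (.leaf [-442, -444, -444, -444, -444, -442, -442, 0, 0, 0, 0, -90,
    0, 444, -444, 444, -1000]) (.split 5 2 (.leaf [974, -30, -324, -324, -324, -322, -322, 0,
    -1000, 0, 0, -16, 0, 0, 0, 0, -729]) (.leaf [446, 795, -444, 347, -444, 446, -442, 0, 0, 0,
    0, 0, 0, 0, 444, 0, -1000])))))

def c35 : Tree :=
  .drop 19 (.drop 15 (.leaf [826, -99, 0, -281, 659, -822, 502, 0, 0, 0, 0, 0, 0, 980, 602, 980,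
    1000]) (.drop 15 (.leaf [526, -104, 0, -226, 520, -522, 264, 0, 0, 0, 0, 0, 0, 0, 0, 1000,
    524]) (.drop 15 (.leaf [526, -104, 0, -226, 520, -522, 264, 0, 0, 0, 0, 0, 0, 0, 0, 1000,
    524]) (.drop 17 (.leaf [1002, -1000, 1000, 0, 0, 2, 2, 0, 0, 0, 0, 0, 0, 0, 0, 0, 500])
    (c32))))) (.drop 15 (.leaf [2685, 2240, -2682, 734, -1647, 3, 1021, 0, 0, 0, 0, 0, 0, 10000,
    0, 0, 2036]) (.drop 15 (.drop 18 (.leaf [526, -104, 0, -226, 520, -522, 264, 0, 0, 0, 0, 0,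
    0, 0, 0, 1000, 524]) (c33)) (c34)))

def c36 : Tree :=
  .drop 27 (.drop 15 (c22) (c31)) (.drop 22 (.drop 23 (.drop 15 (.drop 16 (c35) (.leaf [802,
    -700, 1000, 75, -250, 202, 2, 0, 0, 0, 0, 0, 0, 0, 0, 0, 0])) (.leaf [752, -687, 1000, 94,
    -313, 252, 2, 0, 0, 0, 0, 0, 0, 0, 0, 0, 0])) (.leaf [752, -687, 1000, 94, -313, 252, 2, 0,
    0, 0, 0, 0, 0, 0, 0, 0, 0])) (.leaf [833, -264, 545, 169, -418, 252, 12, 0, 0, 0, 0, 0, 0,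
    1000, 0, 0, 19]))

def c37 : Tree :=
  .drop 12 (.drop 22 (.leaf [1002, -550, 400, 75, -100, 2, 2, 0, 0, 0, 0, 0, 0, 0, 0, 0, 0])
    (.drop 22 (.leaf [1002, -850, 1000, 75, -100, 2, 2, 0, 0, 0, 0, 0, 0, 0, 0, 0, 0]) (.drop 15
    (.leaf [716, 107, -1000, 36, -286, 431, 2, 0, 0, 0, 0, 0, 0, 0, 0, 0, 429]) (.leaf [1002,
    -250, -400, 30, 50, 42, 2, 0, 0, 0, 0, 0, 0, 0, 0, 0, -120])))) (.drop 23 (.drop 12 (.leaf
    [1002, -850, 1000, 75, -100, 2, 2, 0, 0, 0, 0, 0, 0, 0, 0, 0, 0]) (.drop 16 (.leaf [716, 107,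
    -1000, 36, -286, 431, 2, 0, 0, 0, 0, 0, 0, 0, 0, 0, 429]) (.leaf [1002, 0, -750, 62, 125, 2,
    2, 0, 0, 0, 0, 0, 0, 0, 0, 0, -250]))) (.drop 16 (.leaf [627, -844, 1000, 31, -250, 377, 2,
    0, 0, 0, 0, 0, 0, 0, 0, 0, 375]) (.leaf [1002, 0, -750, 62, 125, 2, 2, 0, 0, 0, 0, 0, 0, 0,
    0, 0, -250])))

def c38 : Tree :=
  .close (.split 8 2 (.split 7 2 (.leaf [946, 1000, -616, -164, -164, -162, -162, 0, 0, 0, 15, 4,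
    -15, 164, 41, 0, -369]) (.split 5 1 (.leaf [-106, -108, -108, -108, -108, -106, -106, 0, 0,
    0, 0, -11, 0, 108, -1000, 108, -243]) (.split 5 2 (.leaf [-126, -128, -128, -128, -128, -126,
    -126, 0, -370, 0, 0, -6, 0, 128, -1000, 128, -289]) (.split 5 3 (.leaf [216, 1185, -71, -71,
    -71, -68, -68, 0, -218, 0, 0, -3, 0, 0, -2500, 10000, -160]) (.leaf [446, 613, -444, 348,
    -265, 446, -442, 0, 0, 0, 0, 0, 0, 0, 444, 0, -1000]))))) (.leaf [569, 538, -647, 451, -444,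
    526, -442, 0, 0, 0, 0, 0, 0, 444, 111, 444, -1000]))

def c39 : Tree :=
  .drop 8 (.drop 28 (c37) (.drop 16 (.leaf [780, -806, 1000, 69, -250, 224, 2, 0, 0, 0, 0, 0, 0,
    0, 0, 0, 222]) (.close (.split 5 1 (.leaf [166, 769, 220, -164, -164, -162, -162, 0, 0, 0, 0,
    0, 0, 164, -1000, 164, -368]) (.split 8 2 (.leaf [115, 1000, 33, -73, -73, -71, -71, 0, 612,
    0, 0, 0, 0, 0, 73, 0, -163]) (.leaf [569, 756, -647, 342, -444, 526, -442, 0, 0, 0, 0, 0, 0,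
    444, 111, 444, -1000])))))) (.drop 17 (.leaf [780, -806, 1000, 69, -250, 224, 2, 0, 0, 0, 0,
    0, 0, 0, 0, 0, 222]) (c38))

def c40 : Tree :=
  .drop 32 (c36) (.drop 17 (.drop 15 (.drop 15 (.leaf [1002, 177, -466, 48, -121, 2, 90, 0, 0, 0,
    0, 0, 0, 980, 245, 0, 176]) (.drop 15 (.leaf [1002, 28, -288, 53, -117, 2, 72, 0, 0, 0, 0, 0,
    0, 778, 195, 0, 140]) (.drop 15 (.leaf [10003, 280, -2878, 532, -1170, 3, 703, 0, 0, 0, 0, 0,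
    0, 7784, 1946, 0, 1400]) (c39)))) (.leaf [1002, -464, 286, 107, -250, 145, 2, 0, 0, 0, 0, 0,
    0, 0, 0, 0, 0])) (.leaf [859, -768, 1000, 98, -232, 145, 2, 0, 0, 0, 0, 0, 0, 0, 0, 0, -36]))

def c41 : Tree :=
  .drop 27 (.drop 9 (.drop 15 (.leaf [1002, -100, -200, 100, 100, -398, 202, 0, 0, 0, 0, 0, 0, 0,
    0, 0, 0]) (.drop 13 (.drop 21 (.leaf [1002, -750, 667, 125, -167, 2, 2, 0, 0, 0, 0, 0, 0, 0,
    0, 0, 0]) (.close (.leaf [-124, -126, -126, -126, -126, -124, -124, -126, 63, 0, -1000, 475,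
    -4, 126, 126, 126, -126]))) (.close (.leaf [-938, -940, -940, -940, -940, -938, -938, -940,
    940, -940, -1000, 668, -732, 940, 940, 940, -940])))) (.leaf [1002, -250, -333, 0, 83, 2, 2,
    0, 0, 0, 0, 0, 0, 0, 0, 0, 0])) (.leaf [1002, -917, 1000, 0, 83, 2, 2, 0, 0, 0, 0, 0, 0, 0,
    0, 0, 0])

def c42 : Tree :=
  .drop 28 (.drop 9 (.drop 15 (.leaf [1000010, 480157, -884141, 140241, -211564, 10, 74598, 0, 0,
    0, 0, 0, 0, 829423, 414711, 0, 0]) (.drop 23 (.drop 13 (.leaf [2, 500, 0, 750, -1000, 2, 2,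
    0, 0, 0, 0, 0, 0, 0, 0, 0, 0]) (.close (.leaf [-998, -1000, -1000, -1000, -1000, -998, -998,
    -1000, 0, 0, -395, 0, 0, 1000, 1000, 1000, -1000]))) (.close (.leaf [-124, -126, -126, -126,
    -126, -124, -124, -126, 63, 0, -1000, 473, 0, 126, 126, 126, -126])))) (.leaf [1002, -917,
    1000, 0, 83, 2, 2, 0, 0, 0, 0, 0, 0, 0, 0, 0, 0])) (.leaf [2, 0, 0, -250, 0, 2, 502, 0, 0, 0,
    0, 0, 0, 0, 0, 0, 1000])

def c43 : Tree :=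
  .drop 21 (.drop 16 (.leaf [1002, -721, 874, -58, 129, -124, 102, 0, 0, 0, 0, 0, 0, 0, 415, 0,
    74]) (.drop 25 (.leaf [554, 93, 480, -58, 6, 2, 116, 0, 0, 0, 0, 0, 0, 0, 1000, 0, 227])
    (.drop 16 (.leaf [1002, -625, 500, -188, 500, -498, 315, 0, 0, 0, 0, 0, 0, 0, 0, 0, 125])
    (c41)))) (.drop 26 (.leaf [554, 93, 480, -58, 6, 2, 116, 0, 0, 0, 0, 0, 0, 0, 1000, 0, 227])
    (.drop 16 (.drop 20 (.leaf [1002, -250, 0, -375, 1000, -998, 627, 0, 0, 0, 0, 0, 0, 0, 0, 0,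
    250]) (.drop 16 (.leaf [996, -546, 994, 48, -124, 2, 92, 0, 0, 0, 0, 0, 0, 1000, 500, 0,
    180]) (.leaf [1002, -750, 1000, 0, 0, 2, 64, 0, 0, 0, 0, 0, 0, 0, 0, 0, -125]))) (c42)))

def c44 : Tree :=
  .drop 6 (.drop 28 (.leaf [490, 56, 432, -1, -361, 2, 411, 0, 0, 0, 0, 0, 0, 1000, 885, 0, 637])
    (.drop 20 (.drop 15 (.leaf [127, 136, -112, 98, -178, 2, 92, 0, 0, 0, 0, 0, 0, 1000, 139, 0,
    180]) (.leaf [2, -333, 0, -278, 111, 2, 724, 0, 0, 0, 0, 0, 0, 0, 0, 0, 1000])) (.leaf [721,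
    -210, 183, 90, -93, 2, 92, 0, 0, 0, 0, 0, 0, 1000, 0, 0, 0]))) (.drop 21 (.drop 16 (.leaf
    [1002, -511, 464, 94, -100, 2, 92, 0, 0, 0, 0, 0, 0, 1000, 0, 0, 180]) (.leaf [2, 176, 235,
    941, -1000, 237, 2, 0, 0, 0, 0, 0, 0, 0, 0, 0, -706])) (.leaf [918, -456, 559, 180, -314,
    182, 2, 0, 0, 0, 0, 0, 0, 1000, 0, 0, 0]))

def c45 : Tree :=
  .drop 16 (.leaf [872, -144, 19, -334, 751, -849, 502, 0, 0, 0, 0, 0, 0, 830, 789, 789, 1000])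
    (.drop 16 (.leaf [1002, -572, 441, -170, 452, -557, 297, 0, 0, 0, 0, 0, 0, 0, 592, 592, 590])
    (.drop 6 (.drop 26 (.leaf [183, 96, 195, 12, -280, 16, 257, 0, 0, 0, 0, 0, 0, 78, 78, 1000,
    510]) (.drop 17 (.leaf [111, -254, 109, 0, -167, 2, 169, 0, 0, 0, 0, 0, 0, 0, 0, 791, 1000])
    (.leaf [1002, -167, -333, 167, -472, 446, 2, 0, 0, 0, 0, 0, 0, 0, 0, 0, -167]))) (.drop 18
    (.leaf [111, -254, 109, 0, -167, 2, 169, 0, 0, 0, 0, 0, 0, 0, 0, 791, 1000]) (.leaf [1002,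
    -167, -333, 167, -472, 446, 2, 0, 0, 0, 0, 0, 0, 0, 0, 0, -167]))))

def c46 : Tree :=
  .drop 20 (.drop 16 (.leaf [872, -144, 19, -334, 751, -849, 502, 0, 0, 0, 0, 0, 0, 830, 789,
    789, 1000]) (.drop 6 (.drop 26 (.leaf [304, -64, 302, 0, -211, 2, 213, 0, 0, 0, 0, 0, 0, 0,
    0, 1000, 421]) (.drop 17 (.leaf [241, -384, 239, 0, -167, 2, 169, 0, 0, 0, 0, 0, 0, 0, 0,
    791, 1000]) (.leaf [2, 500, -1000, -125, -750, 1002, 627, 0, 0, 0, 0, 0, 0, 0, 0, 0, 750])))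
    (.drop 18 (.leaf [111, -254, 109, 0, -167, 2, 169, 0, 0, 0, 0, 0, 0, 0, 0, 791, 1000]) (.leaf
    [1002, -167, -333, 42, -56, 113, 2, 0, 0, 0, 0, 0, 0, 0, 0, 0, -167])))) (.drop 6 (.drop 27
    (.leaf [524, -157, 702, 85, -643, 182, 386, 0, 0, 0, 0, 0, 0, 1000, 500, 0, 768]) (.drop 17
    (.leaf [278, -216, 456, 86, -406, 182, 146, 0, 0, 0, 0, 0, 0, 1000, 500, 0, 901]) (.leaf
    [1002, -563, 250, 94, -63, 2, 2, 0, 0, 0, 0, 0, 0, 0, 0, 0, -125]))) (.drop 18 (.leaf [278,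
    -217, 456, 86, -406, 182, 146, 0, 0, 0, 0, 0, 0, 1000, 500, 0, 903]) (.leaf [2, -118, 941,
    353, -1000, 943, 2, 0, 0, 0, 0, 0, 0, 0, 0, 0, -353])))

def c47 : Tree :=
  .drop 24 (.drop 16 (.drop 20 (.leaf [629, -163, 39, -230, 590, -586, 387, 0, 0, 0, 0, 0, 0, 0,
    337, 1000, 181]) (c44)) (.drop 22 (.drop 17 (.drop 20 (c45) (c46)) (.leaf [2, -294, 471, -29,
    -647, 473, 502, 0, 0, 0, 0, 0, 0, 0, 0, 0, 1000])) (.leaf [2, 0, 0, 0, -500, 2, 1002, 0, 0,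
    0, 0, 0, 0, 0, 0, 0, 1000]))) (.leaf [94, 311, -264, 92, -345, 182, 133, 0, 0, 0, 0, 0, 0,
    1000, 0, 0, 263])

def c48 : Tree :=
  .drop 10 (.leaf [578, -739, 1000, 210, -633, 426, 2, 0, 0, 0, 0, 0, 0, 359, 180, 0, 424])
    (.drop 17 (.leaf [1002, -750, 1000, 0, 50, 2, 2, 0, 0, 0, 0, 0, 0, 0, 0, 0, -200]) (.drop 15
    (.drop 12 (.drop 9 (.leaf [1002, -500, 0, 250, 500, -998, 502, 0, 0, 0, 0, 0, 0, 0, 0, 0, 0])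
    (.close (.leaf [-860, -862, -862, -862, -862, -860, -860, -862, 862, -862, -1000, 326, -14,
    862, 862, 862, -862]))) (.close (.leaf [-860, -862, -862, -862, -862, -860, -860, -862, 431,
    0, -1000, 319, 0, 862, 862, 862, -862]))) (.leaf [727, -751, 1000, 209, -469, 277, 2, 0, 0,
    0, 0, 0, 0, 233, 117, 0, -58])))

def c49 : Tree :=
  .drop 9 (.drop 7 (c48) (.leaf [1002, -742, 1000, 190, -170, 2, 2, 0, 0, 0, 0, 0, 0, 0, 644, 0,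
    0])) (.drop 12 (.leaf [913, 122, -1000, 195, -726, 672, 2, 0, 0, 0, 0, 0, 0, 568, 284, 0,
    670]) (.drop 17 (.drop 14 (.drop 11 (.leaf [573, -29, -457, -457, 1000, -112, 59, 0, 0, 0, 0,
    0, 0, 0, 0, 0, 0]) (.close (.leaf [-4441, -4444, -4444, -4444, -4444, -4441, -4441, -4444,
    2222, -4444, -1898, 35, -70, 4444, 4444, 4444, -10000]))) (.close (.leaf [-442, -444, -444,
    -444, -444, -442, -442, -444, 0, 0, -190, 0, 0, 444, 444, 444, -1000]))) (.leaf [535, -600,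
    667, -533, 1000, 135, 102, 0, 0, 0, 0, 0, 0, 0, 0, 0, 67])))

def c50 : Tree :=
  .drop 15 (.leaf [1002, 555, -981, 0, 4, 2, 2, 0, 0, 0, 0, 0, 0, 784, 392, 0, 0]) (.drop 12
    (.drop 14 (.leaf [994, -432, 1000, 0, -4, 10, 2, 0, 0, 0, 0, 0, 0, 777, 389, 0, 0]) (.drop 11
    (.drop 10 (.drop 11 (c49) (.leaf [594, -513, 1000, 299, -703, 410, 2, 0, 0, 0, 0, 0, 0, 346,
    447, 0, 0])) (.leaf [1002, -917, 1000, 83, -83, 2, 2, 0, 0, 0, 0, 0, 0, 0, 0, 0, 0])) (.leaf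
    [1002, -917, 1000, 83, -83, 2, 2, 0, 0, 0, 0, 0, 0, 0, 0, 0, 0]))) (.leaf [907, -592, 1000,
    64, -156, 97, 2, 0, 0, 0, 0, 0, 0, 530, 265, 0, 0]))

def c51 : Tree :=
  .drop 23 (.drop 13 (.leaf [1002, -500, 333, 250, -333, 2, 2, 0, 0, 0, 0, 0, 0, 0, 0, 0, 0])
    (.drop 19 (.drop 20 (.drop 18 (.leaf [867, -574, 12, -239, 770, -851, 502, 0, 0, 0, 0, 0, 0,
    818, 409, 699, 1000]) (.drop 16 (.leaf [2, -500, 1000, 250, -1000, 1002, 2, 0, 0, 0, 0, 0, 0,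
    0, 0, 0, 500]) (.leaf [891, -1000, 889, 222, 0, 2, 2, 0, 0, 0, 0, 0, 0, 0, 0, 0, -222])))
    (.leaf [530, 645, -1000, 157, -557, 490, 2, 0, 0, 0, 0, 0, 0, 680, 340, 0, 0])) (.leaf [1002,
    0, -833, 0, 0, 169, 2, 0, 0, 0, 0, 0, 0, 0, 0, 0, 0]))) (.drop 19 (.drop 20 (.drop 18 (.leaf
    [864, -561, 13, -237, 762, -848, 502, 0, 0, 0, 0, 0, 0, 836, 418, 698, 1000]) (.drop 16
    (.leaf [2, -500, 500, 0, -500, 502, 252, 0, 0, 0, 0, 0, 0, 0, 0, 0, 1000]) (.leaf [891,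
    -1000, 889, 222, 0, 2, 2, 0, 0, 0, 0, 0, 0, 0, 0, 0, -222]))) (.leaf [532, 645, -1000, 157,
    -558, 488, 2, 0, 0, 0, 0, 0, 0, 684, 342, 0, 0])) (.leaf [802, -800, 1000, 0, 0, 202, 2, 0,
    0, 0, 0, 0, 0, 0, 0, 0, 0]))

def c52 : Tree :=
  .drop 16 (.drop 20 (.drop 21 (.drop 19 (.leaf [860, -135, 19, -318, 720, -837, 502, 0, 0, 0, 0,
    0, 0, 897, 783, 783, 1000]) (.drop 19 (.leaf [377, -70, 4, -130, 328, -369, 188, 0, 0, 0, 0,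
    0, 0, 0, 0, 1000, 371]) (.drop 17 (.leaf [278, -34, 744, 230, -695, 470, 2, 0, 0, 0, 0, 0, 0,
    1000, 500, 0, 250]) (.leaf [1002, -375, -125, 250, -188, 2, 2, 0, 0, 0, 0, 0, 0, 0, 0, 0,
    -250])))) (.leaf [544, 649, -1000, 161, -559, 477, 2, 0, 0, 0, 0, 0, 0, 698, 349, 0, 0]))
    (.leaf [802, -800, 1000, 200, -400, 202, 2, 0, 0, 0, 0, 0, 0, 0, 0, 0, 0])) (.drop 16 (.drop
    28 (.drop 9 (c51) (.leaf [1002, 167, -1000, -83, 167, 2, 85, 0, 0, 0, 0, 0, 0, 0, 0, 0,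
    167])) (.leaf [2, 0, 0, -250, 0, 2, 502, 0, 0, 0, 0, 0, 0, 0, 0, 0, 1000])) (.drop 18 (.leaf
    [2, -429, 571, 286, -1000, 573, 145, 0, 0, 0, 0, 0, 0, 0, 0, 0, 857]) (.leaf [669, 333, -667,
    500, -1000, 2, 835, 0, 0, 0, 0, 0, 0, 0, 0, 0, 333])))

def c53 : Tree :=
  .drop 24 (.drop 16 (.leaf [748, 249, -222, -45, 1, 2, 92, 0, 0, 0, 0, 0, 0, 1000, 500, 0, 180])
    (.drop 8 (.drop 16 (.drop 15 (.leaf [1002, 555, -981, 0, 4, 2, 2, 0, 0, 0, 0, 0, 0, 784, 392,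
    0, 0]) (c50)) (.leaf [2, 500, 0, -500, 500, 2, 502, 0, 0, 0, 0, 0, 0, 0, 0, 0, 1000])) (.leaf
    [1002, -833, 1000, 83, -83, 2, 2, 0, 0, 0, 0, 0, 0, 0, 0, 0, 0]))) (.drop 16 (.leaf [996,
    186, -471, 48, -124, 2, 92, 0, 0, 0, 0, 0, 0, 1000, 500, 0, 180]) (c52))

def c54 : Tree :=
  .drop 20 (.drop 15 (.leaf [930, -269, 12, -302, 1000, -915, 514, 0, 0, 0, 0, 0, 0, 598, 598, 0,
    -150]) (.drop 15 (.leaf [1002, -700, 900, -13, 150, -98, 52, 0, 0, 0, 0, 0, 0, 0, 0, 0,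
    -250]) (.drop 10 (.drop 23 (.leaf [943, -691, 1000, 29, -44, 61, 2, 0, 0, 0, 0, 0, 0, 0, 0,
    0, -176]) (.close (.leaf [-860, -862, -862, -862, -862, -860, -860, -862, 862, -862, -1000,
    327, -16, 862, 862, 862, -862]))) (.close (.leaf [-74, -76, -76, -76, -76, -74, -74, -76, 38,
    -76, -2, 8, -16, 76, 76, 76, 1000]))))) (.drop 15 (.leaf [1002, -443, 1000, 12, 8, 2, 70, 0,
    0, 0, 0, 0, 0, 755, 377, 0, -198]) (.drop 25 (.drop 10 (.leaf [948, -657, 1000, 26, -40, 56,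
    2, 0, 0, 0, 0, 0, 0, 244, 122, 0, -152]) (.close (.leaf [-290, -292, -292, -292, -292, -290,
    -290, -292, 0, 0, -133, 0, 0, 292, 292, 292, -1000]))) (.close (.leaf [-860, -862, -862,
    -862, -862, -860, -860, -862, 431, 0, -1000, 319, 0, 862, 862, 862, -862]))))

def c55 : Tree :=
  .drop 31 (.drop 25 (.leaf [10003, 382, -5763, 0, 480, 3, 3, 0, 0, 0, 0, 0, 0, 0, 4107, 0, 0])
    (.drop 25 (.drop 24 (.drop 16 (.leaf [490184, 347054, 490174, -22701, 876, 10, 89938, 0, 0,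
    0, 0, 0, 0, 1000000, 888440, 0, 0]) (c43)) (.leaf [1002, 283, -575, 51, -169, 138, 2, 0, 0,
    0, 0, 0, 0, 755, 378, 0, 0])) (c47))) (.drop 17 (.drop 16 (.leaf [778, 208, -252, 15, -80, 2,
    92, 0, 0, 0, 0, 0, 0, 1000, 500, 0, 180]) (c53)) (.drop 13 (.drop 23 (c54) (.leaf [997, 374,
    -432, 67, -224, 182, 47, 0, 0, 0, 0, 0, 0, 1000, 500, 0, -90])) (.leaf [890, -542, 1000, 64,
    -162, 114, 17, 0, 0, 0, 0, 0, 0, 624, 312, 0, -75])))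

def c56 : Tree :=
  .drop 24 (.leaf [1002, -608, 1000, 0, 75, 2, 2, 0, 0, 0, 0, 0, 0, 0, 644, 0, 0]) (.drop 29
    (.drop 9 (.drop 24 (.drop 13 (.leaf [1002, -733, 1000, 297, -393, 2, 2, 0, 0, 0, 0, 0, 0, 0,
    644, 0, 0]) (.close (.leaf [-938, -940, -940, -940, -940, -938, -938, -940, 940, -940, -1000,
    668, -732, 940, 940, 940, -940]))) (.close (.leaf [-124, -126, -126, -126, -126, -124, -124,
    -126, 63, 0, -1000, 475, -2, 126, 126, 126, -126]))) (.leaf [752, -688, 1000, 0, -187, 252,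
    64, 0, 0, 0, 0, 0, 0, 0, 0, 0, 125])) (.leaf [859, -857, 1000, 71, -143, 145, 2, 0, 0, 0, 0,
    0, 0, 0, 0, 0, 0]))

def c57 : Tree :=
  .drop 17 (.drop 14 (.drop 14 (.drop 13 (.leaf [548, 1000, -232, -540, 526, 263, 2, 0, 0, 0, 0,
    0, 0, 540, 990, 0, 0]) (.drop 9 (.leaf [97, 23, -228, -138, 2, 140, 2, 0, 0, 0, 0, 0, 0, 0,
    138, 138, 1000]) (.close (.leaf [-860, -862, -862, -862, -862, -860, -860, -862, 431, 0,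
    -1000, 319, 0, 862, 862, 862, -862])))) (.leaf [502, -500, 1000, -62, -500, 502, 315, 0, 0,
    0, 0, 0, 0, 0, 0, 0, 625])) (.leaf [502, -500, 1000, 500, -1000, 502, 2, 0, 0, 0, 0, 0, 0, 0,
    0, 0, 0])) (.leaf [502, -500, 1000, 500, -1000, 502, 2, 0, 0, 0, 0, 0, 0, 0, 0, 0, 0])

def c58 : Tree :=
  .drop 11 (.drop 10 (.drop 7 (.drop 8 (c57) (.drop 10 (.leaf [554, -198, 230, 226, -461, 252, 2,
    0, 0, 0, 0, 0, 0, 0, 1000, 0, 832]) (.close (.leaf [-442, -444, -444, -444, -444, -442, -442,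
    -444, 0, 0, -190, 0, 0, 444, 444, 444, -1000])))) (.leaf [315, 218, -295, 450, -1000, 569, 2,
    0, 0, 0, 0, 0, 0, 0, 567, 0, 0])) (.leaf [891, 111, -889, 333, -1000, 891, 2, 0, 0, 0, 0, 0,
    0, 0, 0, 0, 0])) (.leaf [502, -688, 1000, 281, -750, 502, 2, 0, 0, 0, 0, 0, 0, 0, 0, 0, 0])

def c59 : Tree :=
  .drop 17 (.drop 14 (.drop 14 (.drop 13 (.leaf [525, 1000, -493, -487, 288, 489, 2, 0, 0, 0, 0,
    0, 0, 0, 949, 0, 0]) (.drop 9 (.leaf [97, 23, -228, -138, 2, 140, 2, 0, 0, 0, 0, 0, 0, 0,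
    138, 138, 1000]) (.close (.leaf [-862, -864, -864, -864, -864, -862, -862, -864, 432, 0,
    -1000, 324, 0, 0, 864, 864, -864])))) (.leaf [2, 111, 0, 167, -1000, 891, 169, 0, 0, 0, 0, 0,
    0, 0, 0, 0, 333])) (.leaf [2, -143, 571, 429, -1000, 573, 2, 0, 0, 0, 0, 0, 0, 0, 0, 0, 0]))
    (.leaf [2, 83, 0, 375, -1000, 669, 2, 0, 0, 0, 0, 0, 0, 0, 0, 0, 0])

def c60 : Tree :=
  .drop 11 (.drop 10 (.drop 7 (.drop 8 (c59) (.drop 10 (.leaf [350, 112, -328, 379, -1000, 632,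
    2, 0, 0, 0, 0, 0, 0, 0, 630, 0, 525]) (.close (.leaf [-442, -444, -444, -444, -444, -442,
    -442, -444, 0, 0, -190, 0, 0, 444, 444, 444, -1000])))) (.leaf [1002, 248, -980, 409, -930,
    646, 2, 0, 0, 0, 0, 0, 0, 0, 644, 0, 0])) (.leaf [1002, 83, -1000, 167, -583, 669, 2, 0, 0,
    0, 0, 0, 0, 0, 0, 0, 0])) (.leaf [602, -750, 1000, 225, -600, 402, 2, 0, 0, 0, 0, 0, 0, 0, 0,
    0, 0])

def c61 : Tree :=
  .drop 13 (.drop 15 (.leaf [671, -49, 2, -333, 1000, -665, 2, 0, 0, 0, 0, 0, 0, 0, 0, 588, 0])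
    (c60)) (.drop 14 (.leaf [773, -842, 1000, 138, -363, 231, 2, 0, 0, 0, 0, 0, 0, 0, 229, 0,
    190]) (.drop 9 (.drop 17 (.leaf [943, 294, -941, 294, -1000, 943, 2, 0, 0, 0, 0, 0, 0, 0, 0,
    0, -235]) (.close (.leaf [-860, -862, -862, -862, -862, -860, -860, -862, 862, -862, -1000,
    326, -14, 862, 862, 862, -862]))) (.close (.leaf [-4441, -4444, -4444, -4444, -4444, -4441,
    -4441, -4444, 2222, -4444, -1898, 35, -70, 4444, 4444, 4444, -10000]))))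

def c62 : Tree :=
  .drop 14 (.drop 17 (.drop 13 (.drop 15 (.leaf [669, -167, 0, -333, 1000, -665, 2, 0, 0, 0, 0,
    0, 0, 0, 0, 0, 0]) (.drop 15 (.leaf [674, 231, 11, -335, 1000, -659, 2, 0, 0, 0, 0, 0, 0,
    795, 398, 398, 0]) (c58))) (c61)) (.drop 14 (.leaf [1002, -1000, 1000, 0, 0, 2, 2, 0, 0, 0,
    0, 0, 0, 0, 0, 0, 1000]) (.leaf [1002, -833, 1000, 42, 0, 2, 2, 0, 0, 0, 0, 0, 0, 0, 0, 0,
    -167]))) (.leaf [802, -700, 1000, 75, -250, 202, 2, 0, 0, 0, 0, 0, 0, 0, 0, 0, 0])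

def c63 : Tree :=
  .drop 22 (.drop 12 (.drop 13 (.drop 13 (.drop 14 (c62) (.leaf [802, -700, 1000, 75, -250, 202,
    2, 0, 0, 0, 0, 0, 0, 0, 0, 0, 0])) (.leaf [802, -700, 1000, 75, -250, 202, 2, 0, 0, 0, 0, 0,
    0, 0, 0, 0, 0])) (.drop 18 (.leaf [1002, -333, 0, 167, -500, 335, 2, 0, 0, 0, 0, 0, 0, 0, 0,
    0, 333]) (.leaf [1002, -250, 0, 0, 0, 2, 64, 0, 0, 0, 0, 0, 0, 0, 0, 0, -125]))) (.leaf [924,
    -933, 1000, 131, -296, 80, 99, 0, 0, 0, 0, 0, 0, 0, 311, 0, 193])) (.leaf [727, -450, 1000,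
    103, -343, 277, 2, 0, 0, 0, 0, 0, 0, 568, 284, 0, 0])

def c64 : Tree :=
  .drop 32 (.drop 29 (.leaf [1002, 197, -606, 61, -333, 275, 78, 0, 0, 0, 0, 0, 0, 0, 646, 0,
    151]) (.drop 25 (.drop 24 (c56) (.leaf [1002, 118, -576, 114, -233, 138, 2, 0, 0, 0, 0, 0, 0,
    0, 543, 0, 0])) (.leaf [1002, 120, -577, 115, -234, 137, 2, 0, 0, 0, 0, 0, 0, 0, 546, 0,
    0]))) (.drop 23 (.drop 8 (.drop 22 (c63) (.leaf [802, -700, 1000, 75, -250, 202, 2, 0, 0, 0,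
    0, 0, 0, 0, 0, 0, 0])) (.leaf [1002, -875, 1000, 62, -62, 2, 2, 0, 0, 0, 0, 0, 0, 0, 0, 0,
    0])) (.leaf [802, -700, 1000, 25, -150, 202, 2, 0, 0, 0, 0, 0, 0, 0, 0, 0, 0]))

def c65 : Tree :=
  .drop 16 (.leaf [529, -107, 4, -225, 518, -521, 264, 0, 0, 0, 0, 0, 0, 0, 0, 1000, 523]) (.drop
    16 (.leaf [529, -107, 4, -225, 518, -521, 264, 0, 0, 0, 0, 0, 0, 0, 0, 1000, 523]) (.drop 18
    (.leaf [2, 0, 0, 0, 0, 2, 2, 0, 0, 0, 0, 0, 0, 0, 0, 0, 1000]) (.drop 6 (.drop 28 (.leaf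
    [140, -63, 504, 183, -779, 368, 232, 0, 0, 0, 0, 0, 0, 0, 0, 1000, 461]) (.close (.leaf
    [-543, -545, -545, -545, -545, -543, -543, -545, 272, 0, -1000, 393, -16, 545, 545, 545,
    -545]))) (.close (.leaf [-41, -43, -43, -43, -43, -41, -41, -43, 194, -1000, -1, 0, 0, 43,
    43, 43, -43])))))

def c66 : Tree :=
  .drop 19 (.leaf [529, -107, 4, -225, 518, -521, 264, 0, 0, 0, 0, 0, 0, 0, 0, 1000, 523]) (.drop
    6 (.drop 28 (.leaf [90, 262, -83, 318, -1000, 638, 48, 0, 0, 0, 0, 0, 0, 0, 0, 636, 91])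
    (.drop 16 (.leaf [278, -62, 276, -4, -101, 2, 111, 0, 0, 0, 0, 0, 0, 1000, 500, 0, 775])
    (.close (.leaf [-549136, -549146, -549146, -549146, -549146, -549136, -549136, -549146,
    274573, 0, -1000000, 384518, 0, 549146, 549146, 549146, -549146])))) (.drop 17 (.leaf [278,
    -62, 276, -4, -101, 2, 111, 0, 0, 0, 0, 0, 0, 1000, 500, 0, 775]) (.close (.leaf [-442, -444,
    -444, -444, -444, -442, -442, -444, 0, 0, -190, 0, 0, 444, 444, 444, -1000]))))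

def c67 : Tree :=
  .drop 16 (c66) (.drop 6 (.drop 29 (.leaf [73, 325, -216, 333, -1000, 669, 2, 0, 0, 0, 0, 0, 0,
    0, 0, 518, 0]) (.drop 17 (.leaf [1002, -1000, 1000, 0, 0, 2, 2, 0, 0, 0, 0, 0, 0, 0, 0, 0,
    500]) (.close (.leaf [-549136, -549146, -549146, -549146, -549146, -549136, -549136, -549146,
    274573, 0, -1000000, 384518, 0, 549146, 549146, 549146, -549146])))) (.drop 18 (.leaf [1002,
    -1000, 1000, 0, 0, 2, 2, 0, 0, 0, 0, 0, 0, 0, 0, 0, 500]) (.close (.leaf [-442, -444, -444,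
    -444, -444, -442, -442, -444, 0, 0, -190, 0, 0, 444, 444, 444, -1000]))))

def c68 : Tree :=
  .drop 24 (.drop 16 (.drop 17 (.drop 20 (.drop 16 (.leaf [843, -117, 17, -279, 656, -822, 502,
    0, 0, 0, 0, 0, 0, 978, 609, 978, 1000]) (c65)) (.drop 16 (.leaf [2724, 2089, -2643, 794,
    -1767, 3, 1082, 0, 0, 0, 0, 0, 0, 10000, 0, 0, 2157]) (c67))) (.leaf [502, 625, -1000, 125,
    -625, 502, 127, 0, 0, 0, 0, 0, 0, 0, 0, 0, 250])) (.leaf [1002, -250, 0, 83, -417, 335, 85,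
    0, 0, 0, 0, 0, 0, 0, 0, 0, 167])) (.leaf [752, -687, 1000, 94, -313, 252, 2, 0, 0, 0, 0, 0,
    0, 0, 0, 0, 0])

def c69 : Tree :=
  .drop 13 (.drop 23 (.leaf [1002, -550, 400, 75, -100, 2, 2, 0, 0, 0, 0, 0, 0, 0, 0, 0, 0])
    (.drop 23 (.leaf [1002, -550, 400, 75, -100, 2, 2, 0, 0, 0, 0, 0, 0, 0, 0, 0, 0]) (.drop 16
    (.leaf [716, 107, -1000, 36, -286, 431, 2, 0, 0, 0, 0, 0, 0, 0, 0, 0, 429]) (.leaf [2, -417,
    333, -83, -500, 335, 752, 0, 0, 0, 0, 0, 0, 0, 0, 0, 1000])))) (.drop 24 (.drop 13 (.leaf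
    [1002, -550, 400, 75, -100, 2, 2, 0, 0, 0, 0, 0, 0, 0, 0, 0, 0]) (.drop 17 (.leaf [627, -844,
    1000, 31, -250, 377, 2, 0, 0, 0, 0, 0, 0, 0, 0, 0, 375]) (.leaf [2, -400, 800, 100, -1000,
    802, 502, 0, 0, 0, 0, 0, 0, 0, 0, 0, 600]))) (.drop 17 (.leaf [716, 107, -1000, 36, -286,
    431, 2, 0, 0, 0, 0, 0, 0, 0, 0, 0, 429]) (.leaf [694, -731, 1000, 96, -288, 310, 2, 0, 0, 0,
    0, 0, 0, 0, 0, 0, -115])))

def c70 : Tree :=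
  .drop 16 (.drop 9 (.leaf [10003, -57, -2477, 544, -1160, 3, 662, 0, 0, 0, 0, 0, 0, 7330, 1832,
    0, 1318]) (.drop 17 (.leaf [1002, -321, -143, 89, -321, 288, 2, 0, 0, 0, 0, 0, 0, 0, 0, 0,
    286]) (.drop 22 (.drop 19 (.leaf [968, -1000, 552, -172, 379, -412, 519, 0, 0, 0, 0, 0, 0, 0,
    0, 0, 621]) (.close (.leaf [-442, -444, -444, -444, -444, -442, -442, -444, 0, 0, -182, 0, 0,
    444, 111, 444, -1000]))) (.leaf [1002, -250, -286, 71, -107, 145, 2, 0, 0, 0, 0, 0, 0, 0, 0,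
    0, -143])))) (.drop 9 (.drop 29 (c69) (.drop 17 (.leaf [602, 350, -1000, 125, -450, 402, 2,
    0, 0, 0, 0, 0, 0, 0, 0, 0, 400]) (.close (.leaf [-128, -130, -130, -130, -130, -128, -128,
    -130, 65, 0, -1000, 475, -4, 130, 130, 130, -130])))) (.drop 18 (.leaf [1002, -321, -143, 89,
    -321, 288, 2, 0, 0, 0, 0, 0, 0, 0, 0, 0, 286]) (.close (.leaf [-998, -1000, -1000, -1000,
    -1000, -998, -998, -1000, 1000, -1000, -637, 278, -340, 1000, 1000, 1000, -1000]))))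

def c71 : Tree :=
  .drop 33 (.drop 28 (.drop 16 (c55) (c64)) (.drop 23 (c68) (.leaf [751, -195, 446, 161, -398,
    236, 16, 0, 0, 0, 0, 0, 0, 1000, 0, 0, 28]))) (.drop 18 (.drop 16 (.drop 16 (.leaf [1002,
    -555, 1000, 48, -121, 2, 90, 0, 0, 0, 0, 0, 0, 980, 245, 0, 176]) (.drop 16 (.leaf [1002,
    -616, 1000, 53, -117, 2, 72, 0, 0, 0, 0, 0, 0, 778, 195, 0, 140]) (c70))) (.leaf [877, -781,
    1000, 94, -219, 127, 2, 0, 0, 0, 0, 0, 0, 0, 0, 0, 0])) (.leaf [1002, -206, -59, 162, -382,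
    237, 2, 0, 0, 0, 0, 0, 0, 0, 0, 0, -59]))

def c72 : Tree :=
  .drop 6 (.drop 36 (.drop 36 (.leaf [-990, 480, 1000, 0, 0, 2, 2, 0, 0, 0, 0, 0, 0, 0, 0, 992,
    0]) (.drop 36 (.leaf [-1622, 4839, 1703, 0, 0, 3, 3, 0, 0, 0, 0, 0, 0, 0, 0, 10000, 0])
    (.leaf [1002, 104, -452, 0, 0, 2, 2, 0, 0, 0, 0, 0, 0, 0, 0, 537, 0]))) (c2)) (.drop 40
    (.drop 4 (.drop 4 (.drop 37 (.leaf [140, 896, -953, 0, 0, 2, 2, 0, 0, 0, 0, 0, 0, 0, 0, 1000,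
    0]) (c40)) (c71)) (.leaf [1002, -250, 1000, 0, 0, 2, 2, 0, 0, 0, 0, 0, 0, 0, 0, 0, 0]))
    (.leaf [1002, -250, 1000, 0, 0, 2, 2, 0, 0, 0, 0, 0, 0, 0, 0, 0, 0]))

def c73 : Tree :=
  .drop 3 (.drop 1 (.leaf [140, -89, 109, 0, 0, 2, 2, 0, 0, 0, 0, 0, 0, 0, 0, 1000, 0]) (.drop 5
    (.leaf [2, -38, 192, 364, -550, 194, 2, 0, 0, 0, 0, 0, 0, 820, 1000, 820, 0]) (.drop 5 (.leaf
    [597, 3678, 594, 0, 0, 3, 3, 0, 0, 0, 0, 0, 0, 0, 0, 10000, 0]) (.drop 39 (.drop 3 (.leaf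
    [10003, 5138, -9949, 0, 0, 3, 3, 0, 0, 0, 0, 0, 0, 0, 0, 6460, 0]) (.leaf [1002, 0, 1000, 0,
    0, 2, 2, 0, 0, 0, 0, 0, 0, 0, 0, 0, 0])) (.leaf [335, 162, 333, 0, 0, 2, 2, 0, 0, 0, 0, 0, 0,
    0, 0, 1000, 0]))))) (c72)

def c74 : Tree :=
  .drop 16 (.drop 15 (.leaf [966, 539, -1000, 28, -60, 38, 2, 0, 0, 0, 0, 0, 0, 538, 134, 0, 0])
    (.drop 15 (.leaf [966, 539, -1000, 28, -60, 38, 2, 0, 0, 0, 0, 0, 0, 538, 134, 0, 0]) (.drop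
    15 (.leaf [9349, 5600, -10000, 386, -1001, 657, 3, 0, 0, 0, 0, 0, 0, 5447, 1831, 0, 0])
    (.drop 17 (.leaf [278, 499, -275, 177, -321, 223, -70, 0, 0, 0, 0, 0, 0, 1000, 500, 0, -144])
    (.drop 28 (.leaf [797, 613, -975, 4, -224, 182, 127, 0, 0, 0, 0, 0, 0, 1000, 500, 0, 250])
    (.leaf [715, 342, 0, 85, -411, 289, 127, 0, 0, 0, 0, 0, 0, 1000, 250, 0, 250])))))) (.leaf
    [866, 581, -1000, 104, -258, 178, 2, 0, 0, 0, 0, 0, 0, 585, 284, 0, -75])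

def c75 : Tree :=
  .drop 26 (.leaf [1002, -55, 832, 227, -760, 613, 2, 0, 0, 0, 0, 0, 0, 0, 252, 0, 0]) (.drop 26
    (.leaf [1002, -55, 832, 227, -760, 613, 2, 0, 0, 0, 0, 0, 0, 0, 252, 0, 0]) (.drop 18 (.leaf
    [404, 69, 114, 336, -816, 486, 2, 0, 0, 0, 0, 0, 0, 1000, 500, 0, 304]) (.close (.split 7 2
    (.split 6 3 (.leaf [229, 1000, -105, -61, -61, -59, -59, 0, 360, 0, 1, 1, -1, 122, 61, 0,
    -138]) (.leaf [676, -900, -444, 696, -444, 217, -442, 0, 0, 0, 0, 0, 0, 444, 222, 0, -1000]))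
    (.leaf [1002, -970, -324, 675, -338, -336, -336, 0, 0, 0, 0, 0, 0, 0, 338, 0, -761])))))

def c76 : Tree :=
  .drop 27 (.drop 27 (c75) (.close (.split 5 2 (.split 4 3 (.leaf [242, 1000, -111, -65, -65,
    -63, -63, 0, 364, 0, 1, 1, -1, 129, 65, 0, -65]) (.leaf [707, -1000, -465, 671, -465, 227,
    -463, 0, 0, 0, 0, 0, 0, 465, 233, 0, -465])) (.leaf [990, -1000, -320, 625, -334, -332, -332,
    0, 0, 0, 0, 0, 0, 0, 334, 0, -334])))) (.drop 19 (.leaf [1002, 0, -500, 167, -250, 169, -81,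
    0, 0, 0, 0, 0, 0, 0, 0, 0, -167]) (.close (.split 6 2 (.split 5 3 (.leaf [258, 1000, -118,
    -69, -69, -67, -67, 0, 320, 0, 2, 1, -2, 138, 69, 0, -69]) (.leaf [1002, 643, -659, 250,
    -659, 321, 84, 0, 0, 0, 0, 0, 0, 659, 330, 0, -659])) (.leaf [1002, 44, -324, 273, -338,
    -336, 44, 0, 0, 0, 0, 0, 0, 0, 338, 0, -338]))))

def c77 : Tree :=
  .drop 8 (.drop 12 (.leaf [9053, 5669, -10000, 725, -1676, 953, 3, 0, 0, 0, 0, 0, 0, 4068, 0,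
    4068, 0]) (.drop 12 (.leaf [1382, 1437, 3716, 1783, -4120, 2339, 3, 0, 0, 0, 0, 0, 0, 10000,
    0, 10000, 0]) (.drop 17 (.leaf [802, 300, -1000, 0, -100, 202, 2, 0, 0, 0, 0, 0, 0, 0, 0, 0,
    200]) (.leaf [446, -1000, 444, 278, -222, 2, 169, 0, 0, 0, 0, 0, 0, 0, 0, 0, 111])))) (.drop
    18 (.leaf [802, 400, -1000, 50, -200, 202, 2, 0, 0, 0, 0, 0, 0, 0, 0, 0, 200]) (.close
    (.split 2 1 (.leaf [-442, -444, -444, -444, -444, -442, -442, 889, -889, 889, -34, -63, 34,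
    444, 610, 444, -1000]) (.leaf [300, -1000, 0, 480, -149, -147, -147, 0, 0, 0, 0, 0, 0, 597,
    149, 0, -336]))))

def c78 : Tree :=
  .drop 18 (.drop 26 (.drop 15 (c74) (.drop 31 (c76) (.drop 19 (.leaf [1002, 0, -500, 167, -250,
    169, -81, 0, 0, 0, 0, 0, 0, 0, 0, 0, -167]) (.drop 18 (.leaf [827, 412, -1000, 40, -150, 178,
    2, 0, 0, 0, 0, 0, 0, 365, 182, 0, 111]) (.leaf [1002, 0, -500, 250, -437, 252, 2, 0, 0, 0, 0,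
    0, 0, 0, 0, 0, -250]))))) (c77)) (.leaf [1002, 304, -711, 60, -200, 163, 2, 0, 0, 0, 0, 0, 0,
    267, 134, 0, 0])

def c79 : Tree :=
  .drop 25 (.drop 16 (.drop 15 (.leaf [443, 156, 508, 53, -112, 69, 2, 0, 0, 0, 0, 0, 0, 1000,
    250, 0, 0]) (.drop 15 (.leaf [443, 156, 508, 53, -112, 69, 2, 0, 0, 0, 0, 0, 0, 1000, 250, 0,
    0]) (.drop 15 (.leaf [5226, 2205, 3761, 708, -1839, 1203, 3, 0, 0, 0, 0, 0, 0, 10000, 3363,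
    0, 0]) (.drop 28 (.leaf [10003, 3251, -7271, 387, -1294, 1041, 3, 0, 0, 0, 0, 0, 0, 3681,
    1840, 0, 0]) (.leaf [223, 211, 508, 147, -411, 289, 2, 0, 0, 0, 0, 0, 0, 1000, 250, 0,
    0]))))) (.leaf [641, 1, 187, 190, -469, 322, 2, 0, 0, 0, 0, 0, 0, 1000, 500, 0, -141]))
    (.drop 17 (.leaf [1002, 100, -500, 50, -150, 102, 2, 0, 0, 0, 0, 0, 0, 0, 0, 0, 100]) (.drop
    8 (.leaf [10003, 2837, -7177, 629, -1004, 588, 3, 0, 0, 0, 0, 0, 0, 3251, 0, 3251, -839])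
    (.close (.split 2 1 (.leaf [-442, -444, -444, -444, -444, -442, -442, 0, 0, 0, -28, -64, 28,
    444, 444, 444, -1000]) (.leaf [304, -1000, 5, 479, -149, -147, -147, 0, 0, 0, 0, 0, 0, 595,
    149, 0, -335])))))

def c80 : Tree :=
  .drop 27 (.leaf [1002, -58, 833, 227, -757, 610, 2, 0, 0, 0, 0, 0, 0, 0, 251, 0, 0]) (.drop 27
    (.leaf [10003, 1780, -5716, 529, -1770, 1425, 3, 0, 0, 0, 0, 0, 0, 0, 587, 0, 0]) (.drop 18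
    (.leaf [939, 563, -955, 148, -440, 300, 2, 0, 0, 0, 0, 0, 0, 1000, 489, 0, 118]) (.close
    (.split 7 2 (.split 6 3 (.leaf [231, 1000, -103, -61, -61, -59, -59, 0, 360, 0, 1, 1, -1,
    123, 61, 0, -138]) (.leaf [686, -903, -444, 696, -444, 217, -442, 0, 0, 0, 0, 0, 0, 444, 222,
    0, -1000])) (.leaf [1002, -946, -330, 658, -330, -328, -328, 0, 0, 0, 0, 0, 0, 0, 330, 0,
    -742])))))

def c81 : Tree :=
  .drop 28 (.drop 28 (c80) (.close (.split 5 2 (.split 4 3 (.leaf [201, 1000, -65, -65, -65, -63,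
    -63, 0, 368, 0, 1, 1, -1, 131, 65, 0, -65]) (.leaf [716, -1000, -464, 669, -464, 226, -462,
    0, 0, 0, 0, 0, 0, 464, 232, 0, -464])) (.leaf [1002, -987, -330, 617, -330, -328, -328, 0, 0,
    0, 0, 0, 0, 0, 330, 0, -330])))) (.drop 19 (.leaf [1002, 100, -700, 50, -50, 102, -48, 0, 0,
    0, 0, 0, 0, 0, 0, 0, -100]) (.close (.split 6 2 (.split 5 3 (.leaf [215, 1000, -70, -70, -70,
    -68, -68, 0, 324, 0, 2, 1, -2, 140, 70, 0, -70]) (.leaf [1002, 629, -649, 246, -649, 316, 83,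
    0, 0, 0, 0, 0, 0, 649, 325, 0, -649])) (.leaf [1002, 44, -330, 267, -330, -328, 43, 0, 0, 0,
    0, 0, 0, 0, 330, 0, -330]))))

def c82 : Tree :=
  .drop 37 (.leaf [2, 1000, -1000, 0, 0, 2, 2, 0, 0, 0, 0, 0, 0, 0, 0, 0, 0]) (.drop 18 (.drop 15
    (c79) (.drop 32 (c81) (.drop 19 (.leaf [1002, 100, -700, 50, -50, 102, -48, 0, 0, 0, 0, 0, 0,
    0, 0, 0, -100]) (.drop 18 (.leaf [1002, 267, -835, 14, -126, 149, 40, 0, 0, 0, 0, 0, 0, 305,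
    152, 0, 169]) (.leaf [1002, 135, -769, -19, 19, 79, 40, 0, 0, 0, 0, 0, 0, 0, 0, 0, 0])))))
    (.leaf [1002, 301, -706, 60, -199, 162, 2, 0, 0, 0, 0, 0, 0, 265, 133, 0, 0]))

def c83 : Tree :=
  .drop 26 (.drop 30 (.drop 24 (.leaf [923, 561, -1000, 34, -113, 93, 2, 0, 0, 0, 0, 0, 0, 506,
    253, 0, 0]) (.drop 16 (.leaf [931934, 560634, -1000000, 45154, -116190, 79112, 10, 0, 0, 0,
    0, 0, 0, 542437, 214481, 0, -18458]) (.drop 19 (.leaf [237, 389, -128, 180, -263, 182, -88,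
    0, 0, 0, 0, 0, 0, 1000, 426, 0, -180]) (.leaf [923, 561, -1000, 2, -113, 93, 65, 0, 0, 0, 0,
    0, 0, 506, 253, 0, 127])))) (.leaf [904, 565, -1000, 75, -177, 109, 2, 0, 0, 0, 0, 0, 0, 595,
    149, 0, 0])) (.drop 9 (.drop 17 (.leaf [1002, 100, -500, 50, -150, 102, 2, 0, 0, 0, 0, 0, 0,
    0, 0, 0, 100]) (.leaf [10003, 2837, -7177, 629, -1004, 588, 3, 0, 0, 0, 0, 0, 0, 3251, 0,
    3251, -839])) (.drop 18 (.leaf [1002, 125, -625, 31, -125, 127, 2, 0, 0, 0, 0, 0, 0, 0, 0, 0,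
    125]) (.close (.leaf [-998, -1000, -1000, -1000, -1000, -998, -998, -1000, 750, -1000, -453,
    155, -328, 1000, 1000, 1000, -1000]))))

def c84 : Tree :=
  .drop 29 (.drop 29 (.drop 28 (.leaf [1002, 178, -572, 53, -177, 144, 2, 0, 0, 0, 0, 0, 0, 0,
    59, 0, 0]) (.drop 28 (.leaf [10003, 1780, -5716, 529, -1770, 1425, 3, 0, 0, 0, 0, 0, 0, 0,
    587, 0, 0]) (.drop 19 (.leaf [943, 556, -947, 154, -451, 304, 2, 0, 0, 0, 0, 0, 0, 1000, 500,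
    0, 122]) (.close (.leaf [-4888, -4891, -4891, -4891, -4891, -4888, -4888, -4891, 3668, -4891,
    -10000, 1935, -64, 4891, 4891, 4891, -4891]))))) (.close (.leaf [-461, -463, -463, -463,
    -463, -461, -461, -463, 347, -463, -1000, 197, -6, 463, 463, 463, -463]))) (.drop 20 (.leaf
    [502, -625, 1000, 500, -750, 502, -248, 0, 0, 0, 0, 0, 0, 0, 0, 0, -500]) (.close (.leaf
    [-538, -540, -540, -540, -540, -538, -538, -540, 405, -540, -1000, 188, -7, 540, 540, 540,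
    -540])))

def c85 : Tree :=
  .drop 3 (c82) (.drop 19 (.drop 16 (c83) (.drop 33 (c84) (.drop 20 (.leaf [1002, 100, -700, 50,
    -50, 102, -48, 0, 0, 0, 0, 0, 0, 0, 0, 0, -100]) (.drop 19 (.leaf [988, 566, -975, 135, -456,
    309, 39, 0, 0, 0, 0, 0, 0, 1000, 500, 0, 201]) (.leaf [1002, 135, -769, -19, 19, 79, 40, 0,
    0, 0, 0, 0, 0, 0, 0, 0, 0]))))) (.leaf [641, 352, 469, 225, -750, 603, 2, 0, 0, 0, 0, 0, 0,
    1000, 500, 0, 0]))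

def c86 : Tree :=
  .drop 3 (.drop 38 (.drop 37 (.leaf [144, 876, -1000, 25, -83, 96, 2, 0, 0, 0, 0, 0, 0, 401, 69,
    752, 0]) (.drop 37 (.leaf [2, 1000, -1000, 0, 0, 2, 2, 0, 0, 0, 0, 0, 0, 0, 0, 0, 0]) (c78)))
    (.drop 3 (.leaf [2, 276, 20, 116, -329, 236, 2, 0, 0, 0, 0, 0, 0, 1000, 319, 0, 0]) (.drop 15
    (.leaf [3600, 4570, -5396, 1021, -2704, 1802, 3, 0, 0, 0, 0, 0, 0, 10000, 2808, 0, 0]) (.leaf
    [669, 639, -1000, 129, -421, 335, 2, 0, 0, 0, 0, 0, 0, 689, 320, 0, 0])))) (.drop 39 (c85)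
    (.leaf [384, -11, 402, 116, -329, 236, 2, 0, 0, 0, 0, 0, 0, 1000, 319, 0, 0]))

def c87 : Tree :=
  .drop 12 (.leaf [1002, 124, 179, 17, 14, 2, 32, 0, 0, 0, 0, 0, 0, 904, 226, 0, -158]) (.drop 12
    (.drop 14 (.leaf [1002, -219, 250, -16, 187, -123, 18, 0, 0, 0, 0, 0, 0, 0, 0, 0, -219])
    (.drop 18 (.leaf [675, 672, -1000, 300, -569, 574, -260, 0, 0, 0, 0, 0, 0, 731, 183, 0,
    -667]) (.close (.leaf [-487, -489, -489, -489, -489, -487, -487, -489, 122, 0, -1000, 190, 0,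
    489, 489, 489, -489])))) (.drop 19 (.leaf [559, 734, -1000, 318, -616, 600, -264, 0, 0, 0, 0,
    0, 0, 991, 248, 0, -637]) (.close (.leaf [-4888, -4891, -4891, -4891, -4891, -4888, -4888,
    -4891, 3668, -4891, -10000, 1941, -77, 4891, 4891, 4891, -4891]))))

def c88 : Tree :=
  .drop 12 (.drop 17 (.drop 12 (.leaf [1002, -631, 139, 370, -52, 2, -283, 0, 0, 0, 0, 0, 0, 625,
    156, 0, -683]) (.drop 12 (.drop 14 (.leaf [2, -583, 1000, 125, 167, -165, -81, 0, 0, 0, 0, 0,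
    0, 0, 0, 0, -333]) (.close (.leaf [-4626, -4629, -4629, -4629, -4629, -4626, -4626, -4629,
    1157, 0, -10000, 1935, 0, 4629, 4629, 4629, -4629]))) (.close (.leaf [-461, -463, -463, -463,
    -463, -461, -461, -463, 347, -463, -1000, 197, -7, 463, 463, 463, -463])))) (.leaf [1002,
    -466, -276, 389, -152, 211, -311, 0, 0, 0, 0, 0, 0, 837, 209, 0, -626])) (.leaf [1002, -333,
    -500, 167, 0, 169, -165, 0, 0, 0, 0, 0, 0, 0, 0, 0, -333])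

def c89 : Tree :=
  .drop 24 (.drop 22 (.leaf [2, 1000, -1000, 500, -1000, 1002, -498, 0, 0, 0, 0, 0, 0, 0, 0, 0,
    -1000]) (.drop 15 (.leaf [2, 500, -1000, 500, -1000, 1002, -498, 0, 0, 0, 0, 0, 0, 0, 0, 0,
    0]) (.drop 21 (.drop 12 (.drop 17 (c87) (.leaf [1002, 340, -265, 127, -316, 222, 33, 0, 0, 0,
    0, 0, 0, 879, 220, 0, -157])) (.leaf [1002, 250, -500, 31, -188, 252, 64, 0, 0, 0, 0, 0, 0,
    0, 0, 0, -125])) (.leaf [88, 364, -399, 431, -1000, 512, 68, 0, 0, 0, 0, 0, 0, 621, 0, 621,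
    132])))) (c88)

def c90 : Tree :=
  .drop 14 (.drop 17 (.leaf [1002, -125, 143, -9, 107, -69, 38, 0, 0, 0, 0, 0, 0, 0, 0, 0, -179])
    (.drop 21 (.drop 10 (.leaf [502, 312, -1000, 125, -250, 502, -123, 0, 0, 0, 0, 0, 0, 0, 0, 0,
    -375]) (.close (.leaf [-998, -1000, -1000, -1000, -1000, -998, -998, -1000, -1000, 0, -100,
    -1000, 0, 1000, 1000, 1000, -1000]))) (.close (.leaf [-442, -444, -444, -444, -444, -442,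
    -442, -444, 0, 0, -224, 0, 0, 444, 444, 444, -1000])))) (.drop 22 (.drop 10 (.leaf [502, 312,
    -1000, 125, -250, 502, -123, 0, 0, 0, 0, 0, 0, 0, 0, 0, -375]) (.close (.leaf [-998, -1000,
    -1000, -1000, -1000, -998, -998, -1000, -1000, -1000, -140, -1000, -16, 1000, 1000, 1000,
    -1000]))) (.close (.leaf [-4441, -4444, -4444, -4444, -4444, -4441, -4441, -4444, 2222,
    -4444, -2244, 35, -70, 4444, 4444, 4444, -10000])))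

def c91 : Tree :=
  .drop 14 (.drop 17 (.leaf [1002, -125, 143, -9, 107, -69, 38, 0, 0, 0, 0, 0, 0, 0, 0, 0, -179])
    (.drop 17 (.leaf [1002, -125, 143, -9, 107, -69, 38, 0, 0, 0, 0, 0, 0, 0, 0, 0, -179]) (.drop
    21 (.drop 10 (.leaf [1002, 125, -625, 250, -344, 315, -154, 0, 0, 0, 0, 0, 0, 0, 0, 0, -562])
    (.close (.leaf [-998, -1000, -1000, -1000, -1000, -998, -998, -1000, -1000, 500, -124, -1000,
    28, 1000, 1000, 1000, -1000]))) (.close (.leaf [-444434, -444444, -444444, -444444, -444444,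
    -444434, -444434, -444444, 0, 0, -224435, -49468, 98936, 444444, 444444, 444444,
    -1000000]))))) (c90)

def c92 : Tree :=
  .drop 18 (.drop 19 (.drop 16 (.leaf [1002, -250, 0, 0, 0, 2, 2, 0, 0, 0, 0, 0, 0, 0, 0, 0,
    500]) (.leaf [669, 0, -1000, 167, -250, 502, -165, 0, 0, 0, 0, 0, 0, 0, 0, 0, 0])) (.leaf
    [669, 333, -1000, 0, -250, 502, 2, 0, 0, 0, 0, 0, 0, 0, 0, 0, 333])) (.drop 24 (.drop 14
    (.drop 20 (c91) (.leaf [1002, 187, -500, 156, -375, 252, 33, 0, 0, 0, 0, 0, 0, 0, 0, 0,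
    -187])) (.leaf [1002, 250, -500, 94, -313, 252, 64, 0, 0, 0, 0, 0, 0, 0, 0, 0, -125])) (.leaf
    [1002, -250, -250, 250, -250, 127, -61, 0, 0, 0, 0, 0, 0, 0, 0, 0, -375]))

def c93 : Tree :=
  .drop 22 (.drop 10 (.drop 8 (.drop 10 (.drop 15 (c89) (.leaf [1002, 250, -500, 31, -188, 252,
    2, 0, 0, 0, 0, 0, 0, 0, 0, 0, 0])) (.leaf [1002, 0, -500, 250, -375, 252, -123, 0, 0, 0, 0,
    0, 0, 0, 0, 0, -250])) (.leaf [1002, 0, -286, 143, -214, 145, -69, 0, 0, 0, 0, 0, 0, 0, 0, 0,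
    -143])) (.drop 12 (c92) (.leaf [1002, -62, -250, 31, -63, 2, 33, 0, 0, 0, 0, 0, 0, 0, 0, 0,
    62]))) (.leaf [1002, 250, -500, 31, -187, 252, 2, 0, 0, 0, 0, 0, 0, 0, 0, 0, 0])

def c94 : Tree :=
  .drop 12 (.leaf [10003, 922, 651, -748, 302, 3, 1196, 0, 0, 0, 0, 0, 0, 3281, 820, 0, 1797])
    (.drop 12 (.drop 16 (.leaf [1002, -36, 143, -107, 125, -69, 127, 0, 0, 0, 0, 0, 0, 0, 0, 0,
    179]) (.drop 23 (.leaf [502, 625, -1000, 63, -500, 502, 64, 0, 0, 0, 0, 0, 0, 0, 0, 0, 125])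
    (.close (.leaf [-538, -540, -540, -540, -540, -538, -538, -540, 135, 0, -1000, 184, 0, 540,
    540, 540, -540])))) (.drop 24 (.leaf [502, 625, -1000, -62, -250, 502, 64, 0, 0, 0, 0, 0, 0,
    0, 0, 0, 125]) (.close (.leaf [-538, -540, -540, -540, -540, -538, -538, -540, 405, -540,
    -1000, 188, -8, 540, 540, 540, -540]))))

def c95 : Tree :=
  .drop 13 (.drop 12 (.leaf [859, 11, 198, 82, -164, 2, 92, 0, 0, 0, 0, 0, 0, 1000, 250, 0, 180])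
    (.drop 12 (.drop 15 (.leaf [1002, -500, 500, 0, 125, -248, 127, 0, 0, 0, 0, 0, 0, 0, 0, 0,
    250]) (.drop 13 (.leaf [502, 375, -1000, 94, -500, 502, 65, 0, 0, 0, 0, 0, 0, 0, 0, 0, 375])
    (.leaf [502, 375, -1000, 125, -469, 502, 65, 0, 0, 0, 0, 0, 0, 0, 0, 0, 0]))) (.drop 14
    (.leaf [502, 375, -1000, 94, -500, 502, 64, 0, 0, 0, 0, 0, 0, 0, 0, 0, 375]) (.leaf [502,
    375, -1000, 125, -469, 502, 65, 0, 0, 0, 0, 0, 0, 0, 0, 0, 0])))) (.leaf [1002, 0, -500, 156,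
    -438, 252, 127, 0, 0, 0, 0, 0, 0, 0, 0, 0, 250])

def c96 : Tree :=
  .drop 29 (.drop 12 (.drop 20 (c94) (.leaf [1002, 388, -265, -30, -160, 222, 112, 0, 0, 0, 0, 0,
    0, 879, 220, 0, 220])) (.leaf [1002, 250, -500, -125, 0, 252, 127, 0, 0, 0, 0, 0, 0, 0, 0, 0,
    250])) (.drop 19 (.drop 20 (.drop 12 (c95) (.leaf [2, 250, -500, 375, -1000, 502, 252, 0, 0,
    0, 0, 0, 0, 0, 0, 0, 500])) (.leaf [140, 441, -302, -34, -57, 252, 127, 0, 0, 0, 0, 0, 0,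
    1000, 250, 0, 250])) (.leaf [140, 425, -269, 226, -452, 236, 2, 0, 0, 0, 0, 0, 0, 1000, 250,
    0, 0]))

def c97 : Tree :=
  .drop 14 (.drop 17 (.leaf [2, -750, 1000, 0, 125, -248, 127, 0, 0, 0, 0, 0, 0, 0, 0, 0, 250])
    (.drop 17 (.leaf [2, -750, 1000, 0, 125, -248, 127, 0, 0, 0, 0, 0, 0, 0, 0, 0, 250]) (.drop
    15 (.leaf [634, 492, -1000, -40, -267, 557, 71, 0, 0, 0, 0, 0, 0, 555, 139, 0, 476]) (.leaf
    [2, 500, -571, 393, -1000, 573, 145, 0, 0, 0, 0, 0, 0, 0, 0, 0, 0])))) (.drop 14 (.drop 17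
    (.leaf [2, -750, 1000, 0, 125, -248, 127, 0, 0, 0, 0, 0, 0, 0, 0, 0, 250]) (.drop 15 (.leaf
    [1002, 150, -800, -13, -100, 202, 27, 0, 0, 0, 0, 0, 0, 0, 0, 0, 150]) (.leaf [2, -1000, 0,
    0, 0, 2, 1002, 0, 0, 0, 0, 0, 0, 0, 0, 0, 0]))) (.drop 16 (.leaf [1002, 150, -800, -12, -100,
    202, 27, 0, 0, 0, 0, 0, 0, 0, 0, 0, 150]) (.leaf [2, 500, -571, 393, -1000, 573, 145, 0, 0,
    0, 0, 0, 0, 0, 0, 0, 0])))

def c98 : Tree :=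
  .drop 7 (.drop 7 (.drop 29 (c96) (.leaf [1002, -125, 0, 31, -125, 2, 127, 0, 0, 0, 0, 0, 0, 0,
    0, 0, 250])) (.leaf [1002, -125, 0, 31, -125, 2, 127, 0, 0, 0, 0, 0, 0, 0, 0, 0, 250]))
    (.drop 21 (.drop 14 (.drop 21 (.drop 15 (c97) (.leaf [1002, -1000, -500, 250, -125, 252, 127,
    0, 0, 0, 0, 0, 0, 0, 0, 0, 250])) (.leaf [1002, -1000, -500, 250, -125, 252, 127, 0, 0, 0, 0,
    0, 0, 0, 0, 0, 250])) (.leaf [1002, -125, -500, -125, 187, 252, 127, 0, 0, 0, 0, 0, 0, 0, 0,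
    0, 250])) (.leaf [1002, -1000, -500, 250, -125, 252, 127, 0, 0, 0, 0, 0, 0, 0, 0, 0, 250]))

def c99 : Tree :=
  .drop 15 (.drop 19 (.leaf [1002, -114, -182, -34, 91, -89, 59, 0, 0, 0, 0, 0, 0, 0, 0, 0, 23])
    (.drop 19 (.leaf [1002, -114, -182, -34, 91, -89, 59, 0, 0, 0, 0, 0, 0, 0, 0, 0, 23]) (.close
    (.leaf [-998, -1000, -1000, -1000, -1000, -998, -998, -1000, -250, 500, -124, -1000, 28,
    1000, 1000, 1000, -1000])))) (.drop 20 (.drop 15 (.leaf [2, -571, 1000, -107, 286, -284, 181,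
    0, 0, 0, 0, 0, 0, 0, 0, 0, 71]) (.close (.leaf [-998, -1000, -1000, -1000, -1000, -998, -998,
    -1000, -1000, -1000, -140, -1000, -16, 1000, 1000, 1000, -1000]))) (.close (.leaf [-998,
    -1000, -1000, -1000, -1000, -998, -998, -1000, 0, 0, -100, -1000, 0, 1000, 1000, 1000,
    -1000])))

def c100 : Tree :=
  .drop 16 (.drop 20 (.leaf [2, -542, 1000, -63, 167, -165, 106, 0, 0, 0, 0, 0, 0, 0, 0, 0, 42])
    (.drop 20 (.leaf [2, -625, 1000, -187, 500, -498, 314, 0, 0, 0, 0, 0, 0, 0, 0, 0, 125])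
    (.close (.leaf [-998, -1000, -1000, -1000, -1000, -998, -998, -1000, -250, 500, -124, -1000,
    28, 1000, 1000, 1000, -1000])))) (.drop 16 (.drop 20 (.leaf [2, -542, 1000, -63, 167, -165,
    106, 0, 0, 0, 0, 0, 0, 0, 0, 0, 42]) (.close (.leaf [-998, -1000, -1000, -1000, -1000, -998,
    -998, -1000, 0, 0, -100, -1000, 0, 1000, 1000, 1000, -1000]))) (.close (.leaf [-998, -1000,
    -1000, -1000, -1000, -998, -998, -1000, -1000, -1000, -140, -1000, -16, 1000, 1000, 1000,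
    -1000])))

def c101 : Tree :=
  .drop 12 (.drop 20 (c93) (.drop 11 (c98) (.drop 15 (.drop 23 (c99) (.leaf [1002, 83, -500, 10,
    -63, 85, 2, 0, 0, 0, 0, 0, 0, 0, 0, 0, 0])) (.leaf [1002, 0, -500, -19, 12, 52, 27, 0, 0, 0,
    0, 0, 0, 0, 0, 0, 50])))) (.drop 16 (.drop 24 (c100) (.leaf [2, -500, 0, -125, -250, 1002,
    252, 0, 0, 0, 0, 0, 0, 0, 0, 0, 500])) (.leaf [2, 0, 0, 100, -1000, 802, 402, 0, 0, 0, 0, 0,
    0, 0, 0, 0, 800]))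

def c102 : Tree :=
  .drop 15 (.leaf [1002, -307, 944, 14, -4, 11, 51, 0, 0, 0, 0, 0, 0, 592, 169, 0, -152]) (.drop
    25 (.leaf [490, 774, -1000, 325, -692, 649, -242, 0, 0, 0, 0, 0, 0, 883, 383, 0, -610])
    (.drop 22 (.drop 15 (.leaf [754, 184, -20, 56, -149, 2, 160, 0, 0, 0, 0, 0, 0, 1000, 500, 0,
    136]) (.close (.split 8 2 (.leaf [-965, 1830, -968, 1876, -968, -965, -965, 0, 0, 0, 0, 25,
    -50, 10000, 968, 968, -2179]) (.leaf [-126, -905, -444, 665, -444, 446, -442, 0, 0, 0, 0, 0,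
    0, 0, 444, 0, -1000])))) (.leaf [721, 155, 128, 82, -329, 182, 174, 0, 0, 0, 0, 0, 0, 1000,
    500, 0, 164])))

def c103 : Tree :=
  .drop 16 (.leaf [1002, -393, 798, 40, -1, 5, 24, 0, 0, 0, 0, 0, 0, 265, 133, 0, -205]) (.drop
    26 (.leaf [10003, -4591, 6863, 625, -25, 53, 3, 0, 0, 0, 0, 0, 0, 278, 1102, 0, -2500])
    (.drop 23 (.drop 16 (.leaf [754, 44, -20, 56, -9, 2, 92, 0, 0, 0, 0, 0, 0, 1000, 500, 0, -8])
    (.close (.split 8 2 (.leaf [-10892381, 8644752, -10893381, 22636186, -10893381, -10892381,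
    -10892381, 0, 0, 0, 0, 265149, -530298, 100000000, 10893381, 0, -24510108]) (.leaf [-126,
    -801, -444, 639, -444, 446, -442, 0, 0, 0, 0, 0, 0, 0, 444, 0, -1000])))) (.leaf [587, -130,
    64, 56, 39, 252, 51, 0, 0, 0, 0, 0, 0, 1000, 500, 0, -151])))

def c104 : Tree :=
  .drop 11 (.drop 26 (.leaf [631, 670, -1000, 293, -625, 586, -233, 0, 0, 0, 0, 0, 0, 629, 157,
    0, -471]) (.drop 18 (.leaf [449, 388, -1000, 208, -503, 562, -182, 0, 0, 0, 0, 0, 0, 447,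
    112, 0, 110]) (.drop 25 (c102) (.leaf [1002, -125, 0, 63, -125, 2, 127, 0, 0, 0, 0, 0, 0, 0,
    0, 0, 0])))) (.drop 19 (.leaf [435, 391, -1000, 210, -544, 579, -162, 0, 0, 0, 0, 0, 0, 433,
    217, 0, 171]) (.drop 26 (c103) (.leaf [1002, -125, 0, 63, -125, 2, 127, 0, 0, 0, 0, 0, 0, 0,
    0, 0, 0])))

def c105 : Tree :=
  .drop 14 (.leaf [1002, -316, 823, -73, 21, 2, 127, 0, 0, 0, 0, 0, 0, 230, 115, 0, 209]) (.drop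
    22 (.drop 14 (.leaf [10003, -3163, 8229, -729, 209, 3, 1253, 0, 0, 0, 0, 0, 0, 2296, 1148, 0,
    2087]) (.drop 26 (.leaf [483, 500, -1000, 127, -611, 594, 62, 0, 0, 0, 0, 0, 0, 0, 516, 0,
    121]) (.close (.split 7 2 (.leaf [-965, 4736, -968, 726, -968, -965, 124, 0, 0, 0, 0, 25,
    -50, 10000, 968, 968, -968]) (.leaf [-285, 963, -1000, 308, -1000, 1002, 127, 0, 0, 0, 0, 0,
    0, 0, 1000, 0, -1000]))))) (.leaf [1002, -16, 589, 31, -312, 252, 127, 0, 0, 0, 0, 0, 0, 857,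
    428, 0, 250]))

def c106 : Tree :=
  .drop 8 (.drop 29 (c105) (.drop 15 (.drop 14 (.leaf [1002, -40, 229, 120, -239, 2, 127, 0, 0,
    0, 0, 0, 0, 1000, 500, 0, 250]) (.drop 14 (.leaf [754, 146, -20, 88, -176, 2, 96, 0, 0, 0, 0,
    0, 0, 1000, 500, 0, 188]) (.drop 16 (.leaf [1002, 125, -750, -21, -62, 169, 23, 0, 0, 0, 0,
    0, 0, 0, 0, 0, 125]) (.leaf [502, -625, 1000, 266, -750, 502, 65, 0, 0, 0, 0, 0, 0, 0, 0, 0,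
    0])))) (.leaf [1002, -750, 1000, -62, 188, 2, 127, 0, 0, 0, 0, 0, 0, 0, 0, 0, 0]))) (.leaf
    [1002, -78, -345, 33, -67, 2, 127, 0, 0, 0, 0, 0, 0, 0, 436, 0, 250])

def c107 : Tree :=
  .drop 31 (.drop 13 (.drop 20 (c104) (.drop 31 (.drop 9 (c106) (.leaf [1002, -10, -307, 14, -63,
    24, 42, 0, 0, 0, 0, 0, 0, 125, 150, 0, 81])) (.leaf [1002, -63, -250, 16, -63, 2, 65, 0, 0,
    0, 0, 0, 0, 0, 0, 0, 125]))) (.leaf [1002, -290, 81, 116, -107, 2, 2, 0, 0, 0, 0, 0, 0, 0,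
    298, 0, 0])) (.drop 17 (.leaf [180, 83, 178, 46, -83, 2, 92, 0, 0, 0, 0, 0, 0, 1000, 250, 0,
    0]) (.drop 25 (.drop 17 (.leaf [1002, -464, 482, 92, -118, 2, 62, 0, 0, 0, 0, 0, 0, 671, 335,
    0, 0]) (.close (.split 6 2 (.leaf [-965, 1709, -968, 1755, -968, -965, -965, 0, 0, 0, 0, 25,
    -50, 10000, 968, 968, -968]) (.leaf [-131, -1000, -463, 634, -463, 465, -461, 0, 0, 0, 0, 0,
    0, 0, 463, 0, -463])))) (.leaf [278, 167, -281, 235, -469, 252, 2, 0, 0, 0, 0, 0, 0, 1000,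
    500, 0, -41])))

def c108 : Tree :=
  .drop 3 (c86) (.drop 37 (.drop 37 (.drop 6 (.drop 5 (.leaf [-998, 0, 1000, 0, 0, 2, 2, 0, 0, 0,
    0, 0, 0, 0, 0, 0, 0]) (c101)) (.leaf [669, 833, -1000, 125, -417, 335, 2, 0, 0, 0, 0, 0, 0,
    0, 0, 0, 0])) (.drop 17 (c107) (.leaf [1002, 83, -500, 10, -63, 85, 2, 0, 0, 0, 0, 0, 0, 0,
    0, 0, 0]))) (.leaf [1002, 375, -500, 0, 0, 2, 2, 0, 0, 0, 0, 0, 0, 0, 0, 0, 0]))

def c109 : Tree :=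
  .drop 10 (.drop 15 (.leaf [1002, -64, 204, 33, -111, 92, 19, 0, 0, 0, 0, 0, 0, 886, 222, 0,
    -35]) (.drop 15 (.leaf [10003, -1411, 2879, 436, -1293, 1169, 3, 0, 0, 0, 0, 0, 0, 8287,
    2072, 0, -324]) (.drop 11 (.drop 10 (.leaf [768, 361, -665, 300, -1000, 803, 2, 0, 0, 0, 0,
    0, 0, 679, 170, 0, 0]) (.leaf [1002, -750, 667, 375, -1000, 669, 2, 0, 0, 0, 0, 0, 0, 0, 0,
    0, 0])) (.leaf [431, -571, 1000, 71, -357, 573, 2, 0, 0, 0, 0, 0, 0, 0, 0, 0, -143]))))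
    (.drop 17 (.drop 16 (.leaf [1002, -163, 0, -98, 164, 2, 153, 0, 0, 0, 0, 0, 0, 1000, 250, 0,
    302]) (.drop 16 (.leaf [1002, -163, 0, -72, 164, 2, 127, 0, 0, 0, 0, 0, 0, 1000, 250, 0,
    250]) (.drop 17 (.leaf [2, 333, -667, 333, -1000, 669, 2, 0, 0, 0, 0, 0, 0, 0, 0, 0, 667])
    (.leaf [2, 500, -1000, -125, -500, 1002, 502, 0, 0, 0, 0, 0, 0, 0, 0, 0, 500])))) (.leaf
    [802, 400, -1000, 38, -225, 302, 2, 0, 0, 0, 0, 0, 0, 0, 0, 0, 0]))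

def c110 : Tree :=
  .split 5 2 (.leaf [-200, -202, 1000, -202, -202, -200, -200, -202, 0, 0, -55, 3, -6, 202, 202,
    202, -453]) (.split 5 3 (.leaf [667, -165, 1000, -165, -165, -163, -163, -165, 0, 0, -15, 0,
    0, 165, 83, 0, -371]) (.split 5 4 (.leaf [1002, 743, 678, -285, -285, -283, -283, -285, 0, 0,
    -4, 0, 0, 285, 143, 0, -642]) (.split 5 10 (.leaf [503, 1000, 139, -181, -181, -179, -179, 0,
    0, 0, 0, 0, 0, 723, 181, 0, -407]) (.split 6 2 (.split 7 2 (.leaf [-132, 1000, -134, -134,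
    -134, -132, -132, 99, 0, 0, 2, 0, 0, 186, -93, 0, -301]) (.leaf [1002, 547, -143, -143, -143,
    -141, -141, 0, 0, 0, 0, 0, 0, 286, 143, 0, -321])) (.leaf [1002, 453, -143, -143, -143, -141,
    -141, 0, 0, 0, 0, 0, 0, 143, 71, 0, -321])))))

def c111 : Tree :=
  .drop 17 (.leaf [1002, 46, 0, 19, -45, 2, 35, 0, 0, 0, 0, 0, 0, 1000, 250, 0, 67]) (.drop 18
    (.leaf [516, 597, -757, 246, -742, 502, 2, 0, 0, 0, 0, 0, 0, 1000, 500, 0, 500]) (.drop 17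
    (.leaf [1002, 78, -69, 34, 1, 2, 27, 0, 0, 0, 0, 0, 0, 863, 282, 0, -165]) (.drop 11 (.drop
    25 (.leaf [1002, -750, 1000, 125, -600, 802, 2, 0, 0, 0, 0, 0, 0, 0, 0, 0, -200]) (.close
    (c110))) (.close (.leaf [-998, -1000, -1000, -1000, -1000, -998, -998, 0, 0, 0, 0, -1000, 0,
    1000, 1000, 1000, -1000])))))

def c112 : Tree :=
  .drop 8 (.drop 16 (.drop 11 (.leaf [1002, 242, -366, 54, -212, 173, 21, 0, 0, 0, 0, 0, 0, 952,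
    238, 0, 37]) (.drop 18 (c109) (.leaf [1002, -250, 0, 94, -312, 252, 2, 0, 0, 0, 0, 0, 0, 0,
    0, 0, 0]))) (.leaf [1002, 125, -500, 141, -469, 377, 2, 0, 0, 0, 0, 0, 0, 0, 0, 0, 0]))
    (.drop 19 (.drop 17 (.drop 18 (c111) (.leaf [669, 500, -1000, 83, -333, 335, 2, 0, 0, 0, 0,
    0, 0, 0, 0, 0, 0])) (.leaf [1002, 0, -500, 31, -188, 252, 2, 0, 0, 0, 0, 0, 0, 0, 0, 0, 0]))
    (.leaf [1002, 125, -500, 141, -469, 377, 2, 0, 0, 0, 0, 0, 0, 0, 0, 0, 0]))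

def c113 : Tree :=
  .drop 14 (.drop 17 (.leaf [1002, 250, 500, -250, 750, -498, 252, 0, 0, 0, 0, 0, 0, 0, 0, 0,
    -500]) (.drop 22 (.drop 10 (.leaf [1002, -188, 0, 0, 63, 2, 2, 0, 0, 0, 0, 0, 0, 0, 0, 0,
    -250]) (.close (.leaf [-442, -444, -444, -444, -444, -442, -442, -444, 0, 0, -190, 0, 0, 444,
    444, 444, -1000]))) (.close (.leaf [-860, -862, -862, -862, -862, -860, -860, -862, 431, 0,
    -1000, 319, 0, 862, 862, 862, -862])))) (.drop 23 (.drop 10 (.leaf [2, 1000, 0, 0, 200, 2, 2,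
    0, 0, 0, 0, 0, 0, 0, 0, 0, -800]) (.close (.leaf [-4441, -4444, -4444, -4444, -4444, -4441,
    -4441, -4444, 2222, -4444, -1898, 35, -70, 4444, 4444, 4444, -10000]))) (.close (.leaf [-860,
    -862, -862, -862, -862, -860, -860, -862, 862, -862, -1000, 326, -14, 862, 862, 862, -862])))

def c114 : Tree :=
  .drop 21 (.drop 14 (.drop 17 (.leaf [1002, -375, 500, -250, 625, -498, 252, 0, 0, 0, 0, 0, 0,
    0, 0, 0, 0]) (.drop 17 (.leaf [1002, -187, -125, -63, 188, -123, 65, 0, 0, 0, 0, 0, 0, 0, 0,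
    0, -125]) (.drop 10 (.leaf [821, 198, -2, 145, -254, 182, 2, 0, 0, 0, 0, 0, 0, 1000, 250, 0,
    -250]) (.close (.leaf [-442, -444, -444, -444, -444, -442, -442, -444, 0, 0, -190, -41, 82,
    444, 444, 444, -1000]))))) (c113)) (.leaf [1002, 83, -833, 0, 0, 169, 2, 0, 0, 0, 0, 0, 0, 0,
    0, 0, -167])

def c115 : Tree :=
  .drop 15 (.drop 16 (.drop 17 (.drop 19 (.leaf [2, -200, 0, -100, 0, 2, 102, 0, 0, 0, 0, 0, 0,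
    0, 0, 0, 1000]) (.leaf [2, 750, -1000, 0, -500, 1002, 2, 0, 0, 0, 0, 0, 0, 0, 0, 0, 500]))
    (.drop 25 (.drop 12 (c114) (.leaf [821, 155, -2, 188, -297, 182, 2, 0, 0, 0, 0, 0, 0, 1000,
    250, 0, -250])) (.leaf [39, 511, -526, 426, -1000, 575, 76, 0, 0, 0, 0, 0, 0, 268, 0, 268,
    -135]))) (.leaf [911, 318, -1000, 0, -136, 275, 2, 0, 0, 0, 0, 0, 0, 0, 0, 0, 0])) (.leaf
    [802, -700, 1000, 75, -250, 202, 2, 0, 0, 0, 0, 0, 0, 0, 0, 0, 0])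

def c116 : Tree :=
  .drop 12 (.drop 15 (.leaf [1002, -250, 500, -375, 1000, -498, 2, 0, 0, 0, 0, 0, 0, 0, 0, 0,
    -500]) (.drop 10 (.drop 18 (.drop 17 (.leaf [2, 0, 1000, 0, -750, 1002, 2, 0, 0, 0, 0, 0, 0,
    0, 0, 0, 0]) (.leaf [602, -750, 1000, 225, -600, 402, 2, 0, 0, 0, 0, 0, 0, 0, 0, 0, 0]))
    (.leaf [2, 568, -91, -182, 341, 93, 2, 0, 0, 0, 0, 0, 0, 0, 0, 0, -1000])) (.leaf [2, 667,
    -667, 417, -1000, 669, 2, 0, 0, 0, 0, 0, 0, 0, 0, 0, -333]))) (.drop 10 (.drop 19 (.drop 18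
    (.leaf [2, 0, 1000, 0, -750, 1002, 2, 0, 0, 0, 0, 0, 0, 0, 0, 0, 0]) (.leaf [2, -250, 667,
    375, -1000, 669, 2, 0, 0, 0, 0, 0, 0, 0, 0, 0, 0])) (.leaf [242, 600, -400, -160, 260, 162,
    2, 0, 0, 0, 0, 0, 0, 0, 0, 0, -1000])) (.leaf [2, 667, -667, 417, -1000, 669, 2, 0, 0, 0, 0,
    0, 0, 0, 0, 0, -333]))

def c117 : Tree :=
  .drop 12 (.drop 15 (.leaf [822, -46, 666, -181, 362, -152, 79, 0, 0, 0, 0, 0, 0, 1000, 250, 0,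
    -180]) (.drop 17 (.drop 15 (.leaf [1002, -250, 500, -375, 1000, -498, 2, 0, 0, 0, 0, 0, 0, 0,
    0, 0, -500]) (.drop 10 (.leaf [147, 289, 162, -40, 73, 19, 2, 0, 0, 0, 0, 0, 0, 1000, 250, 0,
    -163]) (.leaf [547, 659, -1000, 45, -273, 457, 2, 0, 0, 0, 0, 0, 0, 0, 0, 0, -773]))) (.leaf
    [2, 800, 0, 300, -1000, 802, 2, 0, 0, 0, 0, 0, 0, 0, 0, 0, 0]))) (.drop 18 (c116) (.leaf [2,
    800, 0, 300, -1000, 802, 2, 0, 0, 0, 0, 0, 0, 0, 0, 0, 0]))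

def c118 : Tree :=
  .drop 18 (.drop 13 (.leaf [1002, -145, -374, 69, -20, 2, 2, 0, 0, 0, 0, 0, 0, 470, 117, 0, 0])
    (.drop 13 (.drop 15 (.leaf [1002, -750, 500, -188, 500, -498, 252, 0, 0, 0, 0, 0, 0, 0, 0, 0,
    500]) (.drop 13 (.leaf [502, -750, 1000, 250, -750, 502, 2, 0, 0, 0, 0, 0, 0, 0, 0, 0, 250])
    (.leaf [502, 250, -1000, 63, -375, 502, 96, 0, 0, 0, 0, 0, 0, 0, 0, 0, 63]))) (.drop 14
    (.leaf [2, 333, -667, 333, -1000, 669, 2, 0, 0, 0, 0, 0, 0, 0, 0, 0, 667]) (.leaf [602, -700,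
    1000, 200, -550, 402, 2, 0, 0, 0, 0, 0, 0, 0, 0, 0, -100])))) (.leaf [1002, -145, -374, 113,
    -167, 119, 2, 0, 0, 0, 0, 0, 0, 470, 117, 0, 0])

def c119 : Tree :=
  .drop 17 (.drop 14 (.leaf [1002, -833, 500, -167, 500, -498, 252, 0, 0, 0, 0, 0, 0, 0, 0, 0,
    500]) (.drop 14 (.leaf [1002, -833, 500, -167, 500, -498, 252, 0, 0, 0, 0, 0, 0, 0, 0, 0,
    500]) (.drop 15 (.leaf [2, -167, 333, 167, -500, 335, 2, 0, 0, 0, 0, 0, 0, 0, 0, 0, 1000])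
    (.leaf [669, 278, -1000, 56, -278, 446, 2, 0, 0, 0, 0, 0, 0, 0, 0, 0, -111])))) (.drop 14
    (.drop 16 (.leaf [1002, -750, 500, -188, 500, -498, 252, 0, 0, 0, 0, 0, 0, 0, 0, 0, 500])
    (.drop 14 (.leaf [669, -667, 667, 0, 0, 2, 2, 0, 0, 0, 0, 0, 0, 0, 0, 0, 1000]) (.leaf [2,
    250, -1000, 0, -1000, 1002, 752, 0, 0, 0, 0, 0, 0, 0, 0, 0, 1000]))) (.drop 15 (.leaf [502,
    -750, 1000, 250, -750, 502, 2, 0, 0, 0, 0, 0, 0, 0, 0, 0, 250]) (.leaf [2, 250, -1000, 0,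
    -1000, 1002, 752, 0, 0, 0, 0, 0, 0, 0, 0, 0, 1000])))

def c120 : Tree :=
  .drop 10 (.drop 22 (.drop 12 (.drop 19 (c117) (.leaf [1002, 250, -500, 188, -625, 502, 2, 0, 0,
    0, 0, 0, 0, 0, 0, 0, 0])) (.leaf [7462, -6523, 10000, 1807, -4312, 2544, 3, 0, 0, 0, 0, 0, 0,
    4580, 1145, 0, 0])) (.drop 14 (.drop 17 (c118) (.leaf [848, -618, 1000, 134, -375, 156, 139,
    0, 0, 0, 0, 0, 0, 856, 214, 0, 214])) (.leaf [835, -875, 1000, 167, -375, 169, 44, 0, 0, 0,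
    0, 0, 0, 0, 0, 0, 83]))) (.drop 15 (.drop 18 (.drop 19 (c119) (.leaf [859, -857, 1000, 143,
    -286, 145, 2, 0, 0, 0, 0, 0, 0, 0, 0, 0, 0])) (.leaf [2, -200, 400, 350, -1000, 402, 402, 0,
    0, 0, 0, 0, 0, 0, 0, 0, 600])) (.leaf [2, -500, 333, 0, -500, 335, 502, 0, 0, 0, 0, 0, 0, 0,
    0, 0, 1000]))

def c121 : Tree :=
  .drop 23 (.drop 16 (c120) (.leaf [1002, -750, 1000, -125, 0, 2, 252, 0, 0, 0, 0, 0, 0, 0, 0, 0,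
    500])) (.drop 28 (.drop 9 (.drop 23 (.drop 11 (.leaf [1002, -950, 1000, 150, -200, 2, 2, 0,
    0, 0, 0, 0, 0, 0, 0, 0, 0]) (.close (.leaf [-938, -940, -940, -940, -940, -938, -938, -940,
    940, -940, -1000, 668, -732, 940, 940, 940, -940]))) (.close (.leaf [-2009, -2012, -2012,
    -2012, -2012, -2009, -2009, -2012, 503, 1006, -10000, 2111, 4933, 2012, 2012, 2012, -2012])))
    (.leaf [954, -1000, 952, 95, -48, 2, 2, 0, 0, 0, 0, 0, 0, 0, 0, 0, 0])) (.leaf [802, -1000,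
    800, 0, -200, 2, 402, 0, 0, 0, 0, 0, 0, 0, 0, 0, 800]))

def c122 : Tree :=
  .drop 29 (.drop 31 (.leaf [2, 1000, -800, -300, -400, 802, 302, 0, 0, 0, 0, 0, 0, 0, 0, 0,
    600]) (c115)) (.drop 15 (.drop 26 (.drop 12 (.drop 29 (c121) (.leaf [1002, -917, 1000, 83,
    -83, 2, 2, 0, 0, 0, 0, 0, 0, 0, 0, 0, 0])) (.leaf [120, 258, -292, 439, -1000, 446, 126, 0,
    0, 0, 0, 0, 0, 854, 213, 0, 248])) (.leaf [39, 413, -526, 377, -1000, 575, 103, 0, 0, 0, 0,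
    0, 0, 268, 0, 268, 201])) (.leaf [911, 318, -1000, 0, -136, 275, 2, 0, 0, 0, 0, 0, 0, 0, 0,
    0, 0]))

def c123 : Tree :=
  .drop 10 (.drop 16 (.drop 16 (.drop 15 (.leaf [2, 1000, -667, -250, -167, 669, 2, 0, 0, 0, 0,
    0, 0, 0, 0, 0, 0]) (.drop 12 (.leaf [82, 104, -251, -144, -32, 179, 2, 0, 0, 0, 0, 0, 0, 106,
    144, 0, 1000]) (.close (.leaf [-4441, -4444, -4444, -4444, -4444, -4441, -4441, -4444, 2222,
    -4444, -1898, 35, -70, 4444, 4444, 4444, -10000])))) (.leaf [1002, -750, 667, 375, -1000,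
    669, 2, 0, 0, 0, 0, 0, 0, 0, 0, 0, 0])) (.leaf [602, 250, -1000, 25, -200, 402, 2, 0, 0, 0,
    0, 0, 0, 0, 0, 0, 0])) (.drop 13 (.leaf [502, -250, 0, -500, 1000, 2, 2, 0, 0, 0, 0, 0, 0, 0,
    0, 0, 250]) (.close (.leaf [-998, -1000, -1000, -1000, -1000, -998, -998, -1000, -1000,
    -1000, -140, -1000, -16, 1000, 1000, 1000, -1000])))

def c124 : Tree :=
  .drop 15 (.drop 14 (.leaf [1002, -667, 500, -167, 667, -498, 2, 0, 0, 0, 0, 0, 0, 0, 0, 0, 0])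
    (.drop 14 (.leaf [1002, -500, 500, -250, 750, -498, 2, 0, 0, 0, 0, 0, 0, 0, 0, 0, 0]) (.drop
    12 (.drop 9 (.drop 20 (c123) (.leaf [602, 250, -1000, 25, -200, 402, 2, 0, 0, 0, 0, 0, 0, 0,
    0, 0, 0])) (.leaf [2, 250, -333, 375, -1000, 669, 2, 0, 0, 0, 0, 0, 0, 0, 0, 0, 0])) (.leaf
    [2, 500, -667, 417, -1000, 669, 2, 0, 0, 0, 0, 0, 0, 0, 0, 0, 0])))) (.leaf [1002, -750,
    1000, -125, 0, 2, 252, 0, 0, 0, 0, 0, 0, 0, 0, 0, 500])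

def c125 : Tree :=
  .drop 18 (.drop 16 (.leaf [1002, -1000, 1000, 0, 0, 2, 2, 0, 0, 0, 0, 0, 0, 0, 0, 0, 500])
    (.drop 14 (.leaf [1002, 250, 500, -250, 750, -498, 252, 0, 0, 0, 0, 0, 0, 0, 0, 0, -500])
    (.drop 11 (.drop 18 (.leaf [1002, -167, -167, 17, 0, 35, 2, 0, 0, 0, 0, 0, 0, 0, 0, 0, -200])
    (.close (.leaf [-442, -444, -444, -444, -444, -442, -442, -444, 0, 0, -190, 0, 0, 444, 444,
    444, -1000]))) (.close (.leaf [-998, -1000, -1000, -1000, -1000, -998, -998, -1000, -1000, 0,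
    -100, -1000, 0, 1000, 1000, 1000, -1000]))))) (.leaf [2, 429, -429, 429, -1000, 573, 2, 0, 0,
    0, 0, 0, 0, 0, 0, 0, 0])

def c126 : Tree :=
  .drop 18 (.drop 18 (c124) (.drop 16 (.leaf [2, 333, -667, 333, -1000, 669, 2, 0, 0, 0, 0, 0, 0,
    0, 0, 0, 667]) (.leaf [1002, -250, 0, 0, 0, 2, 65, 0, 0, 0, 0, 0, 0, 0, 0, 0, -125]))) (.drop
    18 (c125) (.drop 16 (.leaf [2, 333, -667, 333, -1000, 669, 2, 0, 0, 0, 0, 0, 0, 0, 0, 0,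
    667]) (.drop 11 (.drop 20 (.leaf [1002, -167, -167, 17, 0, 35, 2, 0, 0, 0, 0, 0, 0, 0, 0, 0,
    -200]) (.close (.leaf [-442, -444, -444, -444, -444, -442, -442, -444, 0, 0, -190, -41, 82,
    444, 444, 444, -1000]))) (.close (.leaf [-998, -1000, -1000, -1000, -1000, -998, -998, -1000,
    -1000, 500, -124, -1000, 28, 1000, 1000, 1000, -1000])))))

def c127 : Tree :=
  .drop 15 (.drop 13 (.drop 23 (.drop 14 (.drop 26 (.drop 15 (c126) (.leaf [1002, 0, -500, 31,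
    -187, 252, 2, 0, 0, 0, 0, 0, 0, 0, 0, 0, 0])) (.leaf [1002, -333, 0, 83, -83, 2, 2, 0, 0, 0,
    0, 0, 0, 0, 0, 0, 0])) (.leaf [1002, 125, -500, 141, -469, 377, 2, 0, 0, 0, 0, 0, 0, 0, 0, 0,
    0])) (.leaf [1002, -63, -250, 187, -437, 252, 2, 0, 0, 0, 0, 0, 0, 0, 0, 0, 0])) (.leaf
    [1002, -917, 1000, 83, -83, 2, 2, 0, 0, 0, 0, 0, 0, 0, 0, 0, 0])) (.drop 20 (.leaf [135, 549,
    -783, 327, -1000, 665, 18, 0, 0, 0, 0, 0, 0, 793, 198, 0, 514]) (.leaf [2, 667, -444, 444,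
    -1000, 669, 2, 0, 0, 0, 0, 0, 0, 0, 0, 0, -444]))

def c128 : Tree :=
  .drop 9 (.drop 16 (.leaf [1002, -250, 500, -375, 1000, -498, 2, 0, 0, 0, 0, 0, 0, 0, 0, 0,
    -500]) (.drop 10 (.drop 10 (.drop 18 (.drop 17 (.leaf [2, 0, 1000, 0, -750, 1002, 2, 0, 0, 0,
    0, 0, 0, 0, 0, 0, 0]) (.leaf [2, 875, -500, 125, -375, 502, 2, 0, 0, 0, 0, 0, 0, 0, 0, 0,
    -1000])) (.leaf [2, 667, -667, 417, -1000, 669, 2, 0, 0, 0, 0, 0, 0, 0, 0, 0, -333])) (.leaf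
    [2, 667, -667, 417, -1000, 669, 2, 0, 0, 0, 0, 0, 0, 0, 0, 0, -333])) (.leaf [502, 313,
    -1000, 94, -375, 502, 2, 0, 0, 0, 0, 0, 0, 0, 0, 0, 0]))) (.leaf [1002, -917, 1000, 83, -83,
    2, 2, 0, 0, 0, 0, 0, 0, 0, 0, 0, 0])

def c129 : Tree :=
  .drop 17 (.drop 13 (.leaf [1002, -250, 500, -375, 1000, -498, 2, 0, 0, 0, 0, 0, 0, 0, 0, 0,
    -500]) (.drop 20 (.drop 19 (.drop 11 (.drop 10 (.leaf [2, 0, 1000, 0, -750, 1002, 2, 0, 0, 0,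
    0, 0, 0, 0, 0, 0, 0]) (.leaf [752, 563, -1000, 94, -375, 502, 2, 0, 0, 0, 0, 0, 0, 0, 0, 0,
    -750])) (.leaf [335, 750, -1000, 125, -500, 669, 2, 0, 0, 0, 0, 0, 0, 0, 0, 0, -1000]))
    (.leaf [1002, 0, -167, -83, 250, 2, 2, 0, 0, 0, 0, 0, 0, 0, 0, 0, -667])) (.leaf [547, 273,
    -1000, 45, -273, 457, 2, 0, 0, 0, 0, 0, 0, 0, 0, 0, 0]))) (.drop 21 (.drop 20 (.drop 11
    (.drop 10 (.leaf [2, 1000, -1000, 0, -750, 1002, 2, 0, 0, 0, 0, 0, 0, 0, 0, 0, 0]) (.leaf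
    [752, 563, -1000, 94, -375, 502, 2, 0, 0, 0, 0, 0, 0, 0, 0, 0, -750])) (.leaf [602, -750,
    1000, 225, -600, 402, 2, 0, 0, 0, 0, 0, 0, 0, 0, 0, 0])) (.leaf [547, 455, -1000, 45, -273,
    457, 2, 0, 0, 0, 0, 0, 0, 0, 0, 0, -364])) (.leaf [2, 500, -667, 417, -1000, 669, 2, 0, 0, 0,
    0, 0, 0, 0, 0, 0, 0]))

def c130 : Tree :=
  .drop 14 (.drop 14 (.drop 17 (.leaf [1002, -375, 500, -250, 875, -498, 2, 0, 0, 0, 0, 0, 0, 0,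
    0, 0, -500]) (.drop 23 (c128) (.leaf [1002, -375, 0, 125, -125, 2, 2, 0, 0, 0, 0, 0, 0, 0, 0,
    0, 0]))) (.drop 24 (.drop 9 (c129) (.leaf [1002, -917, 1000, 83, -83, 2, 2, 0, 0, 0, 0, 0, 0,
    0, 0, 0, 0])) (.leaf [1002, -375, 0, 125, -125, 2, 2, 0, 0, 0, 0, 0, 0, 0, 0, 0, 0]))) (.drop
    24 (.drop 10 (.drop 20 (.drop 12 (.leaf [2, 500, 0, 750, -1000, 2, 2, 0, 0, 0, 0, 0, 0, 0, 0,
    0, 0]) (.close (.leaf [-998, -1000, -1000, -1000, -1000, -998, -998, -1000, -1000, -1000,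
    -98, -1000, 26, 1000, 1000, 1000, -1000]))) (.close (.leaf [-59, -61, -61, -61, -61, -59,
    -59, -61, -15, 30, -1000, -254, 498, 61, 61, 61, -61]))) (.leaf [2, 333, -667, 333, -1000,
    669, 169, 0, 0, 0, 0, 0, 0, 0, 0, 0, 333])) (.leaf [2, 333, -667, 333, -1000, 669, 169, 0, 0,
    0, 0, 0, 0, 0, 0, 0, 333]))

def c131 : Tree :=
  .drop 19 (.drop 16 (.leaf [1002, -750, 500, -125, 500, -498, 127, 0, 0, 0, 0, 0, 0, 0, 0, 0,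
    250]) (.drop 16 (.leaf [1002, -750, 500, -125, 500, -498, 127, 0, 0, 0, 0, 0, 0, 0, 0, 0,
    250]) (.drop 17 (.leaf [2, -167, 333, 0, -167, 335, 2, 0, 0, 0, 0, 0, 0, 0, 0, 0, 1000])
    (.leaf [2, -417, 333, -83, -500, 335, 752, 0, 0, 0, 0, 0, 0, 0, 0, 0, 1000])))) (.drop 19
    (.drop 16 (.leaf [1002, -750, 500, -125, 500, -498, 127, 0, 0, 0, 0, 0, 0, 0, 0, 0, 250])
    (.drop 17 (.leaf [2, 333, -667, 333, -1000, 669, 2, 0, 0, 0, 0, 0, 0, 0, 0, 0, 667]) (.leaf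
    [547, 318, -1000, 45, -273, 457, 2, 0, 0, 0, 0, 0, 0, 0, 0, 0, -91]))) (.drop 17 (.leaf [2,
    -167, 333, 167, -500, 335, 2, 0, 0, 0, 0, 0, 0, 0, 0, 0, 1000]) (.leaf [2, 250, 500, 437,
    -1000, 502, 252, 0, 0, 0, 0, 0, 0, 0, 0, 0, -250])))

def c132 : Tree :=
  .drop 19 (.drop 16 (.leaf [1002, -750, 500, -125, 500, -498, 127, 0, 0, 0, 0, 0, 0, 0, 0, 0,
    250]) (.drop 16 (.leaf [1002, -750, 500, -125, 500, -498, 127, 0, 0, 0, 0, 0, 0, 0, 0, 0,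
    250]) (.drop 17 (.leaf [2, -167, 333, 0, -167, 335, 2, 0, 0, 0, 0, 0, 0, 0, 0, 0, 1000])
    (.leaf [547, 318, -1000, 45, -273, 457, 2, 0, 0, 0, 0, 0, 0, 0, 0, 0, -91])))) (.drop 19
    (.drop 16 (.leaf [1002, -750, 500, -125, 500, -498, 127, 0, 0, 0, 0, 0, 0, 0, 0, 0, 250])
    (.drop 17 (.leaf [2, 333, -667, 333, -1000, 669, 2, 0, 0, 0, 0, 0, 0, 0, 0, 0, 667]) (.leaf
    [547, 318, -1000, 45, -273, 457, 2, 0, 0, 0, 0, 0, 0, 0, 0, 0, -91]))) (.drop 17 (.leaf [2,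
    -167, 333, 167, -500, 335, 2, 0, 0, 0, 0, 0, 0, 0, 0, 0, 1000]) (.leaf [2, 250, 500, 438,
    -1000, 502, 252, 0, 0, 0, 0, 0, 0, 0, 0, 0, -250])))

def c133 : Tree :=
  .drop 23 (.drop 11 (c130) (.drop 21 (.drop 17 (c131) (.leaf [802, -700, 1000, 75, -250, 202, 2,
    0, 0, 0, 0, 0, 0, 0, 0, 0, 0])) (.leaf [1002, -250, -500, 250, -750, 502, 252, 0, 0, 0, 0, 0,
    0, 0, 0, 0, 500]))) (.drop 17 (.drop 20 (c132) (.leaf [2, 0, 0, 389, -1000, 446, 224, 0, 0,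
    0, 0, 0, 0, 0, 0, 0, 444])) (.leaf [1002, -167, -500, 42, -83, 169, 2, 0, 0, 0, 0, 0, 0, 0,
    0, 0, 0]))

def c134 : Tree :=
  .drop 22 (c133) (.drop 27 (.drop 10 (.drop 22 (.drop 13 (.leaf [1002, -438, 250, 281, -375, 2,
    2, 0, 0, 0, 0, 0, 0, 0, 0, 0, 0]) (.close (.leaf [-162, -164, -164, -164, -164, -162, -162,
    -1000, 82, -164, -83, 27, -83, 164, 164, 164, -164]))) (.close (.leaf [-998, -1000, -1000,
    -1000, -1000, -998, -998, -1000, 0, 0, -395, 0, 0, 1000, 1000, 1000, -1000]))) (.leaf [2,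
    -294, 706, 353, -1000, 708, 2, 0, 0, 0, 0, 0, 0, 0, 0, 0, 0])) (.leaf [2, 333, -667, 333,
    -1000, 669, 169, 0, 0, 0, 0, 0, 0, 0, 0, 0, 333]))

def c135 : Tree :=
  .drop 20 (.drop 28 (.drop 17 (.drop 14 (.drop 23 (.drop 22 (c134) (.leaf [1002, -62, -250, 63,
    -313, 252, 64, 0, 0, 0, 0, 0, 0, 0, 0, 0, 125])) (.leaf [1002, 250, -500, 188, -625, 502, 2,
    0, 0, 0, 0, 0, 0, 0, 0, 0, 0])) (.leaf [135, 589, -750, 364, -1000, 630, 67, 0, 0, 0, 0, 0,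
    0, 747, 187, 0, 130])) (.leaf [1002, -250, 0, 94, -312, 252, 2, 0, 0, 0, 0, 0, 0, 0, 0, 0,
    0])) (.leaf [44, 488, -505, 427, -1000, 562, 18, 0, 0, 0, 0, 0, 0, 307, 0, 307, 32])) (.leaf
    [1002, 71, -643, -179, 143, 73, 181, 0, 0, 0, 0, 0, 0, 0, 0, 0, 357])

def c136 : Tree :=
  .drop 12 (.drop 9 (.drop 32 (c122) (.leaf [1002, 306, -658, 121, -299, 186, 2, 0, 0, 0, 0, 0,
    0, 788, 197, 0, 0])) (.drop 25 (.drop 24 (.drop 23 (c127) (.leaf [1002, 125, -500, 141, -469,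
    377, 2, 0, 0, 0, 0, 0, 0, 0, 0, 0, 0])) (.leaf [2, 750, 1000, 0, -750, 1002, 252, 0, 0, 0, 0,
    0, 0, 0, 0, 0, 500])) (.leaf [1002, 0, -500, 31, -188, 252, 2, 0, 0, 0, 0, 0, 0, 0, 0, 0,
    0]))) (.drop 34 (c135) (.leaf [1002, -333, 0, 83, -83, 2, 2, 0, 0, 0, 0, 0, 0, 0, 0, 0, 0]))

def c137 : Tree :=
  .drop 3 (.drop 1 (.leaf [140, 101, -269, 63, -207, 236, 2, 0, 0, 0, 0, 0, 0, 1000, 173, 309,
    0]) (c108)) (.drop 4 (.drop 40 (.leaf [1002, 500, -1000, 0, 0, 2, 2, 0, 0, 0, 0, 0, 0, 0, 0,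
    0, 0]) (.drop 29 (c112) (.leaf [1002, 350, -800, 225, -750, 602, 2, 0, 0, 0, 0, 0, 0, 0, 0,
    0, 0]))) (.drop 10 (c136) (.leaf [866, -579, 1000, 90, -221, 138, 2, 0, 0, 0, 0, 0, 0, 583,
    146, 0, 0])))

def c138 : Tree :=
  .drop 42 (.drop 42 (.drop 42 (.drop 43 (.drop 44 (.drop 7 (c73) (c137)) (.leaf [275, 525, -249,
    116, -329, 236, 2, 0, 0, 0, 0, 0, 0, 1000, 319, 703, 0])) (.leaf [275, 525, -249, 116, -329,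
    236, 2, 0, 0, 0, 0, 0, 0, 1000, 319, 703, 0])) (.leaf [275, 525, -249, 116, -329, 236, 2, 0,
    0, 0, 0, 0, 0, 1000, 319, 703, 0])) (.leaf [275, 525, -249, 116, -329, 236, 2, 0, 0, 0, 0, 0,
    0, 1000, 319, 703, 0])) (.leaf [2, 0, 0, -250, 0, 2, 502, 0, 0, 0, 0, 0, 0, 0, 0, 0, 1000])

def c139 : Tree :=
  .drop 41 (.drop 41 (.drop 42 (.drop 42 (.drop 42 (.drop 42 (c138) (.leaf [500, 334, -262, 67,
    -191, 137, 2, 0, 0, 0, 0, 0, 0, 579, 185, 1000, 0])) (.leaf [500, 334, -262, 67, -191, 137,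
    2, 0, 0, 0, 0, 0, 0, 579, 185, 1000, 0])) (.leaf [500, 334, -262, 67, -191, 137, 2, 0, 0, 0,
    0, 0, 0, 579, 185, 1000, 0])) (.leaf [244, 612, -586, 159, -512, 402, 2, 0, 0, 0, 0, 0, 0,
    1000, 438, 0, 0])) (.leaf [1002, -553, 831, 78, -191, 117, 2, 0, 0, 0, 0, 0, 0, 493, 215, 0,
    0])) (.leaf [1002, -553, 831, 78, -191, 117, 2, 0, 0, 0, 0, 0, 0, 493, 215, 0, 0])

def c140 : Tree :=
  .drop 38 (.drop 38 (.drop 38 (.drop 38 (.drop 40 (.drop 40 (c139) (.leaf [576, 118, -198, 0, 0,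
    2, 2, 0, 0, 0, 0, 0, 0, 0, 0, 1000, 0])) (.leaf [576, 118, -198, 0, 0, 2, 2, 0, 0, 0, 0, 0,
    0, 0, 0, 1000, 0])) (.leaf [1002, -582, 680, 69, -130, 64, 2, 0, 0, 0, 0, 0, 0, 265, 190, 0,
    0])) (.leaf [1002, -604, 250, 88, -62, 2, 2, 0, 0, 0, 0, 0, 0, 0, 243, 0, 0])) (.leaf [999,
    -87, -344, 68, -49, 2, 2, 0, 0, 0, 0, 0, 0, 0, 185, 1000, 0])) (.leaf [1002, -618, 219, 92,
    -55, 2, 2, 0, 0, 0, 0, 0, 0, 0, 253, 0, 0])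

def c141 : Tree :=
  .drop 30 (.drop 30 (.drop 31 (.drop 38 (.drop 38 (.drop 38 (c140) (.leaf [1002, -618, 219, 92,
    -55, 2, 2, 0, 0, 0, 0, 0, 0, 0, 253, 0, 0])) (.leaf [1002, -90, -346, 67, -47, 2, 2, 0, 0, 0,
    0, 0, 0, 0, 185, 991, 0])) (.leaf [1002, -465, -406, 11, 101, 2, 87, 0, 0, 0, 0, 0, 0, 0,
    264, 0, 169])) (.leaf [65, 265, -290, 241, -531, 241, 64, 0, 0, 0, 0, 0, 0, 1000, 0, 455,
    125])) (.leaf [184, 386, -543, 204, -584, 420, 2, 0, 0, 0, 0, 0, 0, -161, 80, 1000, 0]))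
    (.leaf [184, 386, -543, 204, -584, 420, 2, 0, 0, 0, 0, 0, 0, -161, 80, 1000, 0])

def c142 : Tree :=
  .drop 24 (.drop 28 (.drop 29 (.drop 29 (.drop 30 (.drop 30 (c141) (.leaf [2, 0, 0, -250, 0, 2,
    502, 0, 0, 0, 0, 0, 0, 0, 0, 0, 1000])) (.leaf [2, 0, 0, 0, 0, 2, 502, 0, 0, 0, 0, 0, 0, 0,
    0, 0, -1000])) (.leaf [2, 0, 0, -250, 0, 2, 502, 0, 0, 0, 0, 0, 0, 0, 0, 0, 1000])) (.leaf
    [2, 0, 0, 0, 0, 2, 502, 0, 0, 0, 0, 0, 0, 0, 0, 0, -1000])) (.leaf [207, 424, -592, 219,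
    -623, 444, 2, 0, 0, 0, 0, 0, 0, -121, 121, 1000, 0])) (.leaf [2, 0, 0, 0, 0, 2, 502, 0, 0, 0,
    0, 0, 0, 0, 0, 0, -1000])

def c143 : Tree :=
  .drop 17 (.drop 17 (.drop 18 (.drop 18 (.drop 18 (.drop 24 (c142) (.leaf [2, 0, 0, -250, 0, 2,
    502, 0, 0, 0, 0, 0, 0, 0, 0, 0, 1000])) (.leaf [445, 807, -995, 364, -950, 621, 2, 0, 0, 0,
    0, 0, 0, 1000, 803, 0, 0])) (.leaf [2, 0, 0, -250, 0, 2, 502, 0, 0, 0, 0, 0, 0, 0, 0, 0,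
    1000])) (.leaf [2, 0, 0, 0, 0, 2, 502, 0, 0, 0, 0, 0, 0, 0, 0, 0, -1000])) (.leaf [2, 0, 0,
    -250, 0, 2, 502, 0, 0, 0, 0, 0, 0, 0, 0, 0, 1000])) (.leaf [2, 0, 0, 0, 0, 2, 502, 0, 0, 0,
    0, 0, 0, 0, 0, 0, -1000])

def c144 : Tree :=
  .drop 8 (.drop 8 (.drop 8 (.drop 16 (.drop 16 (.drop 16 (c143) (.leaf [410, 623, -656, 304,
    -740, 449, 2, 0, 0, 0, 0, 0, 0, 1000, 740, 0, 0])) (.leaf [410, 623, -656, 304, -740, 449, 2,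
    0, 0, 0, 0, 0, 0, 1000, 740, 0, 0])) (.leaf [379, 562, -562, 288, -683, 400, 2, 0, 0, 0, 0,
    0, 0, 1000, 683, 0, 0])) (.leaf [989, -83, -345, 67, -50, 4, 2, 0, 0, 0, 0, 0, 0, -4, 181,
    1000, 0])) (.leaf [989, -83, -345, 67, -50, 4, 2, 0, 0, 0, 0, 0, 0, -4, 181, 1000, 0]))
    (.leaf [1002, -750, 480, 125, -120, 2, 2, 0, 0, 0, 0, 0, 0, 0, 169, 0, 0])

def c145 : Tree :=
  .drop 7 (.drop 7 (.drop 8 (.drop 8 (.drop 8 (.drop 8 (c144) (.leaf [1002, -750, 480, 125, -120,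
    2, 2, 0, 0, 0, 0, 0, 0, 0, 169, 0, 0])) (.leaf [1002, -100, -700, 0, 50, 102, 2, 0, 0, 0, 0,
    0, 0, 0, 0, 0, 0])) (.leaf [1002, -600, 274, 88, -69, 2, 2, 0, 0, 0, 0, 0, 0, 0, 235, 0, 0]))
    (.leaf [1002, -745, 889, 136, -317, 183, 2, 0, 0, 0, 0, 0, 0, 126, 126, 0, 0])) (.leaf [1002,
    94, -429, 0, 0, 2, 2, 0, 0, 0, 0, 0, 0, 0, 0, 795, 0])) (.leaf [1002, 94, -429, 0, 0, 2, 2,
    0, 0, 0, 0, 0, 0, 0, 0, 795, 0])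

def c146 : Tree :=
  .drop 4 (.drop 4 (.drop 4 (.drop 4 (.drop 6 (.drop 6 (c145) (.leaf [1002, -573, 754, 68, -163,
    98, 2, 0, 0, 0, 0, 0, 0, 300, 186, 0, 0])) (.leaf [1002, -573, 754, 68, -163, 98, 2, 0, 0, 0,
    0, 0, 0, 300, 186, 0, 0])) (.leaf [476, 414, -603, 194, -507, 334, 2, 0, 0, 0, 0, 0, 0, 1000,
    333, 0, 0])) (.leaf [1002, 125, -500, 0, 0, 2, 2, 0, 0, 0, 0, 0, 0, 0, 0, 0, 0])) (.leaf [2,
    0, 0, -250, 0, 2, 502, 0, 0, 0, 0, 0, 0, 0, 0, 0, 1000])) (.leaf [311, 63, -107, 0, 0, 2,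
    502, 0, 0, 0, 0, 0, 0, 0, 0, 539, -1000])

/-- The certificate. -/
def tree : Tree :=
  .drop 2 (.drop 4 (.drop 4 (.drop 4 (.drop 4 (c146) (.leaf [1002, -400, 600, 0, 0, 2, 2, 0, 0, 0, 0, 0, 0, 0, 0, 0, 0])) (.leaf [227, 410, -500, 185, -457, 285, 2, 0, 0, 0, 0, 0, 0, 1000, 0, 0, 0])) (.leaf [227, 410, -500, 185, -457, 285, 2, 0, 0, 0, 0, 0, 0, 1000, 0, 0, 0])) (.leaf [1002, 500, 0, 0, 0, 2, 2, 0, 0, 0, 0, 0, 0, 0, 0, 0, 0])) (.leaf [645, 652, -1000, 381, -821, 463, 2, 0, 0, 0, 0, 0, 0, 0, 682, 0, 0])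

theorem check_tree : check tree types [] = true := by decide +kernel

end Cfsg.Lib.U34Type.Cert
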