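import Cfsg.Agent.Lib.U34Type.CoreBot
import Cfsg.Agent.Lib.StrongEmb.ExistsGood
import Cfsg.Agent.Lib.StrongEmb.Core
import Cfsg.Agent.Lib.U34.Unitary
import Cfsg.Agent.Lib.ClassSizePSL.Values
import Cfsg.Agent.Lib.Linear.Mitchell.Sub3.Transvection
import Cfsg.Agent.S0280
import Cfsg.Agent.S1222
import Mathlib.FieldTheory.Finite.GaloisField

/-!
# Simple groups with a Sylow 2-subgroup of the type of `U₃(4)`

The normalizer of the Sylow subgroup is strongly embedded and its Sylow subgroup is regular on the other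
cosets.
-/

set_option autoImplicit false
set_option linter.unusedSectionVars false
set_option linter.style.haveILetI false

namespace Cfsg.Lib.U34Type

open Cfsg Cfsg.Lib MulAction
open Cfsg.Lib.PiHom.U34 (Shape Ct mem_Ct lsub dsub)
open Cfsg.Lib.StrongEmb (kInv invSet)

universe u

variable {G : Type u} [Group G] [Finite G] [IsSimpleGroup G] {S : Sylow 2 G} {E : Subgroup G}

/-- The normalizer of the Sylow subgroup. -/
abbrev NS (S : Sylow 2 G) : Subgroup G := Subgroup.normalizer ((S : Subgroup G) : Set G)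

/-- The standing assumptions. -/
structure Std (S : Sylow 2 G) (E : Subgroup G) : Prop where
  noncomm : ¬ IsMulCommutative G
  weak : Weak (S : Subgroup G) E
  shape : Shape (S : Subgroup G) E

variable (d : Std S E)
include d

theorem cent_le {e : G} (he : e ∈ E) (he1 : e ≠ 1) : Ct e ≤ NS S :=
  Ct_le_normalizer d.weak he he1 inferInstance d.noncomm d.shape

/-- Odd elements centralizing the Sylow subgroup are trivial. -/
theorem eq_one_of_centralizes {x : G} (hx : Odd (orderOf x))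
    (h : ∀ s ∈ (S : Subgroup G), Commute x s) : x = 1 := by
  obtain ⟨a, -, -, ha, -, -, ha1, -⟩ := d.shape.exists_three
  have c := ctx d.weak ha ha1 inferInstance d.noncomm d.shape
  set L := lsub (kc a) S a with hL
  have hxL : x ∈ L := Subgroup.mem_sup_right (c.mem_dsub.2 ⟨hx, h⟩)
  set L' := L.subgroupOf (Ct a)
  haveI : L'.Normal := ⟨fun y hy g => Subgroup.mem_subgroupOf.2 (by
    simpa using c.lsub_conj g.2 (Subgroup.mem_subgroupOf.1 hy))⟩
  have hodd : (Nat.card L').Coprime 2 := by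
    rw [Nat.coprime_two_right, Nat.odd_iff]
    by_contra hev
    haveI : Fact (Nat.Prime 2) := ⟨Nat.prime_two⟩
    obtain ⟨y, hy⟩ := exists_prime_orderOf_dvd_card' (G := L') 2 (by omega)
    have := c.lsub_odd (x := ((y : ↥(Ct a)) : G)) y.2
    rw [Subgroup.orderOf_coe, Subgroup.orderOf_coe, hy] at this
    exact absurd this (by decide)
  have h1 : (⟨x, c.lsub_le hxL⟩ : ↥(Ct a)) ∈ Cfsg.oddCore ↥(Ct a) :=
    Core.le_pPrimeCore (N := L') hodd (Subgroup.mem_subgroupOf.2 hxL)
  have h2 : x ∈ kc a := ⟨_, h1, rfl⟩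
  rwa [kc_eq_bot d.weak ha ha1 inferInstance d.noncomm d.shape, Subgroup.mem_bot] at h2

/-- Odd elements of a centralizer in the normalizer commute with `E`. -/
theorem commute_E {t x : G} (ht : t ∈ E) (ht1 : t ≠ 1) (hx : Odd (orderOf x)) (hxt : x ∈ Ct t) :
    ∀ e ∈ E, Commute x e :=
  fun e he => ((ctx d.weak ht ht1 inferInstance d.noncomm d.shape).odd_fix_E hx
    (cent_le d ht ht1 hxt) hxt e he)

theorem mem_E_of_invol {x : G} (hx : x ∈ NS S) (hx2 : orderOf x = 2) : x ∈ E :=
  d.weak.invol x (PiHom.U34.mem_of_two_power ⟨1, by rw [pow_one]; exact hx2⟩ hx) (Invol.inv_mul_self hx2)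

theorem stronglyEmbedded : IsStronglyEmbedded (NS S) := by
  haveI : Fact (Nat.Prime 2) := ⟨Nat.prime_two⟩
  have htop : NS S ≠ ⊤ := fun h => by
    haveI := Subgroup.normalizer_eq_top_iff.1 h
    rcases (inferInstance : (S : Subgroup G).Normal).eq_bot_or_eq_top with h' | h'
    · have := d.weak.cardS
      rw [h', Subgroup.card_bot] at this
      omega
    · have hc := d.weak.central
      obtain ⟨a, -, -, ha, -, -, ha1, -⟩ := d.shape.exists_three
      have hz : a ∈ Subgroup.center G := Subgroup.mem_center_iff.2 fun g =>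
        (hc a ha g (h' ▸ Subgroup.mem_top g)).eq.symm
      rcases (inferInstance : (Subgroup.center G).Normal).eq_bot_or_eq_top with h'' | h''
      · exact ha1 (Subgroup.mem_bot.1 (h'' ▸ hz))
      · exact d.noncomm ⟨⟨fun x y => Subgroup.mem_center_iff.1 (h'' ▸ Subgroup.mem_top y) x⟩⟩
  have heven : Even (Nat.card (NS S)) := by
    rw [even_iff_two_dvd]
    exact dvd_trans (by rw [d.weak.cardS]; norm_num)
      (Subgroup.card_dvd_of_le (Subgroup.le_normalizer (H := (S : Subgroup G))))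
  refine (Invol.stronglyEmbedded_iff htop heven).2 fun t ht ht2 g hg => ?_
  have htE := mem_E_of_invol d ht ht2
  have hgE := mem_E_of_invol d hg (by rw [Invol.orderOf_conj_eq, ht2])
  obtain ⟨n, hn, hne⟩ := d.shape.trans t htE _ hgE (Invol.ne_one ht2)
    (fun h => Invol.ne_one ht2 (conj_eq_one_iff.1 h))
  have h1 : n⁻¹ * g ∈ Ct t := mem_Ct.2 (by
    show n⁻¹ * g * t = t * (n⁻¹ * g)
    calc n⁻¹ * g * t = n⁻¹ * (g * t * g⁻¹) * g := by group
      _ = n⁻¹ * (n * t * n⁻¹) * g := by rw [hne]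
      _ = t * (n⁻¹ * g) := by group)
  have h2 := mul_mem hn (cent_le d htE (Invol.ne_one ht2) h1)
  rwa [mul_inv_cancel_left] at h2

theorem kInv_eq : kInv (NS S) = 3 := by
  classical
  haveI := Fintype.ofFinite G
  obtain ⟨a, b, c, ha, hb, hc, ha1, hb1, hc1, hab, hac, hbc, hall⟩ := d.shape.exists_three
  rw [kInv, Nat.card_eq_fintype_card, Fintype.card_subtype]
  have : (Finset.univ.filter fun x : G => orderOf x = 2 ∧ x ∈ NS S) = {a, b, c} := by
    ext x
    simp only [Finset.mem_filter, Finset.mem_univ, true_and, Finset.mem_insert, Finset.mem_singleton]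
    constructor
    · rintro ⟨h2, hx⟩
      exact (hall x (mem_E_of_invol d hx h2)).resolve_left (Invol.ne_one h2)
    · rintro (rfl | rfl | rfl)
      exacts [⟨d.weak.orderOf_two ha ha1, Subgroup.le_normalizer (d.weak.le ha)⟩,
        ⟨d.weak.orderOf_two hb hb1, Subgroup.le_normalizer (d.weak.le hb)⟩,
        ⟨d.weak.orderOf_two hc hc1, Subgroup.le_normalizer (d.weak.le hc)⟩]
  rw [this, Finset.card_insert_of_notMem (by simp [hab, hac]), Finset.card_pair hbc]

theorem four : ∃ s t : G, s ∈ NS S ∧ t ∈ NS S ∧ orderOf s = 2 ∧ orderOf t = 2 ∧ s ≠ t ∧ Commute s t := by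
  obtain ⟨a, b, -, ha, hb, -, ha1, hb1, -, hab, -⟩ := d.shape.exists_three
  exact ⟨a, b, Subgroup.le_normalizer (d.weak.le ha), Subgroup.le_normalizer (d.weak.le hb),
    d.weak.orderOf_two ha ha1, d.weak.orderOf_two hb hb1, hab, d.weak.central a ha b (d.weak.le hb)⟩

/-- The centralizer of an involution of `E` has order `64` or `320`. -/
theorem card_cent {t : G} (ht : t ∈ E) (ht1 : t ≠ 1) : Nat.card (Ct t) = 64 ∨ Nat.card (Ct t) = 320 := by
  haveI : Fact (Nat.Prime 2) := ⟨Nat.prime_two⟩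
  have hK := cent_le d ht ht1
  have hS := le_Ct d.weak ht ht1
  set T := S.subtype hS
  have hT : Nat.card (T : Subgroup ↥(Ct t)) = 64 := by
    rw [Sylow.coe_subtype]
    exact (Nat.card_congr (Subgroup.subgroupOfEquivOfLe hS).toEquiv).trans d.weak.cardS
  set m := (T : Subgroup ↥(Ct t)).index with hm
  have hm2 : ¬ 2 ∣ m := T.not_dvd_index
  have hcard : Nat.card (Ct t) = 64 * m := by
    rw [hm, ← hT]; exact ((T : Subgroup ↥(Ct t)).card_mul_index).symm
  have hfive : ∀ x ∈ Ct t, Odd (orderOf x) → x ^ 5 = 1 ∧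
      (x ≠ 1 → ∀ y ∈ (S : Subgroup G), Commute x y → y ∈ E) := by
    intro x hx ho
    obtain ⟨h1, h2⟩ := d.shape.odd_action ho (hK hx) (commute_E d ht ht1 ho hx)
    refine ⟨eq_one_of_centralizes d (ho.of_dvd_nat (orderOf_pow_dvd 5)) h1, fun hne y hy hc => ?_⟩
    rcases h2 with h2 | h2
    · exact absurd (eq_one_of_centralizes d ho h2) hne
    · exact h2 y hy hc
  haveI : Fact (Nat.Prime 5) := ⟨by norm_num⟩
  have hprime : ∀ p : ℕ, p.Prime → p ∣ m → p = 5 := by
    intro p hp hpm
    haveI := Fact.mk hp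
    obtain ⟨x, hx⟩ := exists_prime_orderOf_dvd_card' (G := ↥(Ct t)) p (hcard ▸ hpm.mul_left 64)
    have ho : Odd (orderOf (x : G)) := by
      rw [Subgroup.orderOf_coe, hx]
      exact hp.odd_of_ne_two fun e => hm2 (e ▸ hpm)
    have h5 := orderOf_dvd_of_pow_eq_one (hfive x x.2 ho).1
    rw [Subgroup.orderOf_coe, hx] at h5
    exact (Nat.prime_dvd_prime_iff_eq hp (by norm_num)).1 h5
  have hm0 : m ≠ 0 := Subgroup.index_ne_zero_of_finite
  have hma : m = 5 ^ m.primeFactorsList.length :=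
    Nat.eq_prime_pow_of_unique_prime_dvd hm0 fun {p} hp hpm => hprime p hp hpm
  set a := m.primeFactorsList.length
  obtain ⟨Q, hQ⟩ := Sylow.exists_subgroup_card_pow_prime (G := ↥(Ct t)) 5 (n := a)
    (hcard ▸ hma ▸ dvd_mul_left _ _)
  -- `Q` is semiregular outside `E`
  let X := {y : G // y ∈ (S : Subgroup G) ∧ y ∉ E}
  have hconj : ∀ g : ↥(Ct t), ∀ y : G, y ∈ (S : Subgroup G) ∧ y ∉ E →
      (g : G) * y * (g : G)⁻¹ ∈ (S : Subgroup G) ∧ (g : G) * y * (g : G)⁻¹ ∉ E := by
    intro g y hy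
    refine ⟨(Subgroup.mem_normalizer_iff.1 (hK g.2) y).1 hy.1, fun h => hy.2 (d.weak.invol y hy.1 ?_)⟩
    have h2 := d.weak.esq _ h
    rw [show (g : G) * y * (g : G)⁻¹ * ((g : G) * y * (g : G)⁻¹) = (g : G) * (y * y) * (g : G)⁻¹ by group]
      at h2
    exact conj_eq_one_iff.1 h2
  letI : MulAction Q X :=
    { smul := fun g y => ⟨(g : ↥(Ct t)) * y.1 * ((g : ↥(Ct t)) : G)⁻¹, hconj g y.1 y.2⟩
      one_smul := fun y => Subtype.ext (by
        show ((1 : ↥(Ct t)) : G) * y.1 * ((1 : ↥(Ct t)) : G)⁻¹ = y.1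
        simp)
      mul_smul := fun g h y => Subtype.ext (by
        show ((g * h : Q) : ↥(Ct t)) * y.1 * (((g * h : Q) : ↥(Ct t)) : G)⁻¹ =
          ((g : ↥(Ct t)) : G) * (((h : ↥(Ct t)) : G) * y.1 * ((h : ↥(Ct t)) : G)⁻¹) * ((g : ↥(Ct t)) : G)⁻¹
        simp [mul_assoc]) }
  have hfree : ∀ y : X, stabilizer Q y = ⊥ := by
    refine fun y => (Subgroup.eq_bot_iff_forall _).2 fun g hg => by_contra fun hne => y.2.2 ?_
    have ho : Odd (orderOf ((g : ↥(Ct t)) : G)) := by
      refine Odd.of_dvd_nat (show Odd (5 ^ a) from Odd.pow (by decide)) ?_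
      rw [Subgroup.orderOf_coe, Subgroup.orderOf_coe, ← hQ]
      exact orderOf_dvd_natCard g
    refine (hfive _ (g : ↥(Ct t)).2 ho).2 (fun h => hne (Subtype.ext (Subtype.ext h))) _ y.2.1 ?_
    exact mul_inv_eq_iff_eq_mul.1 (congrArg Subtype.val (mem_stabilizer_iff.1 hg))
  have h60 : Nat.card X = 60 := by
    have h1 : Set.ncard (((S : Subgroup G) : Set G) \ (E : Set G)) = 60 := by
      rw [Set.ncard_sdiff (fun x hx => d.weak.le hx) (Set.toFinite _), ← Nat.card_coe_set_eq,
        ← Nat.card_coe_set_eq, show Nat.card ((S : Subgroup G) : Set G) = 64 from d.weak.cardS,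
        show Nat.card (E : Set G) = 4 from d.weak.cardE]
    rw [← Nat.card_coe_set_eq] at h1
    exact h1
  have hdvd : 5 ^ a ∣ 60 := by
    rw [← h60, Nat.card_congr (selfEquivOrbitsQuotientProd hfree), Nat.card_prod, hQ]
    exact dvd_mul_left _ _
  have ha : a ≤ 1 := by
    by_contra h
    exact absurd ((pow_dvd_pow 5 (not_le.1 h)).trans hdvd) (by norm_num)
  rw [hcard, hma]
  interval_cases a <;> norm_num

theorem card_NS : Nat.card (NS S) = 192 ∨ Nat.card (NS S) = 960 := by
  obtain ⟨a, -, -, ha, -, -, ha1, -⟩ := d.shape.exists_three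
  have hle := cent_le d ha ha1
  have h := StrongEmb.kInv_eq_index (stronglyEmbedded d) (Subgroup.le_normalizer (d.weak.le ha))
    (d.weak.orderOf_two ha ha1)
  rw [kInv_eq d] at h
  have h2 := ((Ct a).subgroupOf (NS S)).card_mul_index
  rw [← h, Nat.card_congr (Subgroup.subgroupOfEquivOfLe hle).toEquiv] at h2
  rcases card_cent d ha ha1 with h3 | h3 <;> rw [h3] at h2 <;> omega

/-- A group of order `308160` is not simple. -/
theorem not_simple_card (h : Nat.card G = 308160) : False := by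
  haveI : Fact (Nat.Prime 107) := ⟨by norm_num⟩
  obtain ⟨P⟩ : Nonempty (Sylow 107 G) := inferInstance
  have hP : Nat.card (P : Subgroup G) = 107 := by
    rw [Sylow.card_eq_multiplicity, h, show (308160 : ℕ) = 107 * 2880 by norm_num,
      Nat.factorization_mul (by norm_num) (by norm_num), Finsupp.add_apply,
      Nat.Prime.factorization_self (by norm_num), Nat.factorization_eq_zero_of_not_dvd (by norm_num)]
    norm_num
  have hmod := card_sylow_modEq_one 107 G
  have hd : Nat.card (Sylow 107 G) ∣ 2880 := by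
    have h1 := (P : Subgroup G).card_mul_index
    rw [hP, h] at h1
    have h2 : (P : Subgroup G).index = 2880 := by omega
    exact h2 ▸ Sylow.card_dvd_index P
  have h1 : Nat.card (Sylow 107 G) = 1 := by
    have := Nat.mem_divisors.2 ⟨hd, by norm_num⟩
    revert hmod
    generalize Nat.card (Sylow 107 G) = n at this ⊢
    revert n
    unfold Nat.ModEq
    decide +kernel
  haveI : Subsingleton (Sylow 107 G) := (Nat.card_eq_one_iff_unique.1 h1).1
  haveI := P.normal_of_subsingleton
  rcases (inferInstance : (P : Subgroup G).Normal).eq_bot_or_eq_top with h' | h'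
  · rw [h', Subgroup.card_bot] at hP; omega
  · rw [h', Subgroup.card_top, h] at hP; omega

/-- The data of the action on the cosets. -/
theorem index_eq : (NS S).index = 65 ∧
    ∀ (g : G), g ∉ NS S → ∀ u ∈ (S : Subgroup G), g⁻¹ * (u * g) ∈ NS S → u = 1 := by
  haveI : Fact (Nat.Prime 2) := ⟨Nat.prime_two⟩
  set H := NS S with hH
  have hse := stronglyEmbedded d
  set base : G ⧸ H := QuotientGroup.mk 1
  have hstab : stabilizer G base = H := by
    ext g; rw [mem_stabilizer_iff, Invol.smul_coset_one_eq]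
  have hreg : ∀ b : G ⧸ H, b ≠ base → ∀ u ∈ (S : Subgroup G), u • b = b → u = 1 := by
    intro b hb u hu hub
    have hodd := StrongEmb.odd_two hse hb.symm
    obtain ⟨k, hk⟩ := S.2 ⟨u, hu⟩
    refine PiHom.U34.eq_one_of_odd_two (hodd.of_dvd_nat (Subgroup.orderOf_dvd_natCard _
      (Subgroup.mem_inf.2 ⟨?_, mem_stabilizer_iff.2 hub⟩))) (congrArg Subtype.val hk)
    rw [hstab]; exact Subgroup.le_normalizer hu
  refine ⟨?_, fun g hg u hu h => hreg (QuotientGroup.mk g) (fun e => hg ?_) u hu ?_⟩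
  rotate_left
  · have := QuotientGroup.eq.1 e
    simpa using inv_mem this
  · rw [Invol.smul_coset_eq_iff]; rwa [mul_assoc]
  obtain ⟨b, hb⟩ := StrongEmb.exists_ne hse base
  obtain ⟨w, hw, hwb⟩ := StrongEmb.exists_swapper hse (a := base) (b := b) hb.symm
  set D := stabilizer G base ⊓ stabilizer G b with hD
  have hodd : Odd (Nat.card D) := StrongEmb.odd_two hse hb.symm
  have h3 : 3 ∣ Nat.card D := by
    rw [← kInv_eq d, ← StrongEmb.ncard_invSet_two hse hb.symm hw hwb,
      StrongEmb.ncard_invSet hw (StrongEmb.swapper_norm hw hwb) hodd]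
    exact Subgroup.index_dvd_card _
  -- the other cosets form one orbit of `H`
  have horb : Nat.card (orbit H b) = H.index - 1 := by
    have he : orbit H b = ({base}ᶜ : Set (G ⧸ H)) := by
      ext c
      constructor
      · rintro ⟨h, rfl⟩ e
        refine hb ?_
        have h2 : (h : G) • base = base := Invol.smul_coset_one_eq.2 h.2
        exact MulAction.injective (h : G) ((Set.mem_singleton_iff.1 e).trans h2.symm)
      · intro hc
        obtain ⟨g, hg1, hg2⟩ := StrongEmb.pretransitive_of_four hse (four d) hb.symm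
          (show base ≠ c from fun e => hc e.symm)
        exact ⟨⟨g, Invol.smul_coset_one_eq.1 hg1⟩, hg2⟩
    rw [he, Nat.card_coe_set_eq, Set.ncard_compl, Set.ncard_singleton, Subgroup.index_eq_card]
  have hprod : (H.index - 1) * Nat.card D = Nat.card H := by
    have h1 := (stabilizer H b).card_mul_index
    rw [index_stabilizer, ← Nat.card_coe_set_eq, horb] at h1
    rw [← h1, mul_comm]
    congr 1
    refine Nat.card_congr
      { toFun := fun x => ⟨⟨x.1, hstab ▸ x.2.1⟩, x.2.2⟩
        invFun := fun x => ⟨x.1.1, Subgroup.mem_inf.2 ⟨hstab.symm ▸ x.1.2, x.2⟩⟩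
        left_inv := fun _ => rfl
        right_inv := fun _ => rfl }
  have h64 : 64 ∣ H.index - 1 := by
    have h1 : Nat.card (S : Subgroup G) ∣ Nat.card H := Subgroup.card_dvd_of_le Subgroup.le_normalizer
    rw [d.weak.cardS, ← hprod, show (64 : ℕ) = 2 ^ 6 by norm_num] at h1
    exact (Nat.Coprime.pow_left 6 (Nat.coprime_two_left.2 hodd)).dvd_of_dvd_mul_right h1
  obtain ⟨j, hj⟩ := h64
  obtain ⟨i, hi⟩ := h3
  rw [hj, hi] at hprod
  have hpos : 0 < H.index := Nat.pos_of_ne_zero Subgroup.index_ne_zero_of_finite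
  rcases card_NS d with h | h
  · rw [hH, h] at hprod
    have : j * i = 1 := by nlinarith
    have := (mul_eq_one.1 this).1
    omega
  · rw [hH, h] at hprod
    have hji : j * i = 5 := by nlinarith
    rcases (Nat.dvd_prime (by norm_num : Nat.Prime 5)).1 (Dvd.intro i hji) with rfl | rfl
    · omega
    · exfalso
      refine not_simple_card d ?_
      rw [← H.card_mul_index, hH, h, show H.index = 321 by omega]

theorem regular : ∀ g₁ g₂ : G, g₁ ∉ NS S → g₂ ∉ NS S →
    ∃ u ∈ (S : Subgroup G), g₂⁻¹ * (u * g₁) ∈ NS S := by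
  classical
  intro g₁ g₂ h1 h2
  obtain ⟨hidx, hreg⟩ := index_eq d
  set H := NS S
  let base : G ⧸ H := QuotientGroup.mk 1
  let f : ↥(S : Subgroup G) → ({base}ᶜ : Set (G ⧸ H)) := fun u => ⟨(u : G) • QuotientGroup.mk g₁, fun e => h1 (by
    have e' := QuotientGroup.eq.1 (Set.mem_singleton_iff.1 e)
    have e2 : (u : G) * g₁ ∈ H := by simpa using inv_mem e'
    have := mul_mem (inv_mem (Subgroup.le_normalizer u.2 : (u : G) ∈ H)) e2
    rwa [inv_mul_cancel_left] at this)⟩
  have hinj : Function.Injective f := by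
    intro u v e
    have e' := QuotientGroup.eq.1 (congrArg Subtype.val e)
    simp only [smul_eq_mul, mul_inv_rev] at e'
    refine Subtype.ext (inv_mul_eq_one.1 (hreg g₁ h1 _ (mul_mem (inv_mem u.2) v.2) ?_))
    simpa [mul_assoc] using e'
  have hcard : Nat.card ({base}ᶜ : Set (G ⧸ H)) ≤ Nat.card (S : Subgroup G) := by
    rw [Nat.card_coe_set_eq, Set.ncard_compl, Set.ncard_singleton, ← Subgroup.index_eq_card, hidx,
      d.weak.cardS]
  obtain ⟨u, hu⟩ := (Function.Injective.bijective_of_nat_card_le hinj hcard).2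
    ⟨QuotientGroup.mk g₂, fun e => h2 (by simpa using inv_mem (QuotientGroup.eq.1 (Set.mem_singleton_iff.1 e)))⟩
  refine ⟨u, u.2, ?_⟩
  exact QuotientGroup.eq.1 (congrArg Subtype.val hu).symm

theorem card_G : Nat.card G = 12480 ∨ Nat.card G = 62400 := by
  have h := (NS S).card_mul_index
  rw [(index_eq d).1] at h
  rcases card_NS d with h' | h' <;> rw [h'] at h <;> omega

/-- The simple group is the unitary group. -/
theorem iso_psu {F : Type*} [Field F] [Fintype F] (hF : Fintype.card F = 16) :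
    Nonempty (G ≃* Cfsg.PSU 3 F 4) := by
  rcases Cfsg.Agent.S1222.result (NS S) (stronglyEmbedded d) (S : Subgroup G) Subgroup.le_normalizer
    Subgroup.normal_in_normalizer (regular d) (index_eq d).2 with
    ⟨K, hK1, hK2, hchar, h4, ⟨e⟩⟩ | ⟨-, m, hm, hcard⟩ | ⟨K, hK1, hK2, q, hq, hev, h4, ⟨e⟩⟩
  · exfalso
    obtain ⟨n, -, hn⟩ := FiniteField.card K 2
    have hG := card_G d
    have hcard := ClassSizePSL.card_psl_even (F := K) (hn ▸ dvd_pow_self 2 n.pos.ne')
    rw [Nat.card_congr e.toEquiv, hcard, hn] at hG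
    have hn6 : (n : ℕ) < 6 := by
      by_contra h
      have h64 : 2 ^ 6 ≤ 2 ^ (n : ℕ) := Nat.pow_le_pow_right two_pos (not_lt.1 h)
      have : 64 * (63 * 65) ≤ 2 ^ (n : ℕ) * ((2 ^ (n : ℕ) - 1) * (2 ^ (n : ℕ) + 1)) :=
        Nat.mul_le_mul h64 (Nat.mul_le_mul (by omega) (by omega))
      omega
    interval_cases hm : (n : ℕ) <;> omega
  · exfalso
    have hG := card_G d
    rw [hcard] at hG
    by_cases h1 : m = 1
    · subst h1; omega
    · have h32 : 2 ^ 5 ≤ 2 ^ (2 * m + 1) := Nat.pow_le_pow_right two_pos (by omega)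
      have : 32 ^ 2 * (32 ^ 2 + 1) * 31 ≤
          (2 ^ (2 * m + 1)) ^ 2 * ((2 ^ (2 * m + 1)) ^ 2 + 1) * (2 ^ (2 * m + 1) - 1) :=
        Nat.mul_le_mul (Nat.mul_le_mul (Nat.pow_le_pow_left h32 2)
          (Nat.add_le_add_right (Nat.pow_le_pow_left h32 2) 1)) (by omega)
      omega
  · have hG := card_G d
    have hc := Cfsg.Agent.S0280.result (F := K) (q := q) hq 3 (by norm_num)
    rw [← Nat.card_congr e.toEquiv] at hc
    simp [Finset.prod_range_succ] at hc
    have hq4 : q = 4 := by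
      have h3 : Nat.gcd 3 (q + 1) ≤ 3 := Nat.le_of_dvd (by norm_num) (Nat.gcd_dvd_left _ _)
      have hg0 : 0 < Nat.gcd 3 (q + 1) := Nat.gcd_pos_of_pos_left _ (by norm_num)
      by_contra hne
      have h6 : 6 ≤ q := by obtain ⟨r, rfl⟩ := hev; omega
      have hup : Nat.gcd 3 (q + 1) * ((q + 1) * Nat.card G) ≤ 3 * ((q + 1) * 62400) :=
        Nat.mul_le_mul h3 (Nat.mul_le_mul le_rfl (by omega))
      rw [hc] at hup
      have hq2 : q ^ 2 ≥ 36 := Nat.pow_le_pow_left h6 2
      have hlow : q ^ 3 * ((q + 1) * (35 * 217)) ≤ q ^ 3 * ((q + 1) * (q ^ 2 - 1) * (q ^ 3 + 1)) := by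
        refine Nat.mul_le_mul le_rfl ?_
        rw [mul_assoc]
        refine Nat.mul_le_mul le_rfl (Nat.mul_le_mul (by omega) ?_)
        have : 6 ^ 3 ≤ q ^ 3 := Nat.pow_le_pow_left h6 3
        omega
      have h216 : 6 ^ 3 ≤ q ^ 3 := Nat.pow_le_pow_left h6 3
      have : 6 ^ 3 * ((q + 1) * (35 * 217)) ≤ q ^ 3 * ((q + 1) * (35 * 217)) :=
        Nat.mul_le_mul_right _ h216
      nlinarith
    subst hq4
    have hK : Fintype.card K = Fintype.card F := by rw [hq, hF]; norm_num
    exact ⟨e.trans (Linear.Mitchell.Sub3.psuCongr 3 4 (FiniteField.ringEquivOfCardEq hK))⟩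

end Cfsg.Lib.U34Type
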