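import Cfsg.Agent.Lib.PiHom.U34.FiveFinal

/-!
# The Galois action on the rows

An exponent congruent to one away from five and to two modulo five permutes the basic generalized
characters indexed by `ZMod 5` by doubling and fixes the remaining one.
-/

set_option autoImplicit false
set_option linter.unusedSectionVars false
set_option linter.style.haveILetI false

namespace Cfsg.Lib.U34Type

open Cfsg Cfsg.Lib Cfsg.Lib.Block Cfsg.Lib.PiHom.U34
open scoped ComplexConjugate Classical

universe u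

variable {G : Type u} [Group G] [Fintype G] {Kc : Subgroup G}
variable {S : Sylow 2 G} {E : Subgroup G} {t g : G}

theorem theta_pow_mod (f : Five Kc S E t g) {a : ℂ} {f2 : ZMod 5 → ℂ} {j : ℕ} (h4 : j ≡ 1 [MOD 4])
    (x : G) :
    theta Kc S t g (fun _ => a) f2 (x ^ j) =
      theta Kc S t g (fun _ => a) (fun k => f2 ((j : ZMod 5) * k)) x := by
  have hi := f.inv_const a f2
  have hi' := f.inv_const a (fun k => f2 ((j : ZMod 5) * k))
  have hp : pPt 2 x ^ j = pPt 2 x := by
    conv_rhs => rw [← pow_one (pPt 2 x)]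
    rw [pow_eq_pow_iff_modEq]
    rcases f.toCtx.order_cases (exists_orderOf_pPt (p := 2) x) with h | h | h
    · rw [h, orderOf_one]; exact Nat.modEq_one
    · rw [h]; exact h4.of_dvd (by norm_num)
    · rw [h]; exact h4
  have hP : pPt 2 (x ^ j) = pPt 2 x := by
    obtain ⟨k, hk⟩ := exists_orderOf_pPt (p := 2) x
    refine (eq_pPt (y := pReg 2 x ^ j) ?_ ?_ hk ?_).symm
    · conv_lhs => rw [← hp, ← (pPt_commute_pReg x).mul_pow, pPt_mul_pReg]
    · exact (pPt_commute_pReg x).pow_right j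
    · exact fun h => not_dvd_orderOf_pReg x (h.trans (orderOf_pow_dvd j))
  have hR : pReg 2 (x ^ j) = pReg 2 x ^ j := by
    refine mul_left_cancel (a := pPt 2 (x ^ j)) ?_
    rw [pPt_mul_pReg, hP]
    conv_rhs => rw [← hp, ← (pPt_commute_pReg x).mul_pow, pPt_mul_pReg]
  rcases f.toCtx.order_cases (exists_orderOf_pPt (p := 2) x) with h | h | h
  · rw [f.toCtx.theta_one (hP.trans h), f.toCtx.theta_one h]
  · obtain ⟨y, hy⟩ := f.toCtx.exists_conj_t h
    rw [f.toCtx.theta_two hi (x := x ^ j) (y := y) (by rw [hP]; exact hy), f.toCtx.theta_two hi' hy,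
      hR, ← conj_pow]
    congr 1
    have hr : y * pReg 2 x * y⁻¹ ∈ Ct t := mem_Ct.2 (by
      have := ((pPt_commute_pReg (p := 2) x).symm).map (MulAut.conj y).toMonoidHom
      simp only [MulEquiv.toMonoidHom_eq_coe, MonoidHom.coe_coe, MulAut.conj_apply] at this
      rwa [hy] at this)
    have key : ∀ n : ℕ, kidx Kc S t g ((y * pReg 2 x * y⁻¹) ^ n) =
        n * kidx Kc S t g (y * pReg 2 x * y⁻¹) := by
      intro n
      induction n with
      | zero => rw [pow_zero, f.kidx_lsub (one_mem _)]; simp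
      | succ n ih => rw [pow_succ, f.kidx_mul (pow_mem hr n) hr, ih]; push_cast; ring
    rw [key]
  · obtain ⟨y, hy⟩ := f.toCtx.exists_conj_mem (exists_orderOf_pPt (p := 2) x)
    rw [f.toCtx.theta_four hi (x := x ^ j) (y := y) (by rw [hP]; exact h) (by rw [hP]; exact hy),
      f.toCtx.theta_four hi' h hy]

/-- The exponent of the Galois twist. -/
theorem exists_exponent (G : Type u) [Group G] [Finite G] :
    ∃ j : ℕ, j.Coprime (Nat.card G) ∧ j ≡ 1 [MOD 4] ∧ (j : ZMod 5) = 2 := by
  set N := 20 * Nat.card G with hN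
  have hN0 : N ≠ 0 := Nat.mul_ne_zero (by norm_num) Nat.card_pos.ne'
  set A := ordProj[5] N
  set B := ordCompl[5] N
  have hAB : A * B = N := Nat.ordProj_mul_ordCompl_eq_self N 5
  have h5 : Nat.Prime 5 := by norm_num
  have hco : A.Coprime B := (Nat.coprime_ordCompl h5 hN0).pow_left _
  obtain ⟨j, hjA, hjB⟩ := Nat.chineseRemainder hco 2 1
  have h5A : 5 ∣ A := dvd_pow_self 5 (h5.factorization_pos_of_dvd hN0 (Dvd.intro (4 * Nat.card G)
    (by rw [hN]; ring))).ne'
  have hj5 : (j : ZMod 5) = 2 := by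
    have := (ZMod.natCast_eq_natCast_iff j 2 5).2 (hjA.of_dvd h5A)
    simpa using this
  refine ⟨j, Nat.coprime_of_dvd fun q hq hqj hqG => ?_, hjB.of_dvd ?_, hj5⟩
  · rcases hq.dvd_mul.1 ((hAB.symm ▸ hqG.mul_left 20 : q ∣ A * B)) with h | h
    · have h1 : q = 5 := (Nat.prime_dvd_prime_iff_eq hq h5).1 (hq.dvd_of_dvd_pow h)
      subst h1
      rw [(ZMod.natCast_eq_zero_iff j 5).2 hqj] at hj5
      exact absurd hj5 (by decide)
    · exact hq.not_dvd_one (Nat.modEq_zero_iff_dvd.1
        (((hjB.of_dvd h).symm.trans (Nat.modEq_zero_iff_dvd.2 hqj))))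
  · have hc : Nat.Coprime 4 A := by
      refine Nat.Coprime.pow_right _ ?_
      norm_num
    exact hc.dvd_of_dvd_mul_left (hAB.symm ▸ Dvd.intro (5 * Nat.card G) (by rw [hN]; ring))

variable (f : Five Kc S E t g)
include f

theorem classInner_pow_theta {a : ℂ} {f2 : ZMod 5 → ℂ} {j : ℕ} (hj : j.Coprime (Nat.card G))
    (h4 : j ≡ 1 [MOD 4]) (χ : G → ℂ) :
    classInner (theta Kc S t g (fun _ => a) (fun k => f2 ((j : ZMod 5) * k))) (fun x => χ (x ^ j)) =
      classInner (theta Kc S t g (fun _ => a) f2) χ := by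
  simp only [classInner]
  congr 1
  exact Fintype.sum_bijective _ (Char.powBij_of_coprime hj) _ _ fun x => by
    rw [theta_pow_mod f h4 x]

/-- The twisted inner products. -/
theorem classInner_twist {j : ℕ} (hj : j.Coprime (Nat.card G)) (h4 : j ≡ 1 [MOD 4])
    (hj5 : (j : ZMod 5) = 2) (χ : G → ℂ) :
    classInner f.alphaF (fun x => χ (x ^ j)) = classInner f.alphaF χ ∧
      ∀ i, classInner (f.betaF (2 * i)) (fun x => χ (x ^ j)) = classInner (f.betaF i) χ := by
  refine ⟨classInner_pow_theta f (a := 16) (f2 := fun _ => 0) hj h4 χ, fun i => ?_⟩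
  rw [Five.betaF, Five.betaF, ← classInner_pow_theta f (a := 4)
    (f2 := fun k => 4 * (psi i k - ∑ m, psi m k)) hj h4 χ]
  congr 2
  funext k
  rw [hj5]
  have h1 : ∀ m : ZMod 5, psi m (2 * k) = psi (2 * m) k := fun m => by
    simp only [psi]; congr 1; ring
  rw [h1]
  congr 2
  refine (Fintype.sum_bijective (fun m => 2 * m) ?_ _ _ fun m => h1 m).symm
  decide

end Cfsg.Lib.U34Type
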