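import Cfsg.Agent.Lib.U34Type.Simple
import Cfsg.Agent.Lib.Walter3.OutBound
import Cfsg.Agent.Lib.CompositeOrder.Simple
import Cfsg.Agent.Lib.Group.MinimalNormalFactor
import Cfsg.Agent.S0516

/-!
# Groups with a Sylow 2-subgroup of the type of `U₃(4)`, without core and without odd quotient
-/

set_option autoImplicit false
set_option linter.unusedSectionVars false
set_option linter.style.haveILetI false

namespace Cfsg.Lib.U34Type

open Cfsg Cfsg.Lib
open Cfsg.Lib.Group.MinFactor (Factor exists_minimal_normal exists_factor)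

universe u v

variable {G : Type u} [Group G] [Finite G]

/-- The weak shape, without simplicity. -/
theorem exists_weak (S : Sylow 2 G) {F : Type v} [Field F] [Fintype F] (hF : Fintype.card F = 16)
    (P : Sylow 2 (Cfsg.PSU 3 F 4)) (e : (S : Subgroup G) ≃* (P : Subgroup (Cfsg.PSU 3 F 4))) :
    ∃ E : Subgroup G, Weak (S : Subgroup G) E := by
  haveI : Fact (Nat.Prime 2) := ⟨Nat.prime_two⟩
  obtain ⟨-, hK, hZ, -⟩ := Cfsg.Agent.S1248.result hF P
  set E := (Subgroup.center (S : Subgroup G)).map (S : Subgroup G).subtype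
  have hcen : ∀ z : (S : Subgroup G), z ∈ Subgroup.center (S : Subgroup G) ↔
      e z ∈ Subgroup.center (P : Subgroup (Cfsg.PSU 3 F 4)) := fun z => by
    simp only [Subgroup.mem_center_iff]
    refine ⟨fun h w => ?_, fun h w => e.injective ?_⟩
    · obtain ⟨w, rfl⟩ := e.surjective w
      rw [← map_mul, ← map_mul, h w]
    · rw [map_mul, map_mul, h (e w)]
  refine ⟨E, weak_of_iso hF P e (Subgroup.map_subtype_le _) ?_ ?_ ?_⟩
  · rw [Subgroup.card_map_of_injective (Subgroup.subtype_injective _),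
      Nat.card_congr (Subgroup.centerCongr e).toEquiv]
    exact hK.card_four
  · rintro _ ⟨z, hz, rfl⟩
    haveI := hK
    have h1 := IsKleinFour.mul_self (⟨e z, (hcen z).1 hz⟩ : Subgroup.center (P : Subgroup (Cfsg.PSU 3 F 4)))
    have h2 : e (z * z) = e 1 := by rw [map_mul, map_one]; exact congrArg Subtype.val h1
    exact congrArg Subtype.val (e.injective h2)
  · intro x hx h1
    refine ⟨⟨x, hx⟩, (hcen _).2 ?_, rfl⟩
    by_cases hx1 : e ⟨x, hx⟩ = 1
    · rw [hx1]; exact one_mem _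
    rw [hZ]
    refine Subgroup.subset_closure (orderOf_eq_prime ?_ hx1)
    rw [pow_two, ← map_mul, show (⟨x, hx⟩ : (S : Subgroup G)) * ⟨x, hx⟩ = 1 from Subtype.ext h1, map_one]

variable {S : Sylow 2 G} {E : Subgroup G}

/-- Every involution has a conjugate in `E`. -/
theorem exists_conj_E (w : Weak (S : Subgroup G) E) {x : G} (hx : orderOf x = 2) :
    ∃ g : G, g * x * g⁻¹ ∈ E := by
  haveI : Fact (Nat.Prime 2) := ⟨Nat.prime_two⟩
  obtain ⟨Q, hQ⟩ := (IsPGroup.of_card (n := 1) (by rw [Nat.card_zpowers, hx, pow_one]) :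
    IsPGroup 2 (Subgroup.zpowers x)).exists_le_sylow
  obtain ⟨c, hc⟩ := MulAction.exists_smul_eq G Q S
  refine ⟨c, w.invol _ ?_ ?_⟩
  · rw [← hc]
    exact ⟨x, hQ (Subgroup.mem_zpowers x), by simp [MulAut.smul_def]⟩
  · rw [show c * x * c⁻¹ * (c * x * c⁻¹) = c * (x * x) * c⁻¹ by group, Invol.inv_mul_self hx]; group

/-- Either some involution of `E` is isolated or they are all conjugate. -/
theorem isolated_or_fused (w : Weak (S : Subgroup G) E) :
    (∃ t ∈ E, t ≠ 1 ∧ IsIsolatedInvolution t) ∨ ∀ a ∈ E, ∀ b ∈ E, a ≠ 1 → b ≠ 1 → IsConj a b := by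
  by_cases hiso : ∃ t ∈ E, t ≠ 1 ∧ IsIsolatedInvolution t
  · exact Or.inl hiso
  refine Or.inr ?_
  have hmove : ∀ a ∈ E, a ≠ 1 → ∃ c ∈ E, c ≠ 1 ∧ c ≠ a ∧ IsConj a c := by
    intro a ha ha1
    by_contra hcon
    push Not at hcon
    refine hiso ⟨a, ha, ha1, Invol.isolated_of_sylow S (w.orderOf_two ha ha1) fun g hg => ?_⟩
    by_contra hne
    refine hcon (g * a * g⁻¹) (w.invol _ hg ?_) (fun h => ha1 (conj_eq_one_iff.1 h)) hne
      (isConj_iff.2 ⟨g, rfl⟩)
    rw [show g * a * g⁻¹ * (g * a * g⁻¹) = g * (a * a) * g⁻¹ by group, w.esq a ha]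
    group
  intro a ha b hb ha1 hb1
  by_contra hab
  have hne : a ≠ b := fun h => hab (h ▸ IsConj.refl a)
  have key : ∀ x ∈ E, x ≠ 1 → x ≠ a * b → (x = a ∨ x = b) → IsConj x (a * b) := by
    intro x hx hx1 hxab hcase
    obtain ⟨c, hc, hc1, hcx, hxc⟩ := hmove x hx hx1
    rcases w.four ha hb ha1 hb1 hne hc with rfl | rfl | rfl | rfl
    · exact absurd rfl hc1
    · rcases hcase with rfl | rfl
      · exact absurd rfl hcx
      · exact absurd hxc.symm hab
    · rcases hcase with rfl | rfl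
      · exact absurd hxc hab
      · exact absurd rfl hcx
    · exact hxc
  exact hab ((key a ha ha1 (fun h => hb1 (left_eq_mul.1 h)) (Or.inl rfl)).trans
    (key b hb hb1 (fun h => ha1 (right_eq_mul.1 h)) (Or.inr rfl)).symm)

/-- Central involutions make a 2-group neither quasi-dihedral nor wreathed. -/
theorem not_qd_wreathed {T : Type*} [Group T] (h : ∀ y : T, orderOf y = 2 → ∀ x, Commute y x) :
    ¬ Cfsg.IsQuasiDihedral T ∧ ¬ Cfsg.IsWreathed T := by
  constructor
  · rintro ⟨n, hn, -, x, y, hx, hy, hxy⟩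
    rw [(h y hy x).eq, mul_inv_cancel_right] at hxy
    have h4 : 4 ≤ 2 ^ (n - 1) := le_trans (by norm_num) (Nat.pow_le_pow_right two_pos (show 2 ≤ n - 1 by omega))
    have hlt : 2 ^ (n - 1) < 2 ^ n := Nat.pow_lt_pow_right (by norm_num) (by omega)
    have h1 : x ^ (2 ^ (n - 1) - 2) = 1 := by
      have h2 : x ^ (2 ^ (n - 1) - 1) = x ^ (2 ^ (n - 1) - 2) * x := by rw [← pow_succ]; congr 1; omega
      rw [h2] at hxy
      exact mul_eq_right.1 hxy.symm
    have := Nat.le_of_dvd (by omega) (orderOf_dvd_of_pow_eq_one h1)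
    omega
  · rintro ⟨n, hn, -, x, y, z, hx, -, hdis, hz2, hz⟩
    rw [(h z hz2 x).eq, mul_inv_cancel_right] at hz
    rw [← hz, inf_idem, Subgroup.zpowers_eq_bot] at hdis
    rw [hdis, orderOf_one] at hx
    have := Nat.one_lt_two_pow (show n ≠ 0 by omega)
    omega

/-- The four-group has two distinct involutions. -/
theorem exists_two (w : Weak (S : Subgroup G) E) :
    ∃ a ∈ E, ∃ b ∈ E, a ≠ 1 ∧ b ≠ 1 ∧ a ≠ b := by
  classical
  by_contra hcon
  push Not at hcon
  have hsub : ∀ a ∈ E, a ≠ 1 → (E : Set G) ⊆ {1, a} := fun a ha ha1 x hx => by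
    by_cases hx1 : x = 1
    · exact Or.inl hx1
    · exact Or.inr (hcon x hx a ha hx1 ha1)
  have hle : ∃ a, (E : Set G) ⊆ {1, a} := by
    by_cases h : ∃ a ∈ E, a ≠ 1
    · obtain ⟨a, ha, ha1⟩ := h
      exact ⟨a, hsub a ha ha1⟩
    · push Not at h
      exact ⟨1, fun x hx => Or.inl (h x hx)⟩
  obtain ⟨a, hle⟩ := hle
  have h := (Set.ncard_le_ncard hle (Set.toFinite _)).trans (Set.ncard_insert_le _ _)
  rw [← Nat.card_coe_set_eq, show Nat.card (E : Set G) = 4 from w.cardE, Set.ncard_singleton] at h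
  omega

section Socle

variable (w : Weak (S : Subgroup G) E) (hO : Cfsg.oddCore G = ⊥)
  (hO' : ∀ N : Subgroup G, N.Normal → Odd N.index → N = ⊤)
  (hfus : ∀ a ∈ E, ∀ b ∈ E, a ≠ 1 → b ≠ 1 → IsConj a b)
include w hO hO' hfus

theorem not_normal_E : ¬ E.Normal := by
  intro hn
  haveI : Fact (Nat.Prime 2) := ⟨Nat.prime_two⟩
  haveI := hn
  have hSC : (S : Subgroup G) ≤ Subgroup.centralizer (E : Set G) := fun x hx =>
    Subgroup.mem_centralizer_iff.2 fun e he => (w.central e he x hx).eq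
  have hC := hO' (Subgroup.centralizer (E : Set G)) Subgroup.normal_centralizer (by
    rw [Nat.odd_iff]
    have h1 : ¬ 2 ∣ (S : Subgroup G).index := S.not_dvd_index
    have h2 : ¬ 2 ∣ (Subgroup.centralizer (E : Set G)).index := fun h =>
      h1 (h.trans (Subgroup.index_dvd_of_le hSC))
    omega)
  obtain ⟨a, ha, b, hb, ha1, hb1, hab⟩ := exists_two w
  obtain ⟨g, hg⟩ := isConj_iff.1 (hfus a ha b hb ha1 hb1)
  have hgc : g ∈ Subgroup.centralizer (E : Set G) := hC ▸ Subgroup.mem_top g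
  rw [← Subgroup.mem_centralizer_iff.1 hgc a ha, mul_inv_cancel_right] at hg
  exact hab hg

/-- A nontrivial normal subgroup contains all involutions. -/
theorem invol_mem_normal {M : Subgroup G} (hMn : M.Normal) (hM : M ≠ ⊥) {x : G} (hx : orderOf x = 2) :
    x ∈ M := by
  haveI : Fact (Nat.Prime 2) := ⟨Nat.prime_two⟩
  haveI := hMn
  have heven : Even (Nat.card M) := by
    rw [← Nat.not_odd_iff_even]
    exact fun ho => hM (eq_bot_iff.2 (hO ▸ Core.le_pPrimeCore (Nat.coprime_two_right.2 ho)))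
  obtain ⟨y, hy, hy2⟩ := Invol.exists_involution_of_even heven
  obtain ⟨g, hg⟩ := exists_conj_E w hy2
  obtain ⟨h, hh⟩ := exists_conj_E w hx
  obtain ⟨k, hk⟩ := isConj_iff.1 (hfus _ hg _ hh (fun e => Invol.ne_one hy2 (conj_eq_one_iff.1 e))
    (fun e => Invol.ne_one hx (conj_eq_one_iff.1 e)))
  have : x = h⁻¹ * k * g * y * (h⁻¹ * k * g)⁻¹ := by
    calc x = h⁻¹ * (h * x * h⁻¹) * h := by group
      _ = h⁻¹ * (k * (g * y * g⁻¹) * k⁻¹) * h := by rw [hk]
      _ = _ := by group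
  rw [this]
  exact hMn.conj_mem y hy _

/-- The socle is simple. -/
theorem exists_socle : ∃ N : Subgroup G, N.Normal ∧ E ≤ N ∧ IsSimpleGroup ↥N ∧ ¬ IsMulCommutative ↥N ∧
    Subgroup.centralizer (N : Set G) = ⊥ ∧
      ∀ M : Subgroup G, M.Normal → M ≤ N → M ≠ ⊥ → M = N := by
  haveI : Fact (Nat.Prime 2) := ⟨Nat.prime_two⟩
  have hSne : (⊤ : Subgroup G) ≠ ⊥ := fun h => by
    have := Subgroup.card_dvd_of_le (le_top : (S : Subgroup G) ≤ ⊤)
    rw [h, Subgroup.card_bot, w.cardS] at this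
    omega
  obtain ⟨N, hNn, -, hNne, hmin⟩ := exists_minimal_normal (inferInstance : (⊤ : Subgroup G).Normal) hSne
  haveI := hNn
  have hEN : E ≤ N := fun x hx => by
    by_cases hx1 : x = 1
    · rw [hx1]; exact one_mem _
    · exact invol_mem_normal w hO hO' hfus hNn hNne (w.orderOf_two hx hx1)
  have hnc : ¬ IsMulCommutative N := by
    intro hc
    have hcm : ∀ a ∈ N, ∀ b ∈ N, a * b = b * a := fun a ha b hb =>
      congrArg Subtype.val (hc.is_comm.comm ⟨a, ha⟩ ⟨b, hb⟩)
    let K : Subgroup G :=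
      { carrier := {x | x ∈ N ∧ x * x = 1}
        one_mem' := ⟨one_mem _, one_mul 1⟩
        mul_mem' := by
          rintro a b ⟨ha, ha2⟩ ⟨hb, hb2⟩
          refine ⟨mul_mem ha hb, ?_⟩
          calc a * b * (a * b) = a * (b * a) * b := by group
            _ = a * a * (b * b) := by rw [hcm b hb a ha]; group
            _ = 1 := by rw [ha2, hb2, one_mul]
        inv_mem' := by
          rintro a ⟨ha, ha2⟩
          exact ⟨inv_mem ha, by rw [← mul_inv_rev, ha2, inv_one]⟩ }
    have hKn : K.Normal := ⟨fun x hx g => ⟨hNn.conj_mem x hx.1 g, by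
      rw [show g * x * g⁻¹ * (g * x * g⁻¹) = g * (x * x) * g⁻¹ by group, hx.2]; group⟩⟩
    haveI := hKn
    have hKp : IsPGroup 2 K := fun x => ⟨1, Subtype.ext (by
      rw [pow_one, pow_two]; exact x.2.2)⟩
    have hKS : K ≤ (S : Subgroup G) := hKp.le_sylow_of_normal S
    refine not_normal_E w hO hO' hfus ?_
    convert hKn
    exact le_antisymm (fun x hx => ⟨hEN hx, w.esq x hx⟩) fun x hx => w.invol x (hKS hx) hx.2
  have hC : Subgroup.centralizer (N : Set G) = ⊥ := by
    by_contra h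
    obtain ⟨a, ha, -, -, ha1, -, -⟩ := exists_two w
    have h1 := invol_mem_normal w hO hO' hfus Subgroup.normal_centralizer h (w.orderOf_two ha ha1)
    have h2 := Subgroup.mem_inf.2 ⟨hEN ha, h1⟩
    rw [Group.MinFactor.inf_centralizer hmin hnc, Subgroup.mem_bot] at h2
    exact ha1 h2
  refine ⟨N, hNn, hEN, ?_, hnc, hC, hmin⟩
  haveI : Nontrivial ↥N := (Subgroup.nontrivial_iff_ne_bot N).2 hNne
  obtain ⟨M, hM⟩ := exists_factor hNne
  have hconj : ∀ g : G, M.map (MulAut.conj g).toMonoidHom = M := by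
    intro g
    by_contra hne
    set M' := M.map (MulAut.conj g).toMonoidHom with hM'
    have hev : Even (Nat.card M) := by
      rw [← Nat.not_odd_iff_even]
      intro ho
      haveI hMnN : (M.subgroupOf N).Normal := ⟨fun a ha n =>
        Subgroup.mem_subgroupOf.2 (hM.norm n n.2 a (Subgroup.mem_subgroupOf.1 ha))⟩
      have h1 : M.subgroupOf N ≤ Cfsg.oddCore ↥N := Core.le_pPrimeCore (by
        rw [Nat.card_congr (Subgroup.subgroupOfEquivOfLe hM.le).toEquiv]
        exact Nat.coprime_two_right.2 ho)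
      haveI : ((Cfsg.oddCore ↥N).map N.subtype).Normal := Core.normal_map_char_of_normal _
      have h2 : (Cfsg.oddCore ↥N).map N.subtype ≤ Cfsg.oddCore G := Core.le_pPrimeCore (by
        rw [Subgroup.card_map_of_injective (Subgroup.subtype_injective _)]
        exact Nat.coprime_two_right.2 odd_oddCore_card)
      refine hM.ne (eq_bot_iff.2 fun x hx => ?_)
      have h3 := h2 ⟨⟨x, hM.le hx⟩, h1 (Subgroup.mem_subgroupOf.2 hx), rfl⟩
      rwa [hO] at h3
    obtain ⟨a, ha, ha2⟩ := Invol.exists_involution_of_even hev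
    set b := g * a * g⁻¹ with hb
    have hbM : b ∈ M' := ⟨a, ha, rfl⟩
    have hM'f : Factor N M' := hM.conj g
    have hcomm : Commute a b := hM.commute hM'f (Ne.symm hne) ha hbM
    have hb2 : orderOf b = 2 := by rw [hb, Invol.orderOf_conj_eq, ha2]
    have hdisj : ∀ {R R' : Subgroup G}, Factor N R → Factor N R' → R ≠ R' → ∀ x ∈ R, x ∈ R' → x = 1 := by
      intro R R' hR hR' hRR' x hx hx'
      have h1 : x ∈ R ⊓ Subgroup.centralizer (R : Set G) :=
        Subgroup.mem_inf.2 ⟨hx, Subgroup.mem_centralizer_iff.2 fun y hy => (hR.commute hR' hRR' hy hx').eq⟩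
      rwa [hR.inf_centralizer hmin hnc, Subgroup.mem_bot] at h1
    have hab1 : a * b ≠ 1 := fun h => Invol.ne_one ha2 (hdisj hM hM'f (Ne.symm hne) a ha (by
      rw [eq_inv_of_mul_eq_one_left h]; exact inv_mem hbM))
    have hab2 : orderOf (a * b) = 2 := orderOf_eq_prime (by
      rw [hcomm.mul_pow, pow_two, pow_two, Invol.inv_mul_self ha2, Invol.inv_mul_self hb2, one_mul]) hab1
    obtain ⟨h, hh⟩ := exists_conj_E w ha2
    obtain ⟨h', hh'⟩ := exists_conj_E w hab2
    obtain ⟨k, hk⟩ := isConj_iff.1 (hfus _ hh _ hh' (fun e => Invol.ne_one ha2 (conj_eq_one_iff.1 e))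
      (fun e => hab1 (conj_eq_one_iff.1 e)))
    set M'' := M.map (MulAut.conj (h'⁻¹ * k * h)).toMonoidHom
    have habM : a * b ∈ M'' := ⟨a, ha, by
      show h'⁻¹ * k * h * a * (h'⁻¹ * k * h)⁻¹ = a * b
      calc h'⁻¹ * k * h * a * (h'⁻¹ * k * h)⁻¹ = h'⁻¹ * (k * (h * a * h⁻¹) * k⁻¹) * h' := by group
        _ = h'⁻¹ * (h' * (a * b) * h'⁻¹) * h' := by rw [hk]
        _ = a * b := by group⟩
    have hM''f : Factor N M'' := hM.conj _
    by_cases e1 : M'' = M
    · rw [e1] at habM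
      exact Invol.ne_one hb2 (hdisj hM hM'f (Ne.symm hne) b
        (by simpa using mul_mem (inv_mem ha) habM) hbM)
    by_cases e2 : M'' = M'
    · rw [e2] at habM
      exact Invol.ne_one ha2 (hdisj hM hM'f (Ne.symm hne) a ha
        (by simpa using mul_mem habM (inv_mem hbM)))
    refine hab1 ?_
    have h1 : a * b ∈ M'' ⊓ Subgroup.centralizer (M'' : Set G) :=
      Subgroup.mem_inf.2 ⟨habM, Subgroup.mem_centralizer_iff.2 fun y hy =>
        ((hM''f.commute hM e1 hy ha).mul_right (hM''f.commute hM'f e2 hy hbM)).eq⟩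
    rwa [hM''f.inf_centralizer hmin hnc, Subgroup.mem_bot] at h1
  have hMn : M.Normal := ⟨fun a ha g => by
    have h1 : g * a * g⁻¹ ∈ M.map (MulAut.conj g).toMonoidHom := ⟨a, ha, rfl⟩
    rwa [hconj g] at h1⟩
  have hMN : M = N := hmin M hMn hM.le hM.ne
  refine IsSimpleGroup.mk fun R hR => ?_
  by_cases hb : R = ⊥
  · exact Or.inl hb
  refine Or.inr ?_
  have hRM := hM.min (R.map N.subtype) (by rw [hMN]; exact Subgroup.map_subtype_le R) (by
    rintro n hn _ ⟨r, hr, rfl⟩
    exact ⟨⟨n, hn⟩ * r * ⟨n, hn⟩⁻¹, hR.conj_mem r hr _, rfl⟩)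
    (fun e => hb ((Subgroup.map_eq_bot_iff_of_injective _ (Subgroup.subtype_injective N)).1 e))
  rw [hMN] at hRM
  refine eq_top_iff.2 fun x _ => ?_
  have hx : (x : G) ∈ R.map N.subtype := by rw [hRM]; exact x.2
  obtain ⟨r, hr, he⟩ := hx
  exact Subtype.ext he ▸ hr

end Socle

/-- The Sylow subgroup of a normal subgroup is its meet with `S`. -/
theorem exists_sylow_inter (S : Sylow 2 G) (N : Subgroup G) [N.Normal] :
    ∃ T : Sylow 2 ↥N, (T : Subgroup ↥N) = (S : Subgroup G).subgroupOf N := by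
  haveI : Fact (Nat.Prime 2) := ⟨Nat.prime_two⟩
  obtain ⟨R⟩ : Nonempty (Sylow 2 ↥N) := inferInstance
  obtain ⟨Q, hQ⟩ := R.exists_comap_subtype_eq
  obtain ⟨g, hg⟩ := MulAction.exists_smul_eq G Q S
  have hNn : N.Normal := inferInstance
  let φ : ↥((Q : Subgroup G).comap N.subtype) ≃ ↥((S : Subgroup G).subgroupOf N) :=
    { toFun := fun x => ⟨⟨g * x.1.1 * g⁻¹, hNn.conj_mem _ x.1.2 g⟩, by
        show g * x.1.1 * g⁻¹ ∈ (S : Subgroup G)
        rw [← hg]; exact ⟨x.1.1, x.2, by simp [MulAut.smul_def]⟩⟩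
      invFun := fun y => ⟨⟨g⁻¹ * y.1.1 * g, by simpa using hNn.conj_mem _ y.1.2 g⁻¹⟩, by
        show g⁻¹ * y.1.1 * g ∈ (Q : Subgroup G)
        have hy : y.1.1 ∈ ((g • Q : Sylow 2 G) : Subgroup G) := by rw [hg]; exact y.2
        obtain ⟨q, hq, he⟩ := hy
        rw [← he]
        simp [MulAut.smul_def, mul_assoc]
        exact hq⟩
      left_inv := fun x => Subtype.ext (Subtype.ext (by simp [mul_assoc]))
      right_inv := fun y => Subtype.ext (Subtype.ext (by simp [mul_assoc])) }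
  refine ⟨Sylow.ofCard ((S : Subgroup G).subgroupOf N) ?_, rfl⟩
  rw [← Nat.card_congr φ, hQ]
  exact R.card_eq_multiplicity

theorem index_ge {N : Subgroup G} [N.Normal] (T : Sylow 2 ↥N) (hT : Nat.card (T : Subgroup ↥N) = 4)
    (h64 : 64 ∣ Nat.card G) : 16 ∣ N.index := by
  haveI : Fact (Nat.Prime 2) := ⟨Nat.prime_two⟩
  have h1 := (T : Subgroup ↥N).card_mul_index
  have h2 := N.card_mul_index
  rw [hT] at h1
  rw [← h2, ← h1, mul_assoc, show (64 : ℕ) = 4 * 16 by norm_num] at h64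
  have h3 := Nat.dvd_of_mul_dvd_mul_left (by norm_num) h64
  have h4 : Nat.Coprime 16 (T : Subgroup ↥N).index := by
    rw [show (16 : ℕ) = 2 ^ 4 by norm_num]
    exact Nat.Coprime.pow_left 4 ((Nat.prime_two.coprime_iff_not_dvd).2 T.not_dvd_index)
  exact h4.dvd_of_dvd_mul_left h3

/-- An extension of `PSL₂(q)`, `q ≡ 3, 5 (mod 8)`, has index not divisible by four. -/
theorem not_sixteen_dvd_index {K : Type} [Field K] [Fintype K] {N : Subgroup G} [N.Normal]
    (e : N ≃* Matrix.ProjectiveSpecialLinearGroup (Fin 2) K)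
    (h8 : Fintype.card K % 8 = 3 ∨ Fintype.card K % 8 = 5) (hC : Subgroup.centralizer (N : Set G) = ⊥) :
    ¬ 16 ∣ N.index := by
  obtain ⟨p, hp, f, hpp, hF⟩ := FiniteField.card' K
  haveI : Fact p.Prime := ⟨hpp⟩
  have hodd : Odd (Fintype.card K) := by rw [Nat.odd_iff]; omega
  have hfo : Odd (f : ℕ) := by
    by_contra hev
    obtain ⟨j, hj⟩ := Nat.not_odd_iff_even.1 hev
    rw [hF, hj, pow_add] at h8 hodd
    obtain ⟨i, hi⟩ := (Nat.odd_mul.1 hodd).1
    rw [hi] at h8
    obtain ⟨r, hr⟩ := Nat.even_mul_succ_self i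
    rw [show (2 * i + 1) * (2 * i + 1) = 4 * (i * (i + 1)) + 1 by ring, hr] at h8
    omega
  open Cfsg.Lib.GW Cfsg.Lib.Linear.AutPSL Cfsg.Lib.Linear.Descent in
  obtain ⟨GE⟩ := exists_galEquiv f.pos hF
  open Cfsg.Lib.GW Cfsg.Lib.Linear.AutPSL Cfsg.Lib.Linear.Descent in
  have key : (PGL.diag e).index ∣ (f : ℕ) := by
    choose A σ hσ using fun x : G => PGL.exists_decomp_two (PGL.autHom e x)
    have huniq : ∀ x (B : GL (Fin 2) K) (τ : K ≃+* K),
        PGL.autHom e x = innd B * fld τ → σ x = τ := fun x B τ h =>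
      fld_eq_of_eq (n := 2) le_rfl ((hσ x).symm.trans h)
    let ψ : G →* (K ≃+* K) := MonoidHom.mk' σ fun x y => huniq _ (A x * sm (σ x) (A y)) _ (by
      rw [map_mul (PGL.autHom e), hσ x, hσ y, map_mul, map_mul, ← mul_assoc, mul_assoc (innd (A x)),
        fld_mul_innd']
      simp only [mul_assoc])
    have hker : ψ.ker = PGL.diag e := by
      ext x
      rw [MonoidHom.mem_ker]
      constructor
      · intro h
        refine ⟨A x, ?_⟩
        rw [hσ x, show σ x = 1 from h, map_one, mul_one]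
      · rintro ⟨B, hB⟩
        exact huniq x B 1 (by rw [map_one, mul_one, hB])
    rw [← hker, Subgroup.index_ker]
    refine (Subgroup.card_subgroup_dvd_card _).trans ?_
    rw [Nat.card_congr GE.toEquiv, Nat.card_congr Multiplicative.toAdd, Nat.card_zmod]
  intro h16
  rw [← Subgroup.relIndex_mul_index (GW.PGL.le_diag e)] at h16
  have h16' : 16 ∣ N.relIndex (GW.PGL.diag e) := by
    refine Nat.Coprime.dvd_of_dvd_mul_right ?_ h16
    rw [show (16 : ℕ) = 2 ^ 4 by norm_num]
    exact Nat.Coprime.pow_left 4 (Nat.coprime_two_left.2 (hfo.of_dvd_nat key))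
  have h2 := GW.PGL.relIndex_diag_le e hodd hC
  have h0 : N.relIndex (GW.PGL.diag e) ≠ 0 := fun h => by
    have h1 := Subgroup.relIndex_mul_index (GW.PGL.le_diag e)
    rw [h, zero_mul] at h1
    exact Subgroup.index_ne_zero_of_finite h1.symm
  have := Nat.le_of_dvd (Nat.pos_of_ne_zero h0) h16'
  omega

/-- The reduced statement. -/
theorem iso_or_top (hO : Cfsg.oddCore G = ⊥) (hO' : ∀ N : Subgroup G, N.Normal → Odd N.index → N = ⊤)
    (S : Sylow 2 G) {F : Type v} [Field F] [Fintype F] (hF : Fintype.card F = 16)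
    (P : Sylow 2 (Cfsg.PSU 3 F 4)) (e : (S : Subgroup G) ≃* (P : Subgroup (Cfsg.PSU 3 F 4))) :
    Nonempty (G ≃* Cfsg.PSU 3 F 4) ∨ (S : Subgroup G) = ⊤ := by
  haveI : Fact (Nat.Prime 2) := ⟨Nat.prime_two⟩
  obtain ⟨E, w⟩ := exists_weak S hF P e
  have hSidx : Odd (S : Subgroup G).index := by
    rw [Nat.odd_iff]; have := S.not_dvd_index; omega
  rcases isolated_or_fused w with ⟨t, ht, ht1, hiso⟩ | hfus
  · refine Or.inr (hO' _ ?_ hSidx)
    have hc := ZStar.mem_center_of_isolated hO hiso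
    have h := core_sup_sylow_normal (Nat.card G) G le_rfl S E w t ht ht1
      fun g => (Subgroup.mem_center_iff.1 hc g).symm
    rwa [hO, bot_sup_eq] at h
  refine Or.inl ?_
  obtain ⟨N, hNn, hEN, hNs, hnc, hC, hmin⟩ := exists_socle w hO hO' hfus
  haveI := hNn
  haveI := hNs
  obtain ⟨T, hT⟩ := exists_sylow_inter S N
  have hTmem : ∀ {x : ↥N}, x ∈ (T : Subgroup ↥N) ↔ (x : G) ∈ (S : Subgroup G) := fun {x} => by
    rw [hT, Subgroup.mem_subgroupOf]
  have hinvT : ∀ y : (T : Subgroup ↥N), y * y = 1 → ((y : ↥N) : G) ∈ E := fun y hy =>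
    w.invol _ (hTmem.1 y.2) (congrArg (fun z : (T : Subgroup ↥N) => ((z : ↥N) : G)) hy)
  have hcenT : ∀ y : (T : Subgroup ↥N), y * y = 1 → ∀ x, Commute y x := fun y hy x =>
    Subtype.ext (Subtype.ext (w.central _ (hinvT y hy) _ (hTmem.1 x.2)).eq)
  have hrank : Cfsg.PRankLE 2 2 ↥N := by
    intro A hA hexp
    have hp : IsPGroup 2 ↥A := fun a => ⟨1, Subtype.ext (by
      rw [pow_one, SubgroupClass.coe_pow]; exact hexp a a.2)⟩
    obtain ⟨R, hR⟩ := hp.exists_le_sylow
    obtain ⟨g, hg⟩ := MulAction.exists_smul_eq ↥N R T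
    have hsub : (A.map (MulAut.conj g).toMonoidHom).map N.subtype ≤ E := by
      rintro _ ⟨_, ⟨a, ha, rfl⟩, rfl⟩
      have hmem : g * a * g⁻¹ ∈ (T : Subgroup ↥N) := by
        rw [← hg]; exact ⟨a, hR ha, by simp [MulAut.smul_def]⟩
      refine hinvT ⟨_, hmem⟩ (Subtype.ext ?_)
      show g * a * g⁻¹ * (g * a * g⁻¹) = 1
      rw [show g * a * g⁻¹ * (g * a * g⁻¹) = g * (a * a) * g⁻¹ by group, ← pow_two, hexp a ha]; group
    have h := Subgroup.card_le_of_le hsub
    rw [Subgroup.card_map_of_injective (Subgroup.subtype_injective _),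
      Subgroup.card_map_of_injective (MulAut.conj g).injective, w.cardE] at h
    exact h.trans (by norm_num)
  obtain ⟨hq, hw⟩ := not_qd_wreathed (T := (T : Subgroup ↥N))
    fun y hy => hcenT y (Invol.inv_mul_self hy)
  rcases Cfsg.Agent.S0516.result hnc hrank T hF P with ⟨n, hn, ⟨i⟩⟩ | hq' | hw' | ⟨⟨i⟩⟩
  · exfalso
    have hn2 : n = 2 := by
      have hsr : ∀ j : ZMod n, i.symm (DihedralGroup.sr j) * i.symm (DihedralGroup.sr j) = 1 := fun j => by
        rw [← map_mul, DihedralGroup.sr_mul_self, map_one]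
      have h1 : DihedralGroup.sr (0 : ZMod n) * DihedralGroup.sr 1 =
          DihedralGroup.sr 1 * DihedralGroup.sr 0 := i.symm.injective (by
        rw [map_mul, map_mul]; exact (hcenT _ (hsr 0) _).eq)
      rw [DihedralGroup.sr_mul_sr, DihedralGroup.sr_mul_sr, DihedralGroup.r.injEq] at h1
      have h2 : ((2 : ℕ) : ZMod n) = 0 := by
        push_cast
        linear_combination h1
      have := Nat.le_of_dvd two_pos ((ZMod.natCast_eq_zero_iff 2 n).1 h2)
      omega
    subst hn2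
    have h4 : Nat.card (T : Subgroup ↥N) = 4 := by
      rw [Nat.card_congr i.toEquiv, DihedralGroup.nat_card]
    have hexp : ∀ x ∈ (T : Subgroup ↥N), x ^ 2 = 1 := by
      intro x hx
      have hd : ∀ d : DihedralGroup 2, d ^ 2 = 1 := by decide
      have := congrArg (fun y : ↥(T : Subgroup ↥N) => (y : ↥N)) (i.injective (show i (⟨x, hx⟩ ^ 2) = i 1 by
        rw [map_pow, map_one]; exact hd _))
      simpa using this
    obtain ⟨K, hK1, hK2, -, h8, ⟨j⟩⟩ := CompOrd.psl_of_sylow_four hnc T h4 hexp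
    refine not_sixteen_dvd_index j h8 hC (index_ge T h4 ?_)
    rw [← w.cardS]
    exact Subgroup.card_subgroup_dvd_card _
  · exact absurd hq' hq
  · exact absurd hw' hw
  · have h64 : Nat.card (T : Subgroup ↥N) = 64 :=
      (Nat.card_congr i.toEquiv).trans (Cfsg.Agent.S1248.result hF P).1
    have hSN : (S : Subgroup G) ≤ N := by
      have hle : (T : Subgroup ↥N).map N.subtype ≤ (S : Subgroup G) := by
        rintro _ ⟨x, hx, rfl⟩; exact hTmem.1 hx
      have heq := Subgroup.eq_of_le_of_card_ge hle (by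
        rw [Subgroup.card_map_of_injective (Subgroup.subtype_injective _), h64, w.cardS])
      exact heq ▸ Subgroup.map_subtype_le _
    have htop : N = ⊤ := hO' N hNn (hSidx.of_dvd_nat (Subgroup.index_dvd_of_le hSN))
    subst htop
    haveI : Nontrivial G := by
      rw [← Finite.one_lt_card_iff_nontrivial]
      exact lt_of_lt_of_le (by rw [w.cardS]; norm_num) (Subgroup.card_le_card_group (S : Subgroup G))
    haveI : IsSimpleGroup G := ⟨fun M hM => by
      by_cases hb : M = ⊥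
      · exact Or.inl hb
      · exact Or.inr (hmin M hM le_top hb)⟩
    exact iso_of_simple (fun hc => hnc ⟨⟨fun a b => Subtype.ext (hc.is_comm.comm _ _)⟩⟩) S hF P e

end Cfsg.Lib.U34Type
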