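import Cfsg.Agent.Lib.U34Type.Final

/-!
# The recognition of `U₃(4)` among simple groups by the Sylow 2-subgroup
-/

set_option autoImplicit false
set_option linter.unusedSectionVars false
set_option linter.style.haveILetI false

namespace Cfsg.Lib.U34Type

open Cfsg Cfsg.Lib

universe u v

/-- A Sylow subgroup of `PSU₃(4)` over the standard field has the same type as over any field of order 16. -/
theorem exists_model {F : Type v} [Field F] [Fintype F] (hF : Fintype.card F = 16)
    (P : Sylow 2 (Cfsg.PSU 3 F 4)) :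
    ∃ (_ : Fintype (GaloisField 2 4)) (P' : Sylow 2 (Cfsg.PSU 3 (GaloisField 2 4) 4)),
      Fintype.card (GaloisField 2 4) = 16 ∧ Nonempty ((P : Subgroup (Cfsg.PSU 3 F 4)) ≃*
        (P' : Subgroup (Cfsg.PSU 3 (GaloisField 2 4) 4))) := by
  haveI : Fact (Nat.Prime 2) := ⟨Nat.prime_two⟩
  haveI : Fintype (GaloisField 2 4) := Fintype.ofFinite _
  have h16 : Fintype.card (GaloisField 2 4) = 16 := by
    rw [← Nat.card_eq_fintype_card, GaloisField.card 2 4 (by norm_num)]; norm_num
  let e := Linear.Mitchell.Sub3.psuCongr 3 4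
    (FiniteField.ringEquivOfCardEq (K := F) (K' := GaloisField 2 4) (hF.trans h16.symm))
  let P' : Sylow 2 (Cfsg.PSU 3 (GaloisField 2 4) 4) := P.mapSurjective (f := e.toMonoidHom) e.surjective
  exact ⟨inferInstance, P', h16, ⟨e.subgroupMap (P : Subgroup (Cfsg.PSU 3 F 4))⟩⟩

variable {G : Type u} [Group G] [Finite G] [IsSimpleGroup G]

/-- The standing assumptions hold in a noncommutative simple group with a Sylow subgroup of this type. -/
theorem exists_std (hna : ¬ IsMulCommutative G) (S : Sylow 2 G) {F : Type v} [Field F] [Fintype F]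
    (hF : Fintype.card F = 16) (P : Sylow 2 (Cfsg.PSU 3 F 4))
    (e : (S : Subgroup G) ≃* (P : Subgroup (Cfsg.PSU 3 F 4))) : ∃ E : Subgroup G, Std S E := by
  obtain ⟨hf, P', h16, ⟨i⟩⟩ := exists_model hF P
  obtain ⟨E, hE⟩ := StrongEmb.RankTwo.exists_three hna S h16 P' (e.trans i)
  have hs := PiHom.U34.shape_of_iso hE h16 P' (e.trans i)
  exact ⟨E, hna, weak_of_iso h16 P' (e.trans i) hs.le hs.cardE hs.esq hs.invol, hs⟩

/-- A noncommutative simple group with a Sylow 2-subgroup of the type of `U₃(4)` is that group. -/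
theorem iso_of_simple (hna : ¬ IsMulCommutative G) (S : Sylow 2 G) {F : Type v} [Field F] [Fintype F]
    (hF : Fintype.card F = 16) (P : Sylow 2 (Cfsg.PSU 3 F 4))
    (e : (S : Subgroup G) ≃* (P : Subgroup (Cfsg.PSU 3 F 4))) : Nonempty (G ≃* Cfsg.PSU 3 F 4) := by
  obtain ⟨E, d⟩ := exists_std hna S hF P e
  exact iso_psu d hF

end Cfsg.Lib.U34Type
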