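import Cfsg.Agent.Lib.PiHom.U34.Cent

/-!
# The weak shape of the Sylow 2-subgroup of `U₃(4)`

Unlike `PiHom.U34.Shape` nothing is said about fusion, so it passes to subgroups and to quotients of odd
kernel.
-/

set_option autoImplicit false
set_option linter.unusedSectionVars false
set_option linter.style.haveILetI false

namespace Cfsg.Lib.U34Type

open Cfsg Cfsg.Lib

universe u v

variable {G : Type u} [Group G] {H : Type v} [Group H]

/-- Order 64, the involutions form a central four-group holding squares and commutators, and no two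
elements outside it have the same square as their commutator. -/
structure Weak (S E : Subgroup G) : Prop where
  le : E ≤ S
  cardS : Nat.card S = 64
  cardE : Nat.card E = 4
  esq : ∀ e ∈ E, e * e = 1
  invol : ∀ x ∈ S, x * x = 1 → x ∈ E
  central : ∀ e ∈ E, ∀ x ∈ S, Commute e x
  sq : ∀ x ∈ S, x * x ∈ E
  comm : ∀ x ∈ S, ∀ y ∈ S, x * y * x⁻¹ * y⁻¹ ∈ E
  noQ8 : ∀ x ∈ S, ∀ y ∈ S, x ∉ E → y ∉ E → x * x = y * y → x * y * x⁻¹ * y⁻¹ ≠ x * x

namespace Weak

variable {S E : Subgroup G}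

theorem card_map {f : G →* H} {T K : Subgroup G} (hf : ∀ x ∈ T, ∀ y ∈ T, f x = f y → x = y)
    (hK : K ≤ T) : Nat.card (K.map f) = Nat.card K := by
  refine (Nat.card_congr (Equiv.ofBijective (fun k : K => (⟨f k, k, k.2, rfl⟩ : K.map f)) ⟨?_, ?_⟩)).symm
  · exact fun a b h => Subtype.ext (hf a (hK a.2) b (hK b.2) (congrArg Subtype.val h))
  · rintro ⟨_, k, hk, rfl⟩
    exact ⟨⟨k, hk⟩, rfl⟩

/-- The shape passes along a homomorphism injective on the group. -/
theorem map (w : Weak S E) {f : G →* H} (hf : ∀ x ∈ S, ∀ y ∈ S, f x = f y → x = y) :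
    Weak (S.map f) (E.map f) := by
  have hmem : ∀ x ∈ S, f x ∈ E.map f → x ∈ E := by
    rintro x hx ⟨e, he, hxe⟩
    exact hf e (w.le he) x hx hxe ▸ he
  refine ⟨Subgroup.map_mono w.le, (card_map hf le_rfl).trans w.cardS,
    (card_map hf w.le).trans w.cardE, ?_, ?_, ?_, ?_, ?_, ?_⟩
  · rintro _ ⟨e, he, rfl⟩
    rw [← map_mul, w.esq e he, map_one]
  · rintro _ ⟨x, hx, rfl⟩ h
    rw [← map_mul, ← map_one f] at h
    exact ⟨x, w.invol x hx (hf _ (mul_mem hx hx) _ (one_mem _) h), rfl⟩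
  · rintro _ ⟨e, he, rfl⟩ _ ⟨x, hx, rfl⟩
    exact (w.central e he x hx).map f
  · rintro _ ⟨x, hx, rfl⟩
    exact ⟨x * x, w.sq x hx, map_mul f x x⟩
  · rintro _ ⟨x, hx, rfl⟩ _ ⟨y, hy, rfl⟩
    exact ⟨_, w.comm x hx y hy, by simp⟩
  · rintro _ ⟨x, hx, rfl⟩ _ ⟨y, hy, rfl⟩ hxE hyE hsq hc
    have hxE' : x ∉ E := fun h => hxE ⟨x, h, rfl⟩
    have hyE' : y ∉ E := fun h => hyE ⟨y, h, rfl⟩
    rw [← map_mul, ← map_mul] at hsq
    refine w.noQ8 x hx y hy hxE' hyE' (hf _ (mul_mem hx hx) _ (mul_mem hy hy) hsq) ?_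
    refine hf _ (mul_mem (mul_mem (mul_mem hx hy) (inv_mem hx)) (inv_mem hy)) _ (mul_mem hx hx) ?_
    simpa using hc

/-- The shape in a subgroup containing the Sylow subgroup. -/
theorem subgroupOf (w : Weak S E) {K : Subgroup G} (hK : S ≤ K) :
    Weak (S.subgroupOf K) (E.subgroupOf K) := by
  refine ⟨fun x hx => w.le hx, (Nat.card_congr (Subgroup.subgroupOfEquivOfLe hK).toEquiv).trans w.cardS,
    (Nat.card_congr (Subgroup.subgroupOfEquivOfLe (w.le.trans hK)).toEquiv).trans w.cardE,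
    fun e he => Subtype.ext (w.esq e he), fun x hx h => w.invol x hx (congrArg Subtype.val h),
    fun e he x hx => Subtype.ext (w.central e he x hx).eq, fun x hx => w.sq x hx,
    fun x hx y hy => w.comm x hx y hy, fun x hx y hy hxE hyE h hc =>
      w.noQ8 x hx y hy hxE hyE (congrArg Subtype.val h) (congrArg Subtype.val hc)⟩

theorem inv_eq (w : Weak S E) {e : G} (he : e ∈ E) : e⁻¹ = e :=
  inv_eq_of_mul_eq_one_right (w.esq e he)

/-- Two distinct involutions of the four-group determine it. -/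
theorem four [Finite G] (w : Weak S E) {a b z : G} (ha : a ∈ E) (hb : b ∈ E) (ha1 : a ≠ 1)
    (hb1 : b ≠ 1) (hab : a ≠ b) (hz : z ∈ E) : z = 1 ∨ z = a ∨ z = b ∨ z = a * b := by
  classical
  have h1b : a * b ≠ 1 := fun h => hab (by
    rw [eq_inv_of_mul_eq_one_left h, w.inv_eq hb])
  by_contra hcon
  push Not at hcon
  have h5 : ({1, a, b, a * b, z} : Finset G).card = 5 := by
    rw [Finset.card_insert_of_notMem, Finset.card_insert_of_notMem, Finset.card_insert_of_notMem,
      Finset.card_insert_of_notMem, Finset.card_singleton]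
    · simp [Ne.symm hcon.2.2.2]
    · simp [Ne.symm hcon.2.2.1, ha1]
    · simp [hab, Ne.symm hcon.2.1, hb1]
    · simp [Ne.symm ha1, Ne.symm hb1, Ne.symm h1b, Ne.symm hcon.1]
  have hle : ({1, a, b, a * b, z} : Set G) ⊆ (E : Set G) := by
    rintro y (rfl | rfl | rfl | rfl | rfl)
    exacts [one_mem _, ha, hb, mul_mem ha hb, hz]
  have h := Set.ncard_le_ncard hle (Set.toFinite _)
  rw [show ({1, a, b, a * b, z} : Set G) = (({1, a, b, a * b, z} : Finset G) : Set G) by simp,
    Set.ncard_coe_finset, h5, ← Nat.card_coe_set_eq, show Nat.card (E : Set G) = 4 from w.cardE] at h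
  omega

theorem orderOf_two (w : Weak S E) {e : G} (he : e ∈ E) (he1 : e ≠ 1) : orderOf e = 2 :=
  orderOf_eq_prime (by rw [pow_two]; exact w.esq e he) he1

end Weak

end Cfsg.Lib.U34Type
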